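import Groth.Agent.AlgSp.K601.StageQuot
import Groth.Agent.AlgSp.K600.LimRep
import Groth.Agent.AlgSp.K605.ImmMain
import Groth.Agent.S0591

/-!
# Descent of algebraic spaces of finite presentation to a stage of a cofiltered limit
-/

set_option autoImplicit false
set_option backward.isDefEq.respectTransparency false
universe u

open CategoryTheory CategoryTheory.Limits AlgebraicGeometry Opposite
open AlgSp

namespace K601.FpDesc

open K605.LfpLim K601.RelAff K601.RelDesc K601.PbDiag K601.StageMor K600.LimSys K601.StageRel K601.StageQuot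

section scheme

variable {I : Type u} [SmallCategory I] [IsCofiltered I] (E : I ⥤ Scheme.{u}) (c : Cone E) (hc : IsLimit c)

include hc in
/-- An affine scheme of finite presentation over an affine limit comes from a stage. -/
theorem exists_descend_affine (hE : ∀ i, IsAffine (E.obj i)) {W : Scheme.{u}} (p : W ⟶ c.pt)
    [IsAffine W] [LocallyOfFinitePresentation p] :
    ∃ (i : I) (W₀ : Scheme.{u}) (p₀ : W₀ ⟶ E.obj i) (q : W ⟶ W₀), IsAffine W₀ ∧
      LocallyOfFinitePresentation p₀ ∧ IsPullback q p p₀ (c.π.app i) := by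
  have hEa : ∀ (i j : I) (f : i ⟶ j), IsAffineHom (E.map f) := fun i j f => by
    have := hE i; have := hE j; infer_instance
  have hT : IsAffine c.pt := Scheme.isAffine_of_isLimit _ hc
  obtain ⟨i, Xi, fi, g, h1, h2, h3, h4⟩ := Groth.Agent.S0591.result E c hc W p
  -- make it affine
  let F := Groth.Agent.Smoothlim.LimBase.pbDiag E i fi
  let cF : Cone F := Groth.Agent.Smoothlim.LimBase.pbCone i fi c g p h4.toCommSq
  have hcF : IsLimit cF := Groth.Agent.Smoothlim.LimBase.isLimitPbCone i fi c hc g p h4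
  have hFa : ∀ {a b : Over i} (f : a ⟶ b), IsAffineHom (F.map f) := fun f =>
    Groth.Agent.Smoothlim.LimBase.isAffineHom_pbDiag_map E i fi f
  have hFq (a : Over i) : QuasiCompact (pullback.snd fi (E.map a.hom)) := MorphismProperty.pullback_snd _ _ h2
  have hFs (a : Over i) : QuasiSeparated (pullback.snd fi (E.map a.hom)) := MorphismProperty.pullback_snd _ _ h3
  have hFc (a : Over i) : CompactSpace (F.obj a) := by
    have := hE a.left
    exact QuasiCompact.compactSpace_of_compactSpace (pullback.snd fi (E.map a.hom))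
  have hFqs (a : Over i) : QuasiSeparatedSpace (F.obj a) := by
    have := hE a.left
    exact quasiSeparatedSpace_of_quasiSeparated (pullback.snd fi (E.map a.hom))
  have : IsAffine cF.pt := ‹IsAffine W›
  obtain ⟨a, ha⟩ := Scheme.exists_isAffine_of_isLimit F cF hcF
  let fj : pullback fi (E.map a.hom) ⟶ E.obj a.left := pullback.snd fi (E.map a.hom)
  have hfj : LocallyOfFinitePresentation fj := MorphismProperty.pullback_snd _ _ h1
  have hj : IsPullback (cF.π.app a) p fj (c.π.app a.left) := by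
    have h5 : IsPullback (pullback.fst fi (E.map a.hom)) (pullback.snd fi (E.map a.hom)) fi (E.map a.hom) :=
      IsPullback.of_hasPullback _ _
    have h6 : IsPullback (cF.π.app a ≫ pullback.fst fi (E.map a.hom)) p fi (c.π.app a.left ≫ E.map a.hom) := by
      have e1 : cF.π.app a ≫ pullback.fst fi (E.map a.hom) = g := pullback.lift_fst _ _ _
      rw [e1, c.w]
      exact h4
    exact IsPullback.of_right h6 (pullback.lift_snd _ _ _) h5
  exact ⟨a.left, _, fj, _, ha, hfj, hj⟩

end scheme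

variable {S : Scheme.{u}} {I : Type u} [SmallCategory I] {D : I ⥤ Sp S} {c : Cone D}

theorem isQuasiSeparatedSp_yon {T : Over S} [QuasiSeparatedSpace T.left] : IsQuasiSeparatedSp ((yon S).obj T) := by
  refine (repWith_diag_yon_iff _ _).2 ?_
  have : QuasiSeparated T.hom := inferInstance
  exact QuasiSeparated.quasiCompact_diagonal

/-- `LocP` for maps of schemes. -/
theorem locP_yon {P : MorphismProperty Scheme.{u}} [P.IsStableUnderBaseChange] (hP : K597.EtLoc P) {U V : Over S}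
    {f : U ⟶ V} (h : P f.left) : LocP P ((yon S).map f) :=
  K597.locP_of_repWith hP.precomp ((repWith_yon_map_iff _ _).2 h)

/-- Descent of an affine chart. -/
theorem exists_chart [IsCofiltered I] (hD : ∀ i, IsAlgSpace (D.obj i)) (hc : IsLimit c) {i₀ : I} {V₀ : Over S}
    {v : (yon S).obj V₀ ⟶ D.obj i₀} (s : Sys D i₀ v) (hs : ∀ j, IsAffine (s.obj j).left) (hv : RepWith @Etale v)
    {V : Over S} {a : (yon S).obj V ⟶ c.pt} {b : V ⟶ V₀} (sq : IsPullback a ((yon S).map b) (c.π.app i₀) v)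
    {U : Over S} (hU : IsAffine U.left) (g : U ⟶ V) (hg : LocallyOfFinitePresentation g.left) :
    ∃ (i : I) (W : Over S) (u₀ : (yon S).obj W ⟶ D.obj i) (q : U ⟶ W), IsAffine W.left ∧
      LocP @LocallyOfFinitePresentation u₀ ∧ IsPullback ((yon S).map q) ((yon S).map g ≫ a) u₀ (c.π.app i) := by
  have h1 := s.isLimitConeLeft sq hc
  obtain ⟨j, W₀, p₀, q₀, hW₀, hp₀, sq₀⟩ := exists_descend_affine (s.W ⋙ Over.forget S)
    ((Over.forget S).mapCone (s.cone sq)) h1 hs (g.left : U.left ⟶ V.left)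
  let W : Over S := Over.mk (p₀ ≫ (s.obj j).hom)
  let w : W ⟶ s.obj j := Over.homMk p₀ rfl
  have hcw : q₀ ≫ p₀ = g.left ≫ (s.proj sq j).left := sq₀.w
  let q : U ⟶ W := Over.homMk q₀ (by
    change q₀ ≫ p₀ ≫ (s.obj j).hom = U.hom
    rw [← Category.assoc, hcw, Category.assoc, Over.w, Over.w])
  have sq1 : IsPullback ((yon S).map q) ((yon S).map g) ((yon S).map w) ((yon S).map (s.proj sq j)) :=
    K610.Coeq.isPullback_yon sq₀
  refine ⟨j.left, W, (yon S).map w ≫ s.fst j, q, hW₀, ?_, sq1.paste_vert (s.isPullback_proj sq j).flip⟩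
  exact K597.locP_postcomp K597.etLoc_lfp (IsAlgSpace.yon_obj _).hasAtlas (IsAlgSpace.yon_obj _).hasAtlas
    (hD j.left).hasAtlas (locP_yon K597.etLoc_lfp (f := w) hp₀)
    (K597.locP_of_repWith K597.etLoc_etale.precomp (K600.LimAff.repWith_fst s hv j))

/-- Descent of a quasi-compact quasi-separated scheme of finite presentation over the chart. -/
theorem exists_rel [IsCofiltered I] (hD : ∀ i, IsAlgSpace (D.obj i))
    (hDa : ∀ (i j : I) (φ : i ⟶ j), IsAffineMor (D.map φ)) (hc : IsLimit c) {i : I} {W U : Over S}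
    (hW : IsAffine W.left) {u₀ : (yon S).obj W ⟶ D.obj i} (hu₀ : LocP @LocallyOfFinitePresentation u₀) {q : U ⟶ W}
    {u' : (yon S).obj U ⟶ c.pt} (sqU : IsPullback ((yon S).map q) u' u₀ (c.π.app i)) {R : Over S} {r₁ : R ⟶ U}
    (h1 : LocallyOfFinitePresentation r₁.left) (h2 : QuasiCompact r₁.left) (h3 : QuasiSeparated r₁.left) :
    ∃ (k : I) (W₂ R₂ : Over S) (u₂ : (yon S).obj W₂ ⟶ D.obj k) (s₂ : R₂ ⟶ W₂) (qU : U ⟶ W₂)
      (qR : R ⟶ R₂), IsAffine W₂.left ∧ LocP @LocallyOfFinitePresentation u₂ ∧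
      LocallyOfFinitePresentation s₂.left ∧ QuasiCompact s₂.left ∧ QuasiSeparated s₂.left ∧
      IsPullback ((yon S).map qU) u' u₂ (c.π.app k) ∧
      IsPullback ((yon S).map qR) ((yon S).map r₁) ((yon S).map s₂) ((yon S).map qU) := by
  obtain ⟨s, hs⟩ := Sys.exists_ofAffine hDa hW u₀
  have hl := s.isLimitConeLeft sqU.flip hc
  have hsa : ∀ j, IsAffine ((s.W ⋙ Over.forget S).obj j) := hs
  have hsm : ∀ (j j' : Over i) (f : j ⟶ j'), IsAffineHom ((s.W ⋙ Over.forget S).map f) := fun j j' f => by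
    have := hsa j; have := hsa j'; infer_instance
  obtain ⟨j, X₂, f₂, g₂, h4, h5, h6, h7⟩ := Groth.Agent.S0591.result (s.W ⋙ Over.forget S)
    ((Over.forget S).mapCone (s.cone sqU.flip)) hl R.left (r₁.left : R.left ⟶ U.left)
  have hcw : g₂ ≫ f₂ = r₁.left ≫ (s.proj sqU.flip j).left := h7.w
  let R₂ : Over S := Over.mk (f₂ ≫ (s.obj j).hom)
  let s₂ : R₂ ⟶ s.obj j := Over.homMk f₂ rfl
  let qR : R ⟶ R₂ := Over.homMk g₂ (by
    change g₂ ≫ f₂ ≫ (s.obj j).hom = R.hom
    rw [← Category.assoc, hcw, Category.assoc, Over.w, Over.w])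
  refine ⟨j.left, s.obj j, R₂, s.fst j, s₂, s.proj sqU.flip j, qR, hs j, ?_, h4, h5, h6,
    (s.isPullback_proj sqU.flip j).flip, K610.Coeq.isPullback_yon h7⟩
  exact K597.locP_bc K597.etLoc_lfp (s.sq j).flip (IsAlgSpace.yon_obj _).hasAtlas (hD i).hasAtlas
    (hD j.left).hasAtlas hu₀

/-- Descent of the relation (a pair of maps). -/
theorem exists_lrel [QuasiSeparatedSpace S] [IsCofiltered I] (hD : ∀ i, IsAlgSpace (D.obj i))
    (hDa : ∀ (i j : I) (φ : i ⟶ j), IsAffineMor (D.map φ)) (hc : IsLimit c) {i : I} {W U : Over S}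
    (hW : IsAffine W.left) {u₀ : (yon S).obj W ⟶ D.obj i} (hu₀ : LocP @LocallyOfFinitePresentation u₀) {q : U ⟶ W}
    {u' : (yon S).obj U ⟶ c.pt} (sqU : IsPullback ((yon S).map q) u' u₀ (c.π.app i)) {R : Over S} {s' t' : R ⟶ U}
    (h1 : LocallyOfFinitePresentation s'.left) (h2 : QuasiCompact s'.left) (h3 : QuasiSeparated s'.left)
    (w' : (yon S).map s' ≫ u' = (yon S).map t' ≫ u') :
    ∃ (k : I) (L : LRel c k u' ((yon S).map s') ((yon S).map t')), L.Fin := by
  obtain ⟨k₀, W₂, R₂, u₂, s₂, qU, qR, hW₂, hu₂, a1, a2, a3, sqU₂, sqR₂⟩ := exists_rel hD hDa hc hW hu₀ sqU h1 h2 h3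
  have : CompactSpace R₂.left := QuasiCompact.compactSpace_of_compactSpace s₂.left
  have : QuasiSeparatedSpace R₂.left := quasiSeparatedSpace_of_quasiSeparated s₂.left
  have hWA := IsAlgSpace.yon_obj W₂
  have hRA := IsAlgSpace.yon_obj R₂
  have sqR : IsPullback ((yon S).map qR) ((yon S).map s' ≫ u') ((yon S).map s₂ ≫ u₂) (c.π.app k₀) :=
    sqR₂.paste_vert sqU₂
  obtain ⟨k, φ, x, hx1, hx2⟩ := exists_factor hD hDa hc hRA (K596.QC.isQuasiCompactSp_yon R₂)
    isQuasiSeparatedSp_yon (affEl_of_locP hWA (hD k₀) hu₂) sqR ((yon S).map s₂ ≫ u₂)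
    ((yon S).map t' ≫ (yon S).map qU) (by rw [Category.assoc, sqU₂.w, ← Category.assoc, ← w', sqR.w])
  have hfU : IsAffineMor (pullback.fst u₂ (D.map φ)) :=
    isAffineMor_bc (IsPullback.of_hasPullback u₂ (D.map φ)).flip (hDa _ _ φ)
  have hfR : IsAffineMor (pullback.fst ((yon S).map s₂ ≫ u₂) (D.map φ)) :=
    isAffineMor_bc (IsPullback.of_hasPullback ((yon S).map s₂ ≫ u₂) (D.map φ)).flip (hDa _ _ φ)
  let L : LRel c k u' ((yon S).map s') ((yon S).map t') :=
    { U := pullback u₂ (D.map φ)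
      R := pullback ((yon S).map s₂ ≫ u₂) (D.map φ)
      u := pullback.snd _ _
      s := pullback.lift (pullback.fst _ _ ≫ (yon S).map s₂) (pullback.snd _ _) (by
        rw [Category.assoc, pullback.condition])
      t := pullback.lift x (pullback.snd _ _) (by rw [hx2, pullback.condition])
      w := by rw [pullback.lift_snd, pullback.lift_snd]
      qU := toStage sqU₂.w φ
      qR := toStage sqR.w φ
      sqU := isPullback_toStage sqU₂ φ
      sqR := by
        refine IsPullback.of_bot ?_ ?_ (isPullback_toStage sqU₂ φ)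
        · rw [pullback.lift_snd]
          exact isPullback_toStage sqR φ
        · apply pullback.hom_ext
          · rw [Category.assoc, pullback.lift_fst, toStage_fst_assoc, Category.assoc, toStage_fst, sqR₂.w]
          · rw [Category.assoc, pullback.lift_snd, toStage_snd, Category.assoc, Category.assoc, toStage_snd]
      ct := by
        apply pullback.hom_ext
        · rw [Category.assoc, toStage_fst, Category.assoc, pullback.lift_fst, hx1]
        · rw [Category.assoc, toStage_snd, Category.assoc, pullback.lift_snd, toStage_snd, ← Category.assoc, w',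
            Category.assoc] }
  have sqs : IsPullback (pullback.fst ((yon S).map s₂ ≫ u₂) (D.map φ)) L.s ((yon S).map s₂)
      (pullback.fst u₂ (D.map φ)) := by
    refine IsPullback.of_bot ?_ (pullback.lift_fst _ _ _).symm (IsPullback.of_hasPullback u₂ (D.map φ))
    have e : L.s ≫ pullback.snd u₂ (D.map φ) = pullback.snd _ _ := pullback.lift_snd _ _ _
    rw [e]
    exact IsPullback.of_hasPullback _ _
  have hA1 : IsAlgSpace (pullback u₂ (D.map φ)) := K613.Chart.isAlgSpace_pullback hWA (hD k) (hD k₀) _ _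
  have hA2 : IsAlgSpace (pullback ((yon S).map s₂ ≫ u₂) (D.map φ)) :=
    K613.Chart.isAlgSpace_pullback hRA (hD k) (hD k₀) _ _
  exact ⟨k, L,
    { algU := hA1
      algR := hA2
      qcU := isQuasiCompactSp_of_affine hfU (K596.QC.isQuasiCompactSp_yon W₂)
      qsU := isQuasiSeparatedSp_of_affine hfU isQuasiSeparatedSp_yon
      qcR := isQuasiCompactSp_of_affine hfR (K596.QC.isQuasiCompactSp_yon R₂)
      qsR := isQuasiSeparatedSp_of_affine hfR isQuasiSeparatedSp_yon
      lfpU := K597.locP_bc K597.etLoc_lfp (IsPullback.of_hasPullback u₂ (D.map φ)) hWA.hasAtlas (hD k₀).hasAtlas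
        (hD k).hasAtlas hu₂
      lfps := K597.locP_bc K597.etLoc_lfp sqs hRA.hasAtlas hWA.hasAtlas hA1.hasAtlas
        (locP_yon K597.etLoc_lfp a1) }⟩

/-- The quotient of a good relation at a stage. -/
theorem exists_of_lrel [QuasiSeparatedSpace S] [IsCofiltered I] (hD : ∀ i, IsAlgSpace (D.obj i))
    (hDa : ∀ (i j : I) (φ : i ⟶ j), IsAffineMor (D.map φ)) (hqs : ∀ i, IsQuasiSeparatedSp (D.obj i))
    (hc : IsLimit c) {X : Sp S} {f : X ⟶ c.pt} {U R : Over S} {p : (yon S).obj U ⟶ X} (hp : RepWith @Etale p)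
    (hps : RepWith @Surjective p) {s' t' : R ⟶ U}
    (sqR : IsPullback ((yon S).map t') ((yon S).map s') p p) {k : I}
    (L : LRel c k (p ≫ f) ((yon S).map s') ((yon S).map t')) (hL : L.Fin) :
    ∃ (i : I) (X₀ : Sp S) (x₀ : X₀ ⟶ D.obj i) (g : X ⟶ X₀), IsAlgSpace X₀ ∧ IsFinitePresentationMor x₀ ∧
      IsPullback g f x₀ (c.π.app i) := by
  have hs : Etale s'.left := hp.2 _ _ _ sqR
  have ht : Etale t'.left := hp.2 _ _ _ sqR.flip
  have w' : (yon S).map s' ≫ p ≫ f = (yon S).map t' ≫ p ≫ f := by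
    rw [← Category.assoc, ← sqR.w, Category.assoc]
  obtain ⟨i, φ, h1, h2, h3⟩ := L.exists_good w' hL hD hDa hc sqR (locP_yon K597.etLoc_etale hs)
    (locP_yon K597.etLoc_etale ht)
  have hM : (L.bc w' φ).Fin := hL.bc w' hD hDa φ
  revert h1 h2 h3 hM
  generalize L.bc w' φ = M
  intro h1 h2 h3 hM
  have sqK := K607.SpQuot.isPullback_quotSpπ h1
  have hA : IsAlgSpace (quotSp M.s M.t) := by
    obtain ⟨V, a, ha, has⟩ := hM.algU.atlas
    exact (chart_of_kernelPair hM.algU hM.algR sqK h2 h3 ha has).1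
  let x₀ : quotSp M.s M.t ⟶ D.obj i := quotSpDesc M.u M.w
  have hx₀ : quotSpπ M.s M.t ≫ x₀ = M.u := quotSpπ_desc _ _ _ _
  have hqc : IsQuasiCompactSp (quotSp M.s M.t) :=
    isQuasiCompactSp_of_kernelPair hM.algU hM.algR sqK h2 h3 hM.qcU
  have hqs' : IsQuasiSeparatedSp (quotSp M.s M.t) :=
    isQuasiSeparatedSp_of_kernelPair hM.algU hM.algR sqK h2 h3 hM.qcU hM.qsU hM.qcR
  have hlfp : LocP @LocallyOfFinitePresentation x₀ := by
    refine locP_of_kernelPair K597.etLoc_lfp hM.algU hM.algR (hD i) sqK h2 h3 ?_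
    rw [hx₀]
    exact hM.lfpU
  obtain ⟨g, hg⟩ := exists_isPullback hx₀ sqK (fSurj_of_kernelPair hM.algU hM.algR sqK h2 h3) (f := f) sqR
    (K613.Cover.ESurj.of_repWith hp hps).fSurj rfl M.sqU M.sqR M.ct
  exact ⟨i, _, x₀, g, hA, ⟨hlfp, K596.QC2.isQuasiCompactMor_of_qc_of_qs hA (hD i) x₀ hqc (hqs i),
    K613.Diag.repWith_diagonal_of_diag hqs' _⟩, hg⟩

/-- **Descent of algebraic spaces of finite presentation** (Stacks 07SK). -/
theorem main [QuasiSeparatedSpace S] [IsCofiltered I] (hD : ∀ i, IsAlgSpace (D.obj i))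
    (hDa : ∀ (i j : I) (φ : i ⟶ j), IsAffineMor (D.map φ)) (hqc : ∀ i, IsQuasiCompactSp (D.obj i))
    (hqs : ∀ i, IsQuasiSeparatedSp (D.obj i)) (hc : IsLimit c) {X : Sp S} (hX : IsAlgSpace X) (f : X ⟶ c.pt)
    (hf : IsFinitePresentationMor f) :
    ∃ (i : I) (X₀ : Sp S) (x₀ : X₀ ⟶ D.obj i) (g : X ⟶ X₀), IsAlgSpace X₀ ∧ IsFinitePresentationMor x₀ ∧
      IsPullback g f x₀ (c.π.app i) := by
  obtain ⟨i₀⟩ := IsCofiltered.nonempty (C := I)
  obtain ⟨V₀, v, hV₀, hv, hv'⟩ := K600.LimAff.exists_affine_chart (hqc i₀)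
  obtain ⟨s, V, a, b, hs, hV, sq⟩ := K600.LimAff.exists_sys_of_affine hDa hc hV₀ v
  have hca : IsAffineMor (c.π.app i₀) := K600.LimAff.isAffineMor_π hDa hc i₀
  have hcqs : IsQuasiSeparatedSp c.pt := isQuasiSeparatedSp_of_affine hca (hqs i₀)
  have ha : RepWith @Etale a := K600.LimAff.repWith_of_isPullback hv sq
  have ha' : RepWith @Surjective a := K600.LimAff.repWith_of_isPullback hv' sq
  -- an affine chart of `X`
  have hq1 : IsQuasiCompactSp (pullback f a) :=
    hf.2.1 (IsAlgSpace.yon_obj V) (K596.QC.isQuasiCompactSp_yon V) a _ _ (IsPullback.of_hasPullback f a)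
  obtain ⟨U, u, hU, hu, hu'⟩ := K600.LimAff.exists_affine_chart hq1
  have hp : RepWith @Etale (u ≫ pullback.fst f a) :=
    K597.etale_comp hu (K597.repWith_bc' _ (IsPullback.of_hasPullback f a) ha)
  have hps : RepWith @Surjective (u ≫ pullback.fst f a) :=
    K597.surjective_comp hu' (K597.repWith_bc' _ (IsPullback.of_hasPullback f a) ha')
  obtain ⟨g, hg⟩ := (yon S).map_surjective (u ≫ pullback.snd f a)
  have hpf : (u ≫ pullback.fst f a) ≫ f = (yon S).map g ≫ a := by
    rw [Category.assoc, pullback.condition, hg, Category.assoc]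
  have hgl : LocallyOfFinitePresentation g.left := hf.1 _ _ g hp ha hpf
  obtain ⟨i, W, u₀, q, hW, hu₀, sqU⟩ := exists_chart hD hc s hs hv sq hU g hgl
  rw [← hpf] at sqU
  have hXqs : IsQuasiSeparatedSp X := K605.ImmMain.isQuasiSeparatedSp_of_mor hf.2.2 hcqs
  obtain ⟨R, r₁, r₂, sqR, -, hr1, hr2, hr3⟩ := K600.LimRep.exists_kp hX hXqs hU hp
  have w' : (yon S).map r₁ ≫ (u ≫ pullback.fst f a) ≫ f = (yon S).map r₂ ≫ (u ≫ pullback.fst f a) ≫ f := by
    rw [← Category.assoc, sqR.w, Category.assoc]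
  obtain ⟨k, L, hL⟩ := exists_lrel hD hDa hc hW hu₀ sqU (s' := r₁) (t' := r₂)
    (inferInstance : LocallyOfFinitePresentation r₁.left) hr2 hr3 w'
  exact exists_of_lrel hD hDa hqs hc hp hps sqR.flip L hL

end K601.FpDesc
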