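import Groth.Prelude.Def_AlgSpRep
import Mathlib.CategoryTheory.Limits.Types.Filtered
import Mathlib.CategoryTheory.Filtered.Final

/-!
# Calculus of (relatively) limit preserving presheaves

Elementwise reformulation of `AlgSp.IsLimitPreserving` and `AlgSp.IsRelLimitPreserving`, and the formal
consequences (composition, cancellation, base change).
-/

set_option autoImplicit false
universe u
open CategoryTheory CategoryTheory.Limits AlgebraicGeometry Opposite
open AlgSp

namespace K601.LimPres

variable {S : Scheme.{u}}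

section
variable {I : Type u} [SmallCategory I]

/-- Elements of `F` over the vertex come from a finite level. -/
def EvSurj (F : PSp S) {D : I ⥤ Over S} (c : Cone D) : Prop :=
  ∀ x : F.obj (op c.pt), ∃ (i : I) (xi : F.obj (op (D.obj i))), F.map (c.π.app i).op xi = x

/-- Elements of `F` at a finite level which agree over the vertex agree at a later level. -/
def EvInj (F : PSp S) {D : I ⥤ Over S} (c : Cone D) : Prop :=
  ∀ (i : I) (x x' : F.obj (op (D.obj i))), F.map (c.π.app i).op x = F.map (c.π.app i).op x' →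
    ∃ (j : I) (φ : j ⟶ i), F.map (D.map φ).op x = F.map (D.map φ).op x'

theorem nonempty_isColimit_iff [IsCofiltered I] (F : PSp S) {D : I ⥤ Over S} (c : Cone D) :
    Nonempty (IsColimit (F.mapCocone c.op)) ↔ EvSurj F c ∧ EvInj F c := by
  constructor
  · rintro ⟨h⟩
    constructor
    · intro x
      obtain ⟨i, xi, hxi⟩ := Types.jointly_surjective_of_isColimit h x
      exact ⟨i.unop, xi, hxi⟩
    · intro i x x' hx
      obtain ⟨j, φ, hj⟩ := (Types.FilteredColimit.isColimit_eq_iff' h (i := op i) x x').1 hx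
      exact ⟨j.unop, φ.unop, hj⟩
  · rintro ⟨h1, h2⟩
    refine ⟨Types.FilteredColimit.isColimitOf' _ _ ?_ ?_⟩
    · intro x
      obtain ⟨i, xi, hxi⟩ := h1 x
      exact ⟨op i, xi, hxi.symm⟩
    · intro i x y hxy
      obtain ⟨j, φ, hj⟩ := h2 i.unop x y hxy
      exact ⟨op j, φ.op, hj⟩

end

theorem isLimitPreserving_iff (F : PSp S) :
    IsLimitPreserving F ↔ ∀ ⦃I : Type u⦄ [SmallCategory I] [IsCofiltered I] (D : I ⥤ Over S) (c : Cone D),
      IsLimit ((Over.forget S).mapCone c) → (∀ i, IsAffine (D.obj i).left) → IsAffine c.pt.left →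
        EvSurj F c ∧ EvInj F c :=
  ⟨fun h _ _ _ D c hc hD hT => (nonempty_isColimit_iff F c).1 (h D c hc hD hT),
    fun h _ _ _ D c hc hD hT => (nonempty_isColimit_iff F c).2 (h D c hc hD hT)⟩

section
variable {I : Type u} [SmallCategory I]

/-- relative version of `EvSurj` -/
def RelSurj {F G : PSp S} (a : F ⟶ G) {D : I ⥤ Over S} (c : Cone D) : Prop :=
  ∀ (x : F.obj (op c.pt)) (i : I) (y : G.obj (op (D.obj i))), a.app _ x = G.map (c.π.app i).op y →
    ∃ (j : I) (φ : j ⟶ i) (xj : F.obj (op (D.obj j))), F.map (c.π.app j).op xj = x ∧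
      a.app _ xj = G.map (D.map φ).op y

/-- relative version of `EvInj` -/
def RelInj {F G : PSp S} (a : F ⟶ G) {D : I ⥤ Over S} (c : Cone D) : Prop :=
  ∀ (i : I) (x x' : F.obj (op (D.obj i))), a.app _ x = a.app _ x' →
    F.map (c.π.app i).op x = F.map (c.π.app i).op x' →
    ∃ (j : I) (φ : j ⟶ i), F.map (D.map φ).op x = F.map (D.map φ).op x'

end

/-- A diagram restricted to `Over i` and viewed over its value at `i`. -/
def slice {I : Type u} [SmallCategory I] (D : I ⥤ Over S) (i : I) : Over i ⥤ Over (D.obj i).left where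
  obj j := Over.mk (D.map j.hom).left
  map {j k} f := Over.homMk (D.map f.left).left (by
    change (D.map f.left).left ≫ (D.map k.hom).left = (D.map j.hom).left
    rw [← Over.comp_left, ← D.map_comp, Over.w])
  map_id j := by
    apply Over.OverMorphism.ext
    change (D.map (𝟙 j.left)).left = 𝟙 _
    rw [D.map_id]; rfl
  map_comp f g := by
    apply Over.OverMorphism.ext
    change (D.map (f.left ≫ g.left)).left = (D.map f.left).left ≫ (D.map g.left).left
    rw [D.map_comp]; rfl

def sliceCone {I : Type u} [SmallCategory I] {D : I ⥤ Over S} (c : Cone D) (i : I) : Cone (slice D i) where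
  pt := Over.mk (c.π.app i).left
  π :=
    { app := fun j => Over.homMk (c.π.app j.left).left (by
        change (c.π.app j.left).left ≫ (D.map j.hom).left = (c.π.app i).left
        rw [← Over.comp_left, c.w])
      naturality := fun j k f => by
        apply Over.OverMorphism.ext
        change 𝟙 _ ≫ (c.π.app k.left).left = (c.π.app j.left).left ≫ (D.map f.left).left
        rw [Category.id_comp, ← Over.comp_left, c.w] }

noncomputable def isLimitSliceCone {I : Type u} [SmallCategory I] [IsCofiltered I] {D : I ⥤ Over S} {c : Cone D}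
    (i : I) (hc : IsLimit ((Over.forget S).mapCone c)) :
    IsLimit ((Over.forget (D.obj i).left).mapCone (sliceCone c i)) :=
  ((Functor.Initial.isLimitWhiskerEquiv (Over.forget i) _).symm hc).ofIsoLimit
    (Cone.ext (Iso.refl _) (fun _ => (Category.id_comp _).symm))

/-- the comparison of the slice with the original diagram over `S` -/
def sliceIso {I : Type u} [SmallCategory I] (D : I ⥤ Over S) (i : I) (j : Over i) :
    (Over.map (D.obj i).hom).obj ((slice D i).obj j) ≅ D.obj j.left :=
  Over.isoMk (Iso.refl _) (by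
    change 𝟙 _ ≫ (D.obj j.left).hom = (D.map j.hom).left ≫ (D.obj i).hom
    rw [Over.w, Category.id_comp])

def sliceConeIso {I : Type u} [SmallCategory I] {D : I ⥤ Over S} (c : Cone D) (i : I) :
    (Over.map (D.obj i).hom).obj (sliceCone c i).pt ≅ c.pt :=
  Over.isoMk (Iso.refl _) (by
    change 𝟙 _ ≫ c.pt.hom = (c.π.app i).left ≫ (D.obj i).hom
    rw [Category.id_comp]
    exact (Over.w (c.π.app i)).symm)

theorem sliceConeIso_comp {I : Type u} [SmallCategory I] {D : I ⥤ Over S} (c : Cone D) (i : I) (j : Over i) :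
    (Over.map (D.obj i).hom).map ((sliceCone c i).π.app j) ≫ (sliceIso D i j).hom =
      (sliceConeIso c i).hom ≫ c.π.app j.left := by
  apply Over.OverMorphism.ext
  change (c.π.app j.left).left ≫ 𝟙 _ = 𝟙 _ ≫ (c.π.app j.left).left
  rw [Category.id_comp, Category.comp_id]

theorem sliceIso_comp {I : Type u} [SmallCategory I] (D : I ⥤ Over S) (i : I) {j k : Over i} (f : j ⟶ k) :
    (Over.map (D.obj i).hom).map ((slice D i).map f) ≫ (sliceIso D i k).hom =
      (sliceIso D i j).hom ≫ D.map f.left := by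
  apply Over.OverMorphism.ext
  change (D.map f.left).left ≫ 𝟙 _ = 𝟙 _ ≫ (D.map f.left).left
  rw [Category.id_comp, Category.comp_id]

theorem sliceIso_hom_comp {I : Type u} [SmallCategory I] (D : I ⥤ Over S) (i : I) (j : Over i) :
    (sliceIso D i j).hom ≫ D.map j.hom = overHom (D.obj i) ((slice D i).obj j) := by
  apply Over.OverMorphism.ext
  change 𝟙 _ ≫ (D.map j.hom).left = (D.map j.hom).left
  rw [Category.id_comp]

theorem sliceIso_id_hom {I : Type u} [SmallCategory I] (D : I ⥤ Over S) (i : I) :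
    (sliceIso D i (Over.mk (𝟙 i))).hom = overHom (D.obj i) ((slice D i).obj (Over.mk (𝟙 i))) := by
  rw [← sliceIso_hom_comp]
  change _ = _ ≫ D.map (𝟙 i)
  rw [D.map_id]
  exact (Category.comp_id _).symm

theorem sliceConeIso_hom_comp {I : Type u} [SmallCategory I] {D : I ⥤ Over S} (c : Cone D) (i : I) :
    (sliceConeIso c i).hom ≫ c.π.app i = overHom (D.obj i) (sliceCone c i).pt := by
  apply Over.OverMorphism.ext
  change 𝟙 _ ≫ (c.π.app i).left = (c.π.app i).left
  rw [Category.id_comp]

theorem map_op_comp (F : PSp S) {T T' T'' : Over S} (f : T ⟶ T') (g : T' ⟶ T'') (x : F.obj (op T'')) :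
    F.map f.op (F.map g.op x) = F.map (f ≫ g).op x := by
  rw [op_comp, Functor.map_comp_apply]

theorem map_op_iso_inj (F : PSp S) {T T' : Over S} (e : T ≅ T') {x y : F.obj (op T')}
    (h : F.map e.hom.op x = F.map e.hom.op y) : x = y := by
  have := congrArg (F.map e.inv.op) h
  rwa [map_op_comp, map_op_comp, e.inv_hom_id, op_id, F.map_id] at this

theorem naturality_op {F G : PSp S} (a : F ⟶ G) {T T' : Over S} (f : T ⟶ T') (x : F.obj (op T')) :
    a.app (op T) (F.map f.op x) = G.map f.op (a.app (op T') x) :=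
  NatTrans.naturality_apply a f.op x

theorem exists_of_isPullback {F G H P : PSp S} {a : F ⟶ G} {b : H ⟶ G} {fst : P ⟶ F} {snd : P ⟶ H}
    (sq : IsPullback fst snd a b) {T : Over S} (x : F.obj (op T)) (y : H.obj (op T))
    (h : a.app _ x = b.app _ y) : ∃ p : P.obj (op T), fst.app _ p = x ∧ snd.app _ p = y :=
  Types.exists_of_isPullback (sq.map ((evaluation _ _).obj (op T))) x y h

theorem ext_of_isPullback {F G H P : PSp S} {a : F ⟶ G} {b : H ⟶ G} {fst : P ⟶ F} {snd : P ⟶ H}
    (sq : IsPullback fst snd a b) {T : Over S} {p q : P.obj (op T)}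
    (h1 : fst.app _ p = fst.app _ q) (h2 : snd.app _ p = snd.app _ q) : p = q :=
  Types.ext_of_isPullback (sq.map ((evaluation _ _).obj (op T))) h1 h2

theorem isRelLimitPreserving_iff {F G : PSp S} (a : F ⟶ G) :
    IsRelLimitPreserving a ↔ ∀ ⦃I : Type u⦄ [SmallCategory I] [IsCofiltered I] (D : I ⥤ Over S) (c : Cone D),
      IsLimit ((Over.forget S).mapCone c) → (∀ i, IsAffine (D.obj i).left) → IsAffine c.pt.left →
        RelSurj a c ∧ RelInj a c := by
  constructor
  · intro h I _ _ D c hc hD hT
    constructor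
    · intro x i y hxy
      have hh := (isLimitPreserving_iff _).1 (h (D.obj i) y) (slice D i) (sliceCone c i)
        (isLimitSliceCone i hc) (fun j => hD j.left) hT
      obtain ⟨j, xj, e⟩ := hh.1 ⟨F.map (sliceConeIso c i).hom.op x, by
        rw [naturality_op, hxy, map_op_comp, sliceConeIso_hom_comp]⟩
      have e' : F.map ((Over.map (D.obj i).hom).map ((sliceCone c i).π.app j)).op xj.1 =
        F.map (sliceConeIso c i).hom.op x := congrArg Subtype.val e
      refine ⟨j.left, j.hom, F.map (sliceIso D i j).inv.op xj.1, ?_, ?_⟩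
      · apply map_op_iso_inj F (sliceConeIso c i)
        rw [map_op_comp, map_op_comp, ← e', ← sliceConeIso_comp, Category.assoc, Iso.hom_inv_id,
          Category.comp_id]
      · apply map_op_iso_inj G (sliceIso D i j)
        rw [← naturality_op, map_op_comp, map_op_comp, sliceIso_hom_comp, Iso.hom_inv_id, op_id,
          F.map_id]
        exact xj.2
    · intro i x x' hx hxx
      have hh := (isLimitPreserving_iff _).1 (h (D.obj i) (a.app _ x)) (slice D i) (sliceCone c i)
        (isLimitSliceCone i hc) (fun j => hD j.left) hT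
      obtain ⟨j, φ, e⟩ := hh.2 (Over.mk (𝟙 i))
        ⟨F.map (sliceIso D i (Over.mk (𝟙 i))).hom.op x, by
          rw [naturality_op, sliceIso_id_hom]; rfl⟩
        ⟨F.map (sliceIso D i (Over.mk (𝟙 i))).hom.op x', by
          rw [naturality_op, sliceIso_id_hom, hx]; rfl⟩ (by
          apply Subtype.ext
          change F.map ((Over.map (D.obj i).hom).map ((sliceCone c i).π.app (Over.mk (𝟙 i)))).op
            (F.map (sliceIso D i (Over.mk (𝟙 i))).hom.op x) =
            F.map ((Over.map (D.obj i).hom).map ((sliceCone c i).π.app (Over.mk (𝟙 i)))).op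
              (F.map (sliceIso D i (Over.mk (𝟙 i))).hom.op x')
          rw [map_op_comp, map_op_comp, sliceConeIso_comp, ← map_op_comp, ← map_op_comp]
          exact congrArg _ hxx)
      have e' : F.map ((Over.map (D.obj i).hom).map ((slice D i).map φ)).op
            (F.map (sliceIso D i (Over.mk (𝟙 i))).hom.op x) =
          F.map ((Over.map (D.obj i).hom).map ((slice D i).map φ)).op
            (F.map (sliceIso D i (Over.mk (𝟙 i))).hom.op x') := congrArg Subtype.val e
      rw [map_op_comp, map_op_comp, sliceIso_comp, ← map_op_comp, ← map_op_comp] at e'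
      exact ⟨j.left, φ.left, map_op_iso_inj F (sliceIso D i j) e'⟩
  · intro h T y
    rw [isLimitPreserving_iff]
    intro I _ _ D c hc hD hT
    have hh := h (D ⋙ Over.map T.hom) ((Over.map T.hom).mapCone c) hc hD hT
    constructor
    · rintro ⟨x, hx⟩
      obtain ⟨i⟩ : Nonempty I := IsCofiltered.nonempty
      have hx' : a.app (op ((Over.map T.hom).obj c.pt)) x = G.map (((Over.map T.hom).mapCone c).π.app i).op
          (G.map (overHom T (D.obj i)).op y) := by
        rw [map_op_comp]
        refine hx.trans ?_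
        exact congrArg (fun t => G.map (Quiver.Hom.op t) y) (map_comp_overHom T (c.π.app i)).symm
      obtain ⟨j, φ, xj, h1, h2⟩ := hh.1 x i (G.map (overHom T (D.obj i)).op y) hx'
      refine ⟨j, ⟨xj, ?_⟩, ?_⟩
      · refine h2.trans ?_
        rw [map_op_comp]
        exact congrArg (fun t => G.map (Quiver.Hom.op t) y) (map_comp_overHom T (D.map φ))
      · apply Subtype.ext
        exact h1
    · rintro i x x' hx
      obtain ⟨j, φ, e⟩ := hh.2 i x.1 x'.1 (x.2.trans x'.2.symm) (congrArg Subtype.val hx)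
      exact ⟨j, φ, Subtype.ext e⟩

section formal

variable {I : Type u} [SmallCategory I] {D : I ⥤ Over S} {c : Cone D}

theorem relSurj_comp {F G H : PSp S} {a : F ⟶ G} {b : G ⟶ H} (ha : RelSurj a c) (hb : RelSurj b c) :
    RelSurj (a ≫ b) c := by
  intro x i z hz
  rw [NatTrans.comp_app_apply] at hz
  obtain ⟨j, φ, y, h1, h2⟩ := hb _ i z hz
  obtain ⟨k, ψ, w, h3, h4⟩ := ha x j y h1.symm
  refine ⟨k, ψ ≫ φ, w, h3, ?_⟩
  rw [NatTrans.comp_app_apply, h4, naturality_op, h2, map_op_comp, D.map_comp]

theorem relInj_comp {F G H : PSp S} {a : F ⟶ G} {b : G ⟶ H} (ha : RelInj a c) (hb : RelInj b c) :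
    RelInj (a ≫ b) c := by
  intro i x x' h h'
  rw [NatTrans.comp_app_apply, NatTrans.comp_app_apply] at h
  obtain ⟨j, φ, e⟩ := hb i _ _ h (by rw [← naturality_op, ← naturality_op]; exact congrArg _ h')
  rw [← naturality_op, ← naturality_op] at e
  obtain ⟨k, ψ, e'⟩ := ha j _ _ e (by rw [map_op_comp, map_op_comp, c.w]; exact h')
  refine ⟨k, ψ ≫ φ, ?_⟩
  rw [D.map_comp, ← map_op_comp, ← map_op_comp]
  exact e'

theorem relSurj_of_comp {F G H : PSp S} {a : F ⟶ G} {b : G ⟶ H} (hab : RelSurj (a ≫ b) c) (hb : RelInj b c) :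
    RelSurj a c := by
  intro x i y hxy
  obtain ⟨j, φ, w, h1, h2⟩ := hab x i (b.app _ y) (by
    rw [NatTrans.comp_app_apply, hxy, naturality_op])
  rw [NatTrans.comp_app_apply, ← naturality_op] at h2
  obtain ⟨k, ψ, e⟩ := hb j _ _ h2 (by
    rw [← naturality_op, map_op_comp, c.w, ← hxy]
    exact congrArg _ h1)
  refine ⟨k, ψ ≫ φ, F.map (D.map ψ).op w, ?_, ?_⟩
  · rw [map_op_comp, c.w, h1]
  · rw [naturality_op, e, map_op_comp, D.map_comp]

theorem relInj_of_comp {F G H : PSp S} {a : F ⟶ G} {b : G ⟶ H} (hab : RelInj (a ≫ b) c) :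
    RelInj a c := by
  intro i x x' h h'
  exact hab i x x' (by rw [NatTrans.comp_app_apply, NatTrans.comp_app_apply, h]) h'

theorem relSurj_of_isPullback {F G H P : PSp S} {a : F ⟶ G} {b : H ⟶ G} {fst : P ⟶ F} {snd : P ⟶ H}
    (sq : IsPullback fst snd a b) (ha : RelSurj a c) : RelSurj snd c := by
  intro p i h hp
  obtain ⟨j, φ, w, h1, h2⟩ := ha (fst.app _ p) i (b.app _ h) (by
    rw [← NatTrans.comp_app_apply, sq.w, NatTrans.comp_app_apply, hp, naturality_op])
  rw [← naturality_op] at h2
  obtain ⟨q, hq1, hq2⟩ := exists_of_isPullback sq w _ h2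
  refine ⟨j, φ, q, ?_, hq2⟩
  apply ext_of_isPullback sq
  · rw [naturality_op, hq1]; exact h1
  · rw [naturality_op, hq2, map_op_comp, c.w]; exact hp.symm

theorem relInj_of_isPullback {F G H P : PSp S} {a : F ⟶ G} {b : H ⟶ G} {fst : P ⟶ F} {snd : P ⟶ H}
    (sq : IsPullback fst snd a b) (ha : RelInj a c) : RelInj snd c := by
  intro i x x' h h'
  obtain ⟨j, φ, e⟩ := ha i (fst.app _ x) (fst.app _ x') (by
    rw [← NatTrans.comp_app_apply, ← NatTrans.comp_app_apply, sq.w, NatTrans.comp_app_apply,
      NatTrans.comp_app_apply, h]) (by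
    rw [← naturality_op, ← naturality_op]; exact congrArg _ h')
  refine ⟨j, φ, ext_of_isPullback sq ?_ ?_⟩
  · rw [naturality_op, naturality_op, e]
  · rw [naturality_op, naturality_op, h]

end formal

theorem isRelLimitPreserving_comp {F G H : PSp S} {a : F ⟶ G} {b : G ⟶ H}
    (ha : IsRelLimitPreserving a) (hb : IsRelLimitPreserving b) : IsRelLimitPreserving (a ≫ b) := by
  rw [isRelLimitPreserving_iff] at ha hb ⊢
  intro I _ _ D c hc hD hT
  exact ⟨relSurj_comp (ha D c hc hD hT).1 (hb D c hc hD hT).1,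
    relInj_comp (ha D c hc hD hT).2 (hb D c hc hD hT).2⟩

theorem isRelLimitPreserving_of_comp {F G H : PSp S} {a : F ⟶ G} {b : G ⟶ H}
    (hab : IsRelLimitPreserving (a ≫ b)) (hb : IsRelLimitPreserving b) : IsRelLimitPreserving a := by
  rw [isRelLimitPreserving_iff] at hab hb ⊢
  intro I _ _ D c hc hD hT
  exact ⟨relSurj_of_comp (hab D c hc hD hT).1 (hb D c hc hD hT).2,
    relInj_of_comp (hab D c hc hD hT).2⟩

theorem isRelLimitPreserving_of_isPullback {F G H P : PSp S} {a : F ⟶ G} {b : H ⟶ G} {fst : P ⟶ F} {snd : P ⟶ H}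
    (sq : IsPullback fst snd a b) (ha : IsRelLimitPreserving a) : IsRelLimitPreserving snd := by
  rw [isRelLimitPreserving_iff] at ha ⊢
  intro I _ _ D c hc hD hT
  exact ⟨relSurj_of_isPullback sq (ha D c hc hD hT).1, relInj_of_isPullback sq (ha D c hc hD hT).2⟩

end K601.LimPres
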