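import Groth.Agent.AlgSp.K601.CoverDesc
import Mathlib.CategoryTheory.Sites.LocallySurjective

/-!
# Sheafification of a limit preserving presheaf is limit preserving

Core statement for an arbitrary topology `J` on `Over S` whose coverings of affine schemes are refined by finite families
of affine schemes with property `P` (flat, etale, ...) and l.f.p.
-/

set_option autoImplicit false
set_option backward.isDefEq.respectTransparency false
universe u

open CategoryTheory CategoryTheory.Limits AlgebraicGeometry Opposite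
open AlgSp

namespace K601.SheafifyLim

open K601.LimPres K601.CoverDesc K601.PbDiag

variable {S : Scheme.{u}}

/-- The topology `J` has, on affine schemes, coverings refined by finite families of affine schemes with l.f.p.
structure maps satisfying `P`, and jointly surjective families with `P` and l.f.p. are coverings. -/
structure HasAffCovers (P : MorphismProperty Scheme.{u}) (J : GrothendieckTopology (Over S)) : Prop where
  refine : ∀ {T : Over S}, IsAffine T.left → ∀ R ∈ J T, ∃ (A : Type u) (_ : Finite A) (W : A → Over S)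
    (p : ∀ a, W a ⟶ T), (∀ a, R (p a) ∧ IsAffine (W a).left ∧ P (p a).left ∧ LocallyOfFinitePresentation (p a).left) ∧
      ∀ t : T.left, ∃ (a : A) (w : (W a).left), (p a).left w = t
  cover : ∀ {T : Over S} {A : Type u} [Finite A] (W : A → Over S) (p : ∀ a, W a ⟶ T), (∀ a, P (p a).left) →
    (∀ a, LocallyOfFinitePresentation (p a).left) →
    (∀ t : T.left, ∃ (a : A) (w : (W a).left), (p a).left w = t) → Sieve.ofArrows W p ∈ J T

theorem hasAffCovers_fppf : HasAffCovers (S := S) @Flat (AlgSp.J S) where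
  refine _ _ hR := FppfSieve.exists_finite_affine_cover hR
  cover W p h1 h2 h3 := FppfSieve.ofArrows_mem_J W p h1 h2 h3

theorem exists_common {C : Type*} [Category C] [IsCofiltered C] {A : Type*} [Finite A] (Q : A → C → Prop)
    (hm : ∀ a {j j' : C} (_ : j' ⟶ j), Q a j → Q a j') (h : ∀ a, ∃ j, Q a j) : ∃ j, ∀ a, Q a j := by
  classical
  cases nonempty_fintype A
  choose j hj using h
  obtain ⟨k, hk⟩ := IsCofiltered.inf_objs_exists (Finset.univ.image j)
  exact ⟨k, fun a => hm a (hk (Finset.mem_image_of_mem j (Finset.mem_univ a))).some (hj a)⟩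

section general

variable {F G : PSp S}

/-- Elements of `F` at a finite level whose images in `G` agree over the vertex have images in `G` that agree at a
later level. -/
def EvInjVia (θ : F ⟶ G) {I : Type u} [SmallCategory I] {D : I ⥤ Over S} (c : Cone D) : Prop :=
  ∀ (i : I) (x x' : F.obj (op (D.obj i))),
    G.map (c.π.app i).op (θ.app _ x) = G.map (c.π.app i).op (θ.app _ x') →
    ∃ (j : I) (φ : j ⟶ i), G.map (D.map φ).op (θ.app _ x) = G.map (D.map φ).op (θ.app _ x')

/-- `EvInjVia` for all affine systems. -/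
def AllEvInjVia (θ : F ⟶ G) : Prop :=
  ∀ ⦃I : Type u⦄ [SmallCategory I] [IsCofiltered I] (D : I ⥤ Over S) (c : Cone D),
    IsLimit ((Over.forget S).mapCone c) → (∀ i, IsAffine (D.obj i).left) → IsAffine c.pt.left → EvInjVia θ c

def AllEvSurj (F : PSp S) : Prop :=
  ∀ ⦃I : Type u⦄ [SmallCategory I] [IsCofiltered I] (D : I ⥤ Over S) (c : Cone D),
    IsLimit ((Over.forget S).mapCone c) → (∀ i, IsAffine (D.obj i).left) → IsAffine c.pt.left → EvSurj F c

theorem allEvInjVia_id (hF : IsLimitPreserving F) : AllEvInjVia (𝟙 F) := by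
  intro I _ _ D c hc hD hT
  exact ((isLimitPreserving_iff F).1 hF D c hc hD hT).2

theorem allEvSurj (hF : IsLimitPreserving F) : AllEvSurj F := by
  intro I _ _ D c hc hD hT
  exact ((isLimitPreserving_iff F).1 hF D c hc hD hT).1

theorem isLimitPreserving_of (h1 : AllEvSurj F) (h2 : AllEvInjVia (𝟙 F)) : IsLimitPreserving F := by
  rw [isLimitPreserving_iff]
  intro I _ _ D c hc hD hT
  exact ⟨h1 D c hc hD hT, h2 D c hc hD hT⟩

section pb

variable {I : Type u} [SmallCategory I] [IsCofiltered I] {D : I ⥤ Over S} {c : Cone D}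
  (hc : IsLimit ((Over.forget S).mapCone c)) (hD : ∀ i, IsAffine (D.obj i).left) (hT : IsAffine c.pt.left)

include hc hD hT

theorem evInjVia_pb {θ : F ⟶ G} (h : AllEvInjVia θ) {k : I} {W₀ : Over S} (p₀ : W₀ ⟶ D.obj k)
    (hW₀ : IsAffine W₀.left) {W : Over S} {q : W ⟶ W₀} {p : W ⟶ c.pt} (sq : IsPullback q p p₀ (c.π.app k))
    (x x' : F.obj (op W₀)) (e : G.map q.op (θ.app _ x) = G.map q.op (θ.app _ x')) :
    ∃ j : Over k, G.map (pullback.fst p₀ (D.map j.hom)).op (θ.app _ x) =
      G.map (pullback.fst p₀ (D.map j.hom)).op (θ.app _ x') := by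
  have hlim := isLimitForget (isLimitPbCone k p₀ c (isLimitOver hc) q p sq)
  have hobj : ∀ j : Over k, IsAffine ((pbDiag D k p₀).obj j).left := fun j => by
    have := hD j.left
    have := hD k
    exact isAffine_pullback _ _
  have hW : IsAffine W.left := isAffine_of_isPullback sq hW₀ hT (hD k)
  let π₁ : (pbDiag D k p₀).obj (Over.mk (𝟙 k)) ⟶ W₀ := pullback.fst p₀ (D.map (𝟙 k))
  obtain ⟨j, φ, hj⟩ := h (pbDiag D k p₀) (pbCone k p₀ c q p sq.toCommSq) hlim hobj hW (Over.mk (𝟙 k))
    (F.map π₁.op x) (F.map π₁.op x') (by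
      rw [naturality_op, naturality_op, map_op_comp, map_op_comp]
      have e1 : (pbCone k p₀ c q p sq.toCommSq).π.app (Over.mk (𝟙 k)) ≫ π₁ = q :=
        pullback.lift_fst _ _ _
      rw [e1]
      exact e)
  refine ⟨j, ?_⟩
  have e1 : (pbDiag D k p₀).map φ ≫ π₁ = pullback.fst p₀ (D.map j.hom) := pbDiag_map_fst D k p₀ φ
  rw [naturality_op, naturality_op, map_op_comp, map_op_comp, e1] at hj
  exact hj

theorem evSurj_pb (h : AllEvSurj F) {k : I} {W₀ : Over S} (p₀ : W₀ ⟶ D.obj k)
    (hW₀ : IsAffine W₀.left) {W : Over S} {q : W ⟶ W₀} {p : W ⟶ c.pt} (sq : IsPullback q p p₀ (c.π.app k))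
    (x : F.obj (op W)) :
    ∃ (j : Over k) (y : F.obj (op (pullback p₀ (D.map j.hom)))),
      F.map (pullback.lift q (p ≫ c.π.app j.left) (by rw [Category.assoc, c.w, sq.w])).op y = x := by
  have hlim := isLimitForget (isLimitPbCone k p₀ c (isLimitOver hc) q p sq)
  have hobj : ∀ j : Over k, IsAffine ((pbDiag D k p₀).obj j).left := fun j => by
    have := hD j.left
    have := hD k
    exact isAffine_pullback _ _
  have hW : IsAffine W.left := isAffine_of_isPullback sq hW₀ hT (hD k)
  exact h (pbDiag D k p₀) (pbCone k p₀ c q p sq.toCommSq) hlim hobj hW x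

end pb

end general

section core

theorem map_congr_comp₂ (F : PSp S) {X Y Z Z' : Over S} {f : X ⟶ Z} {f' : X ⟶ Z'} (g : X ⟶ Y) {h : Y ⟶ Z}
    {h' : Y ⟶ Z'} (e : g ≫ h = f) (e' : g ≫ h' = f') {x : F.obj (op Z)} {x' : F.obj (op Z')}
    (hx : F.map h.op x = F.map h'.op x') : F.map f.op x = F.map f'.op x' := by
  subst e
  subst e'
  rw [← map_op_comp, ← map_op_comp, hx]

theorem map_congr_comp (F : PSp S) {X Y Z : Over S} {f : X ⟶ Z} {g : X ⟶ Y} {h : Y ⟶ Z} (e : g ≫ h = f)
    {x x' : F.obj (op Z)} (hx : F.map h.op x = F.map h.op x') : F.map f.op x = F.map f.op x' :=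
  map_congr_comp₂ F g e e hx

theorem map_congr (F : PSp S) {X Z : Over S} {f f' : X ⟶ Z} (e : f = f') (x : F.obj (op Z)) :
    F.map f.op x = F.map f'.op x := by rw [e]

/-- combine two restrictions on both sides of an equation -/
theorem map_square (F : PSp S) {X Y Z Y' Z' : Over S} {f : X ⟶ Y} {g : Y ⟶ Z} {f' : X ⟶ Y'} {g' : Y' ⟶ Z'}
    {x : F.obj (op Z)} {x' : F.obj (op Z')} (h : F.map (f ≫ g).op x = F.map (f' ≫ g').op x') :
    F.map f.op (F.map g.op x) = F.map f'.op (F.map g'.op x') := by
  rw [map_op_comp, map_op_comp, h]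

theorem map_square' (F : PSp S) {X Y Z Y' Z' : Over S} {f : X ⟶ Y} {g : Y ⟶ Z} {f' : X ⟶ Y'} {g' : Y' ⟶ Z'}
    {x : F.obj (op Z)} {x' : F.obj (op Z')} (h : F.map f.op (F.map g.op x) = F.map f'.op (F.map g'.op x')) :
    F.map (f ≫ g).op x = F.map (f' ≫ g').op x' := by
  rw [← map_op_comp, ← map_op_comp, h]

variable {P : MorphismProperty Scheme.{u}} (hAd : Stage.Admissible P) {J : GrothendieckTopology (Over S)}
  (hJ : HasAffCovers P J) {F G : PSp S} (η : F ⟶ G)
  (hinj : ∀ {T : Over S} (x y : F.obj (op T)), η.app _ x = η.app _ y →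
    ∃ R ∈ J T, ∀ {W : Over S} (p : W ⟶ T), R p → F.map p.op x = F.map p.op y)
  (hsurj : ∀ {T : Over S} (s : G.obj (op T)), ∃ R ∈ J T, ∀ {W : Over S} (p : W ⟶ T), R p →
    ∃ x : F.obj (op W), η.app _ x = G.map p.op s)
  (hG : Presieve.IsSheaf J G) (hF : IsLimitPreserving F)

theorem sep {J : GrothendieckTopology (Over S)} {G : PSp S} (hG : Presieve.IsSheaf J G) {T : Over S}
    {A : Type u} {W : A → Over S} {p : ∀ a, W a ⟶ T}
    (hp : Sieve.ofArrows W p ∈ J T) {s s' : G.obj (op T)} (h : ∀ a, G.map (p a).op s = G.map (p a).op s') :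
    s = s' := by
  refine ((hG _ hp).isSeparatedFor).ext ?_
  rintro Y f ⟨Z, g, _, ⟨a⟩, rfl⟩
  rw [op_comp, Functor.map_comp_apply, Functor.map_comp_apply, h a]

theorem glue {J : GrothendieckTopology (Over S)} {G : PSp S} (hG : Presieve.IsSheaf J G) {T : Over S}
    {A : Type u} {W : A → Over S} {p : ∀ a, W a ⟶ T}
    (hp : Sieve.ofArrows W p ∈ J T) (x : ∀ a, G.obj (op (W a)))
    (h : ∀ a b, G.map (pullback.fst (p a) (p b)).op (x a) = G.map (pullback.snd (p a) (p b)).op (x b)) :
    ∃ s : G.obj (op T), ∀ a, G.map (p a).op s = x a := by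
  have h1 : (Presieve.ofArrows W p).IsSheafFor G := (Presieve.isSheafFor_iff_generate _).2 (hG _ hp)
  obtain ⟨s, hs, -⟩ := (Presieve.isSheafFor_arrows_iff _ _).1 h1 x (fun a b Z ga gb e =>
    map_congr_comp₂ G (pullback.lift ga gb e) (pullback.lift_fst _ _ _) (pullback.lift_snd _ _ _) (h a b))
  exact ⟨s, hs⟩

/-- points of the family moved to a later stage -/
theorem surj_move {I : Type u} [SmallCategory I] [IsCofiltered I] {D : I ⥤ Over S} {c : Cone D}
    [P.IsStableUnderBaseChange] (hD : ∀ i, IsAffine (D.obj i).left) {A : Type u} {W : A → Over S}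
    {p : ∀ a, W a ⟶ c.pt} {i : I} (C : StageCover P D c W p i) {j : I} (ψ : j ⟶ i)
    (hC : ∀ t : (D.obj i).left, ∃ (a : A) (w : (C.W₀ a).left), (C.p₀ a).left w = t) :
    ∀ t : (D.obj j).left, ∃ (a : A) (w : ((C.move hD ψ).W₀ a).left), ((C.move hD ψ).p₀ a).left w = t := fun t => by
  obtain ⟨a, w, hw⟩ := hC ((D.map ψ).left t)
  obtain ⟨z, -, hz⟩ := exists_point_of_isPullback (IsPullback.of_hasPullback (C.p₀ a) (D.map ψ)) w t hw
  exact ⟨a, z, hz⟩

include hAd hJ hinj hG hF in
/-- sections of `F` whose images in `G` agree over the vertex have images which agree at a finite level -/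
theorem allEvInjVia_η : AllEvInjVia η := by
  have := hAd.bc
  intro I _ _ D c hc hD hT i t t' h
  rw [← naturality_op, ← naturality_op] at h
  obtain ⟨R, hR, hRe⟩ := hinj _ _ h
  obtain ⟨A, _, W, p, hp, hps⟩ := hJ.refine hT R hR
  obtain ⟨i', C, hC⟩ := exists_stageCover_surj D c hc hD hAd W p (fun a => (hp a).2.1) (fun a => (hp a).2.2.1)
    (fun a => (hp a).2.2.2) hps
  obtain ⟨k, α, β, -⟩ := IsCofilteredOrEmpty.cone_objs i i'
  -- move to `k`
  let C' := C.move hD β
  have key (a : A) : ∃ j : Over k, F.map (pullback.fst (C'.p₀ a) (D.map j.hom)).op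
      (F.map (C'.p₀ a ≫ D.map α).op t) = F.map (pullback.fst (C'.p₀ a) (D.map j.hom)).op
      (F.map (C'.p₀ a ≫ D.map α).op t') := by
    refine evInjVia_pb hc hD hT (allEvInjVia_id hF) (C'.p₀ a) (C'.affine a) (C'.isPullback a) _ _ ?_
    have e1 : p a ≫ c.π.app i = C'.q a ≫ C'.p₀ a ≫ D.map α := by
      rw [← Category.assoc, (C'.isPullback a).w, Category.assoc, c.w]
    change F.map (C'.q a).op (F.map (C'.p₀ a ≫ D.map α).op t) =
      F.map (C'.q a).op (F.map (C'.p₀ a ≫ D.map α).op t')
    refine map_square F ?_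
    have h2 : F.map (p a ≫ c.π.app i).op t = F.map (p a ≫ c.π.app i).op t' := map_square' F (hRe (p a) (hp a).1)
    exact (map_congr F e1.symm t).trans (h2.trans (map_congr F e1 t'))
  obtain ⟨j, hj⟩ := exists_common (C := Over k) _ (fun a {j j'} f hj =>
    map_congr_comp F (pbDiag_map_fst D k (C'.p₀ a) f) hj) key
  refine ⟨j.left, j.hom ≫ α, ?_⟩
  -- the family at stage `j.left`
  let C'' := C'.move hD j.hom
  have hC'' := surj_move hD C' j.hom (surj_move hD C β hC)
  refine sep hG (hJ.cover C''.W₀ C''.p₀ C''.prop C''.lfp hC'') (fun a => ?_)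
  have e2 : C''.p₀ a ≫ D.map (j.hom ≫ α) = pullback.fst (C'.p₀ a) (D.map j.hom) ≫ C'.p₀ a ≫ D.map α := by
    change pullback.snd (C'.p₀ a) (D.map j.hom) ≫ _ = _
    rw [D.map_comp, ← Category.assoc, ← pullback.condition, Category.assoc]
  refine map_square G ?_
  rw [e2, ← naturality_op, ← naturality_op]
  exact congrArg _ (map_square' F (hj a))

variable (hη : AllEvInjVia η) (hFs : AllEvSurj F)

include hAd hJ hη hsurj hG in
theorem allEvInjVia_id_sheaf : AllEvInjVia (𝟙 G) := by
  have := hAd.bc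
  intro I _ _ D c hc hD hT i s s' h
  obtain ⟨R, hR, hRe⟩ := hsurj s
  obtain ⟨R', hR', hRe'⟩ := hsurj s'
  obtain ⟨A, _, W, p, hp, hps⟩ := hJ.refine (hD i) (R ⊓ R') (J.intersection_covering hR hR')
  choose x hx using fun a => hRe (p a) (hp a).1.1
  choose x' hx' using fun a => hRe' (p a) (hp a).1.2
  have key (a : A) : ∃ j : Over i, G.map (pullback.fst (p a) (D.map j.hom)).op (η.app _ (x a)) =
      G.map (pullback.fst (p a) (D.map j.hom)).op (η.app _ (x' a)) := by
    refine evInjVia_pb hc hD hT hη (p a) (hp a).2.1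
      (IsPullback.of_hasPullback (p a) (c.π.app i)) _ _ ?_
    rw [hx, hx']
    refine map_square G ?_
    rw [pullback.condition]
    exact map_square' G (congrArg _ h)
  obtain ⟨j, hj⟩ := exists_common (C := Over i) _ (fun a {j j'} f hj =>
    map_congr_comp G (pbDiag_map_fst D i (p a) f) hj) key
  refine ⟨j.left, j.hom, ?_⟩
  change G.map (D.map j.hom).op s = G.map (D.map j.hom).op s'
  have hcov : Sieve.ofArrows (fun a => pullback (p a) (D.map j.hom)) (fun a => pullback.snd (p a) (D.map j.hom)) ∈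
      J (D.obj j.left) := by
    refine hJ.cover _ _ (fun a => ?_) (fun a => ?_) (fun t => ?_)
    · exact left_of_isPullback P (IsPullback.of_hasPullback (p a) (D.map j.hom)) (hp a).2.2.1
    · exact left_of_isPullback @LocallyOfFinitePresentation (IsPullback.of_hasPullback (p a) (D.map j.hom))
        (hp a).2.2.2
    · obtain ⟨a, w, hw⟩ := hps ((D.map j.hom).left t)
      obtain ⟨z, -, hz⟩ := exists_point_of_isPullback (IsPullback.of_hasPullback (p a) (D.map j.hom)) w t hw
      exact ⟨a, z, hz⟩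
  refine sep hG hcov (fun a => ?_)
  refine map_square G ?_
  rw [← pullback.condition]
  refine map_square' G ?_
  rw [← hx, ← hx']
  exact hj a

include hAd hJ hη hsurj hG hFs in
theorem allEvSurj_sheaf : AllEvSurj G := by
  have := hAd.bc
  intro I _ _ D c hc hD hT s
  obtain ⟨R, hR, hRe⟩ := hsurj s
  obtain ⟨A, _, W, p, hp, hps⟩ := hJ.refine hT R hR
  choose x hx using fun a => hRe (p a) (hp a).1
  obtain ⟨i, C, hC⟩ := exists_stageCover_surj D c hc hD hAd W p (fun a => (hp a).2.1) (fun a => (hp a).2.2.1)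
    (fun a => (hp a).2.2.2) hps
  -- descend the sections
  have key (a : A) : ∃ j : Over i, ∃ y : F.obj (op (pullback (C.p₀ a) (D.map j.hom))),
      F.map (pullback.lift (C.q a) (p a ≫ c.π.app j.left) (by
        rw [Category.assoc, c.w, (C.isPullback a).w])).op y = x a :=
    evSurj_pb hc hD hT hFs (C.p₀ a) (C.affine a) (C.isPullback a) (x a)
  obtain ⟨j, hj⟩ := exists_common (C := Over i) _ (fun a {j j'} f ⟨y, hy⟩ => by
    refine ⟨F.map ((pbDiag D i (C.p₀ a)).map f).op y, ?_⟩
    have e1 : pullback.lift (C.q a) (p a ≫ c.π.app j'.left) (by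
        rw [Category.assoc, c.w, (C.isPullback a).w]) ≫ (pbDiag D i (C.p₀ a)).map f =
        pullback.lift (C.q a) (p a ≫ c.π.app j.left) (by
        rw [Category.assoc, c.w, (C.isPullback a).w]) :=
      (pbCone i (C.p₀ a) c (C.q a) (p a) (C.isPullback a).toCommSq).w f
    exact (map_op_comp F _ _ y).trans ((map_congr F e1 y).trans hy)) key
  choose y hy using hj
  let C' := C.move hD j.hom
  have hC' := surj_move hD C j.hom hC
  replace hy : ∀ a, F.map (C'.q a).op (y a) = x a := hy
  have hyG (a : A) : G.map (C'.q a).op (η.app _ (y a)) = G.map (p a).op s := by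
    rw [← naturality_op, hy, hx]
  let k := j.left
  -- agreement on overlaps, at a later level
  let O (ab : A × A) : Over S := pullback (C'.p₀ ab.1) (C'.p₀ ab.2)
  let o (ab : A × A) : O ab ⟶ D.obj k := pullback.fst (C'.p₀ ab.1) (C'.p₀ ab.2) ≫ C'.p₀ ab.1
  have hO (ab : A × A) : IsAffine (O ab).left := by
    have := C'.affine ab.1
    have := C'.affine ab.2
    have := hD k
    exact isAffine_pullback _ _
  have key2 (ab : A × A) : ∃ l : Over k, G.map (pullback.fst (o ab) (D.map l.hom)).op
      (G.map (pullback.fst (C'.p₀ ab.1) (C'.p₀ ab.2)).op (η.app _ (y ab.1))) =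
      G.map (pullback.fst (o ab) (D.map l.hom)).op
      (G.map (pullback.snd (C'.p₀ ab.1) (C'.p₀ ab.2)).op (η.app _ (y ab.2))) := by
    refine evInjVia_pb hc hD hT (allEvInjVia_id_sheaf hAd hJ η hsurj hG hη) (o ab) (hO ab)
      (IsPullback.of_hasPullback (o ab) (c.π.app k)) _ _ ?_
    change G.map (pullback.fst (o ab) (c.π.app k)).op
      (G.map (pullback.fst (C'.p₀ ab.1) (C'.p₀ ab.2)).op (η.app _ (y ab.1))) =
      G.map (pullback.fst (o ab) (c.π.app k)).op
      (G.map (pullback.snd (C'.p₀ ab.1) (C'.p₀ ab.2)).op (η.app _ (y ab.2)))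
    -- the two maps to `W a`, `W b`
    let L := pullback (o ab) (c.π.app k)
    let la : L ⟶ W ab.1 := (C'.isPullback ab.1).lift (pullback.fst (o ab) (c.π.app k) ≫
      pullback.fst (C'.p₀ ab.1) (C'.p₀ ab.2)) (pullback.snd (o ab) (c.π.app k)) (by
        rw [Category.assoc]; exact pullback.condition)
    let lb : L ⟶ W ab.2 := (C'.isPullback ab.2).lift (pullback.fst (o ab) (c.π.app k) ≫
      pullback.snd (C'.p₀ ab.1) (C'.p₀ ab.2)) (pullback.snd (o ab) (c.π.app k)) (by
        rw [Category.assoc, ← pullback.condition]; exact pullback.condition)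
    have ha1 : la ≫ C'.q ab.1 = pullback.fst (o ab) (c.π.app k) ≫
      pullback.fst (C'.p₀ ab.1) (C'.p₀ ab.2) := (C'.isPullback ab.1).lift_fst _ _ _
    have ha2 : la ≫ p ab.1 = pullback.snd (o ab) (c.π.app k) := (C'.isPullback ab.1).lift_snd _ _ _
    have hb1 : lb ≫ C'.q ab.2 = pullback.fst (o ab) (c.π.app k) ≫
      pullback.snd (C'.p₀ ab.1) (C'.p₀ ab.2) := (C'.isPullback ab.2).lift_fst _ _ _
    have hb2 : lb ≫ p ab.2 = pullback.snd (o ab) (c.π.app k) := (C'.isPullback ab.2).lift_snd _ _ _
    refine map_square G ?_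
    rw [← ha1, ← hb1]
    refine map_square' G ((congrArg _ (hyG ab.1)).trans (Eq.trans ?_ (congrArg _ (hyG ab.2)).symm))
    refine map_square G ?_
    rw [ha2, hb2]
  obtain ⟨l, hl⟩ := exists_common (C := Over k) _ (fun ab {l l'} f hl =>
    map_congr_comp G (pbDiag_map_fst D k (o ab) f) hl) key2
  let C'' := C'.move hD l.hom
  have hC'' := surj_move hD C' l.hom hC'
  have hcov := hJ.cover C''.W₀ C''.p₀ C''.prop C''.lfp hC''
  have hfs (a : A) : C''.p₀ a ≫ D.map l.hom = pullback.fst (C'.p₀ a) (D.map l.hom) ≫ C'.p₀ a :=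
    pullback.condition.symm
  obtain ⟨sk, hsk⟩ := glue hG hcov (fun a => G.map (pullback.fst (C'.p₀ a) (D.map l.hom)).op (η.app _ (y a)))
    (fun a b => by
      let M := pullback (C''.p₀ a) (C''.p₀ b)
      let m₁ : M ⟶ O (a, b) := pullback.lift (pullback.fst (C''.p₀ a) (C''.p₀ b) ≫
        pullback.fst (C'.p₀ a) (D.map l.hom)) (pullback.snd (C''.p₀ a) (C''.p₀ b) ≫
        pullback.fst (C'.p₀ b) (D.map l.hom)) (by
          rw [Category.assoc, Category.assoc, ← hfs, ← hfs, ← Category.assoc, ← Category.assoc, pullback.condition])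
      let m : M ⟶ pullback (o (a, b)) (D.map l.hom) := pullback.lift m₁ (pullback.fst (C''.p₀ a) (C''.p₀ b) ≫
        C''.p₀ a) (by
          have : m₁ ≫ o (a, b) = pullback.fst (C''.p₀ a) (C''.p₀ b) ≫
            pullback.fst (C'.p₀ a) (D.map l.hom) ≫ C'.p₀ a := by
            change m₁ ≫ pullback.fst (C'.p₀ a) (C'.p₀ b) ≫ C'.p₀ a = _
            rw [← Category.assoc, pullback.lift_fst, Category.assoc]
          rw [this, Category.assoc, hfs])
      have e1 : m ≫ pullback.fst (o (a, b)) (D.map l.hom) = m₁ := pullback.lift_fst _ _ _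
      have e2 : m₁ ≫ pullback.fst (C'.p₀ a) (C'.p₀ b) = pullback.fst (C''.p₀ a) (C''.p₀ b) ≫
        pullback.fst (C'.p₀ a) (D.map l.hom) := pullback.lift_fst _ _ _
      have e3 : m₁ ≫ pullback.snd (C'.p₀ a) (C'.p₀ b) = pullback.snd (C''.p₀ a) (C''.p₀ b) ≫
        pullback.fst (C'.p₀ b) (D.map l.hom) := pullback.lift_snd _ _ _
      refine map_square G ?_
      refine map_congr_comp₂ G m ?_ ?_ (map_square' G (hl (a, b)))
      · rw [← Category.assoc, e1]
        exact e2
      · rw [← Category.assoc, e1]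
        exact e3)
  refine ⟨l.left, sk, ?_⟩
  refine sep hG (hJ.cover W p (fun a => (hp a).2.2.1) (fun a => (hp a).2.2.2) hps) (fun a => ?_)
  have e5 : p a ≫ c.π.app l.left = C''.q a ≫ C''.p₀ a := (C''.isPullback a).w.symm
  have e6 : C''.q a ≫ pullback.fst (C'.p₀ a) (D.map l.hom) = C'.q a := pullback.lift_fst _ _ _
  have e7 := hsk a
  have e8 : G.map (C''.q a).op (G.map (C''.p₀ a).op sk) = G.map (C'.q a).op (η.app _ (y a)) :=
    (congrArg _ e7).trans ((map_op_comp G _ _ _).trans (map_congr G e6 _))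
  exact (map_op_comp G _ _ _).trans ((map_congr G e5 _).trans ((map_op_comp G _ _ _).symm.trans
    (e8.trans (hyG a))))

include hAd hJ hη hsurj hG hFs in
/-- The core: a sheaf `G` with a locally surjective `η : F ⟶ G` such that sections of `F` over affine limits come from
finite levels and pairs of sections of `F` identified in `G` over the limit are identified in `G` at a finite level,
is limit preserving. -/
theorem isLimitPreserving_sheaf' : IsLimitPreserving G :=
  isLimitPreserving_of (allEvSurj_sheaf hAd hJ η hsurj hG hη hFs)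
    (allEvInjVia_id_sheaf hAd hJ η hsurj hG hη)

include hAd hJ hinj hsurj hG hF in
/-- The core: a sheaf `G` locally presented by a limit preserving presheaf `F` is limit preserving. -/
theorem isLimitPreserving_sheaf : IsLimitPreserving G :=
  isLimitPreserving_sheaf' hAd hJ η hsurj hG (allEvInjVia_η hAd hJ η hinj hG hF) (allEvSurj hF)

end core

/-- A sheaf with a locally bijective map from a limit preserving presheaf is limit preserving, for a general
topology. -/
theorem isLimitPreserving_of_locallyBijective {P : MorphismProperty Scheme.{u}} (hAd : Stage.Admissible P)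
    {J : GrothendieckTopology (Over S)} (hJ : HasAffCovers P J) {F G : PSp S} (η : F ⟶ G)
    [Presheaf.IsLocallyInjective J η] [Presheaf.IsLocallySurjective J η] (hG : Presheaf.IsSheaf J G)
    (hF : IsLimitPreserving F) : IsLimitPreserving G :=
  isLimitPreserving_sheaf hAd hJ η
    (fun {T} x y e => ⟨Presheaf.equalizerSieve (F := F) (X := op T) x y,
      Presheaf.equalizerSieve_mem J η (X := op T) x y e, fun {_} _ hp => hp⟩)
    (fun {T} s => ⟨Presheaf.imageSieve η (U := T) s, Presheaf.imageSieve_mem J η (U := op T) s,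
      fun {_} _ hp => hp⟩)
    ((isSheaf_iff_isSheaf_of_type J G).1 hG) hF

/-- Sheafification of a limit preserving presheaf is limit preserving, for a general topology. -/
theorem isLimitPreserving_sheafify {P : MorphismProperty Scheme.{u}} (hAd : Stage.Admissible P)
    {J : GrothendieckTopology (Over S)} (hJ : HasAffCovers P J) {F : PSp S} (hF : IsLimitPreserving F) :
    IsLimitPreserving ((presheafToSheaf J (Type (u + 1))).obj F).obj := by
  have h1 : Presheaf.IsLocallyInjective J (toSheafify J F) := inferInstance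
  have h2 : Presheaf.IsLocallySurjective J (toSheafify J F) := inferInstance
  exact isLimitPreserving_of_locallyBijective hAd hJ (toSheafify J F) ((presheafToSheaf J _).obj F).property hF

end K601.SheafifyLim
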