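import Mathlib.AlgebraicGeometry.AffineTransitionLimit
import Mathlib.CategoryTheory.Limits.Constructions.Over.Connected

/-!
# Base change of a cofiltered limit along a morphism to a stage, in a general category with pullbacks

The same construction as `Groth.Agent.Smoothlim.LimBase.pbDiag`, for an arbitrary category `C` with pullbacks
(`Over S`, `AlgSp.Sp S`, ...).
-/

set_option autoImplicit false
universe u v w

open CategoryTheory CategoryTheory.Limits

namespace K601.PbDiag

variable {C : Type w} [Category.{v} C] [HasPullbacks C]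

section
variable {I : Type u} [Category.{u} I] (D : I ⥤ C) (i₀ : I) {Y : C}
  (g : Y ⟶ D.obj i₀)

set_option backward.isDefEq.respectTransparency false in
/-- The base change of the diagram `D` (restricted to `Over i₀`) along `g : Y ⟶ D.obj i₀`. -/
@[simps]
noncomputable def pbDiag : Over i₀ ⥤ C where
  obj φ := pullback g (D.map φ.hom)
  map {φ ψ} h := pullback.map g (D.map φ.hom) g (D.map ψ.hom) (𝟙 _) (D.map h.left) (𝟙 _)
    (by simp) (by rw [← D.map_comp, Over.w h, Category.comp_id])
  map_id φ := by apply pullback.hom_ext <;> simp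
  map_comp h h' := by apply pullback.hom_ext <;> simp

set_option backward.isDefEq.respectTransparency false in
theorem pbDiag_map_fst {φ ψ : Over i₀} (h : φ ⟶ ψ) :
    (pbDiag D i₀ g).map h ≫ pullback.fst g (D.map ψ.hom) = pullback.fst g (D.map φ.hom) := by
  simp

set_option backward.isDefEq.respectTransparency false in
theorem pbDiag_map_snd {φ ψ : Over i₀} (h : φ ⟶ ψ) :
    (pbDiag D i₀ g).map h ≫ pullback.snd g (D.map ψ.hom) = pullback.snd g (D.map φ.hom) ≫ D.map h.left := by
  simp

set_option backward.isDefEq.respectTransparency false in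
/-- The projection to `Y`. -/
@[simps]
noncomputable def pbDiagFst : pbDiag D i₀ g ⟶ (Functor.const _).obj Y where
  app φ := pullback.fst _ _
  naturality φ ψ h := by simp

set_option backward.isDefEq.respectTransparency false in
/-- The projection to `D`. -/
@[simps]
noncomputable def pbDiagSnd : pbDiag D i₀ g ⟶ Over.forget i₀ ⋙ D where
  app φ := pullback.snd _ _
  naturality φ ψ h := by simp

set_option backward.isDefEq.respectTransparency false in
theorem isPullback_pbDiag_map {φ ψ : Over i₀} (h : φ ⟶ ψ) :
    IsPullback ((pbDiag D i₀ g).map h) (pullback.snd g (D.map φ.hom)) (pullback.snd g (D.map ψ.hom))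
      (D.map h.left) := by
  have h1 : IsPullback (pullback.fst g (D.map ψ.hom)) (pullback.snd g (D.map ψ.hom)) g (D.map ψ.hom) :=
    IsPullback.of_hasPullback _ _
  have h2 : IsPullback ((pbDiag D i₀ g).map h ≫ pullback.fst g (D.map ψ.hom))
      (pullback.snd g (D.map φ.hom)) g (D.map h.left ≫ D.map ψ.hom) := by
    have e : (pbDiag D i₀ g).map h ≫ pullback.fst g (D.map ψ.hom) = pullback.fst g (D.map φ.hom) := by simp
    rw [e, ← D.map_comp, Over.w]
    exact IsPullback.of_hasPullback _ _
  exact IsPullback.of_right h2 (by simp) h1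

variable {D}

set_option backward.isDefEq.respectTransparency false in
/-- The cone over the base changed diagram. -/
@[simps]
noncomputable def pbCone (c : Cone D) {Y' : C} (q : Y' ⟶ Y) (g' : Y' ⟶ c.pt)
    (h : CommSq q g' g (c.π.app i₀)) : Cone (pbDiag D i₀ g) where
  pt := Y'
  π :=
    { app φ := pullback.lift q (g' ≫ c.π.app φ.left) (by rw [Category.assoc, c.w, h.w])
      naturality φ ψ a := by apply pullback.hom_ext <;> simp }

set_option backward.isDefEq.respectTransparency false in
theorem isPullback_pbCone (c : Cone D) {Y' : C}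
    (q : Y' ⟶ Y) (g' : Y' ⟶ c.pt) (h : IsPullback q g' g (c.π.app i₀)) (φ : Over i₀) :
    IsPullback ((pbCone i₀ g c q g' h.toCommSq).π.app φ) g' (pullback.snd g (D.map φ.hom)) (c.π.app φ.left) := by
  have h1 : IsPullback (pullback.fst g (D.map φ.hom)) (pullback.snd g (D.map φ.hom)) g (D.map φ.hom) :=
    IsPullback.of_hasPullback _ _
  have h2 : IsPullback ((pbCone i₀ g c q g' h.toCommSq).π.app φ ≫ pullback.fst g (D.map φ.hom))
      g' g (c.π.app φ.left ≫ D.map φ.hom) := by simpa using h
  exact h2.of_right (by simp) h1

attribute [local instance] CategoryTheory.isConnected_of_hasTerminal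

set_option backward.isDefEq.respectTransparency false in
/-- The base changed cone is a limit cone. -/
noncomputable def isLimitPbCone [IsCofiltered I] (c : Cone D) (hc : IsLimit c) {Y' : C}
    (q : Y' ⟶ Y) (g' : Y' ⟶ c.pt) (h : IsPullback q g' g (c.π.app i₀)) :
    IsLimit (pbCone i₀ g c q g' h.toCommSq) :=
  isLimitOfIsPullbackOfIsConnected (pbDiagSnd D i₀ g) _ (c.whisker (Over.forget i₀))
    { hom := g'
      w := fun φ ↦ by simp }
    (fun φ ↦ isPullback_pbCone i₀ g c q g' h φ)
    ((Functor.Initial.isLimitWhiskerEquiv (Over.forget i₀) c).symm hc)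

end

end K601.PbDiag
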