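import Groth.Agent.AlgSp.K601.RelRep
import Groth.Agent.AlgSp.K601.PbDiag
import Groth.Agent.AlgSp.K617.FinLoc
import Groth.Agent.S10006

/-!
# Relative limits of algebraic spaces: affine, finite, closed immersion (S10017, S10018, S10019)
-/

set_option autoImplicit false
set_option backward.isDefEq.respectTransparency false
universe u

open CategoryTheory CategoryTheory.Limits AlgebraicGeometry Opposite
open AlgSp

namespace K601.RelAff

open K601.RelChart K601.RelDesc K601.RelRep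

variable {S : Scheme.{u}}

section restart

variable {B B₁ B₂ Y₀ Y Yi X₀ X Xi : Sp S} {b₀ : Y₀ ⟶ B} {β : B₁ ⟶ B} {β' : B₂ ⟶ B₁}

theorem exists_restart_target {pY : Y ⟶ Y₀} {qY : Y ⟶ B₂} (hY : IsPullback pY qY b₀ (β' ≫ β)) {pYi : Yi ⟶ Y₀}
    {qYi : Yi ⟶ B₁} (hYi : IsPullback pYi qYi b₀ β) : ∃ p' : Y ⟶ Yi, IsPullback p' qY qYi β' ∧ p' ≫ pYi = pY :=
  have hw : pY ≫ b₀ = (qY ≫ β') ≫ β := by rw [hY.w, Category.assoc]
  ⟨hYi.lift pY (qY ≫ β') hw, IsPullback.of_right (by rw [hYi.lift_fst]; exact hY) (hYi.lift_snd _ _ _) hYi,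
    hYi.lift_fst _ _ _⟩

theorem exists_restart_source {f₀ : X₀ ⟶ Y₀} {f : X ⟶ Y} {fi : Xi ⟶ Yi} {pX : X ⟶ X₀} {pY : Y ⟶ Y₀}
    (hX : IsPullback pX f f₀ pY) {pXi : Xi ⟶ X₀} {pYi : Yi ⟶ Y₀} (hXi : IsPullback pXi fi f₀ pYi) {p' : Y ⟶ Yi}
    (hp : p' ≫ pYi = pY) : ∃ p'' : X ⟶ Xi, IsPullback p'' f fi p' :=
  have hw : pX ≫ f₀ = (f ≫ p') ≫ pYi := by rw [hX.w, Category.assoc, hp]
  ⟨hXi.lift pX (f ≫ p') hw, IsPullback.of_right (by rw [hXi.lift_fst, hp]; exact hX) (hXi.lift_snd _ _ _) hXi⟩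

end restart

section

variable {I : Type u} [SmallCategory I] {D : I ⥤ Sp S} {i₀ : I} {X₀ Y₀ : Sp S} {f₀ : X₀ ⟶ Y₀} {b₀ : Y₀ ⟶ D.obj i₀}
  {i : I} {φ : i ⟶ i₀} {Xi Yi : Sp S} {fi : Xi ⟶ Yi} {pYi : Yi ⟶ Y₀} {qYi : Yi ⟶ D.obj i}
  (hYi : IsPullback pYi qYi b₀ (D.map φ)) {pXi : Xi ⟶ X₀} (hXi : IsPullback pXi fi f₀ pYi)

include hYi hXi in
/-- Restarting at a later stage. -/
theorem Ev.restart {T : MorphismProperty (Sp S)} {j : I} {χ : j ⟶ i} (h : Ev T D χ fi qYi) :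
    Ev T D (χ ≫ φ) f₀ b₀ := by
  intro k ψ Xk Yk fk pYk qYk h1 pXk h2
  have h1' : IsPullback pYk qYk b₀ (D.map (ψ ≫ χ) ≫ D.map φ) := by
    rw [← D.map_comp, Category.assoc]; exact h1
  obtain ⟨p', hp', hp⟩ := exists_restart_target h1' hYi
  obtain ⟨p'', hp''⟩ := exists_restart_source h2 hXi hp
  exact h k ψ Xk Yk fk p' qYk hp' p'' hp''

include hYi hXi in
/-- A property stable under base change which holds at one stage holds at all later stages. -/
theorem Ev.of_stage {T : MorphismProperty (Sp S)}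
    (hT : ∀ {X Y X' Y' : Sp S} {f : X ⟶ Y} {f' : X' ⟶ Y'} {g : Y' ⟶ Y} {g' : X' ⟶ X}, IsPullback g' f' f g → T f →
      T f') (h : T fi) : Ev T D φ f₀ b₀ := by
  intro k ψ Xk Yk fk pYk qYk h1 pXk h2
  have h1' : IsPullback pYk qYk b₀ (D.map ψ ≫ D.map φ) := by rw [← D.map_comp]; exact h1
  obtain ⟨p', hp', hp⟩ := exists_restart_target h1' hYi
  obtain ⟨p'', hp''⟩ := exists_restart_source h2 hXi hp
  exact hT hp'' h

end

/-- the absolute diagonal from the relative one -/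
theorem repWith_diag_of_diagonal {Pr : MorphismProperty Scheme.{u}} [Pr.IsStableUnderBaseChange]
    [Pr.IsStableUnderComposition] {X Y : Sp S} {f : X ⟶ Y} (hY : RepWith Pr (Limits.diag Y))
    (hf : RepWith Pr (pullback.diagonal f)) : RepWith Pr (Limits.diag X) := by
  rw [K613.Chart.repWith_diag_iff] at *
  rw [K613.Diag.repWith_diagonal_iff] at hf
  intro T a b
  obtain ⟨E, e, he, hP⟩ := hY T (a ≫ f) (b ≫ f)
  obtain ⟨E', e', he', hP'⟩ := hf E ((yon S).map e ≫ a) ((yon S).map e ≫ b) (by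
    rw [Category.assoc, Category.assoc]; exact he.w)
  refine ⟨E', e' ≫ e, ⟨?_, fun R r hr => ?_⟩, Pr.comp_mem _ _ hP' hP⟩
  · have := he'.w
    simp only [Functor.map_comp, Category.assoc] at this ⊢
    rw [this]
  · obtain ⟨r', hr', hu⟩ := he.lift R r (by
      rw [← Category.assoc, hr, Category.assoc])
    obtain ⟨r'', hr'', hu'⟩ := he'.lift R r' (by
      rw [← Category.assoc, ← Category.assoc, ← Functor.map_comp, hr', hr])
    refine ⟨r'', by dsimp only; rw [← Category.assoc, hr'', hr'], fun y hy => ?_⟩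
    refine hu' _ (hu _ ?_)
    dsimp only
    rw [Category.assoc]
    exact hy

theorem quasiCompact_comp_stable : MorphismProperty.IsStableUnderComposition @QuasiCompact.{u} :=
  (inferInstance : MorphismProperty.IsMultiplicative @QuasiCompact.{u}).toIsStableUnderComposition

/-- an algebraic space affine over a quasi-separated one is quasi-separated -/
theorem isQuasiSeparatedSp_of_affine {X Y : Sp S} {f : X ⟶ Y} (hf : IsAffineMor f) (hY : IsQuasiSeparatedSp Y) :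
    IsQuasiSeparatedSp X := by
  have := quasiCompact_comp_stable.{u}
  refine repWith_diag_of_diagonal (f := f) hY (K597.repWith_mono ?_ (EvMono.isSeparatedMor_of_isAffineMor hf))
  intro A B g hg
  have : IsClosedImmersion g := hg
  change QuasiCompact g
  infer_instance

theorem isQuasiCompactSp_of_affine {X Y : Sp S} {f : X ⟶ Y} (hf : IsAffineMor f) (hY : IsQuasiCompactSp Y) :
    IsQuasiCompactSp X :=
  K596.QC.isQuasiCompactSp_of_repWith hY (g := f) (K597.repWith_mono (fun A B g hg => by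
    have : IsAffineHom g := hg
    change QuasiCompact g
    infer_instance) (K597.Affine.repWith_of_isAffineMor hf))

theorem isAffineMor_bc {F G F' G' : Sp S} {f : F ⟶ G} {g : G' ⟶ G} {g' : F' ⟶ F} {f' : F' ⟶ G'}
    (sq : IsPullback g' f' f g) (hf : IsAffineMor f) : IsAffineMor f' :=
  K597.Affine.isAffineMor_of_repWith (K597.repWith_bc _ sq (K597.Affine.repWith_of_isAffineMor hf))

theorem isQuasiSeparatedSp_yon [QuasiSeparatedSpace S] {V : Over S} (hV : IsAffine V.left) :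
    IsQuasiSeparatedSp ((yon S).obj V) := by
  refine (repWith_diag_yon_iff @QuasiCompact V).2 ?_
  have : QuasiSeparated V.hom := by
    have : V.left.IsSeparated := inferInstance
    infer_instance
  exact this.quasiCompact_diagonal

/-- a map between sheaves represented by affine schemes is affine -/
theorem isAffineMor_of_iso {F : Sp S} {T V : Over S} (hT : IsAffine T.left) (hV : IsAffine V.left)
    (e : (yon S).obj T ≅ F) (f : F ⟶ (yon S).obj V) : IsAffineMor f := by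
  obtain ⟨m, hm⟩ := (yon S).map_surjective (e.hom ≫ f)
  have h1 : RepWith @IsAffineHom ((yon S).map m) := (repWith_yon_map_iff _ _).2 (inferInstance : IsAffineHom m.left)
  have h2 : f = e.inv ≫ (yon S).map m := by rw [hm, Iso.inv_hom_id_assoc]
  rw [h2]
  exact K597.Affine.isAffineMor_of_repWith (MorphismProperty.RespectsIso.precomp _ _ _ h1)

section main

variable [QuasiSeparatedSpace S] {I : Type u} [SmallCategory I] [IsCofiltered I] {D : I ⥤ Sp S}
  (hD : ∀ i, IsAlgSpace (D.obj i))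
  (hDa : ∀ (i j : I) (φ : i ⟶ j), IsAffineMor (D.map φ)) {c : Cone D} (hc : IsLimit c)
  {i₀ : I} {X₀ Y₀ : Sp S} (hX₀ : IsAlgSpace X₀) (hY₀ : IsAlgSpace Y₀) (f₀ : X₀ ⟶ Y₀) (b₀ : Y₀ ⟶ D.obj i₀)
  (hXqc : IsQuasiCompactSp X₀) (hXqs : IsQuasiSeparatedSp X₀) (hYqc : IsQuasiCompactSp Y₀)
  (hYqs : IsQuasiSeparatedSp Y₀)
  {X Y : Sp S} {f : X ⟶ Y} {pY : Y ⟶ Y₀} {qY : Y ⟶ c.pt} (hY : IsPullback pY qY b₀ (c.π.app i₀)) {pX : X ⟶ X₀}
  (hX : IsPullback pX f f₀ pY)

include hD hDa hc hX₀ hY₀ hXqc hXqs hYqc hYqs hY hX in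
theorem exists_ev_affine (hf : IsAffineMor f) : ∃ (i : I) (φ : i ⟶ i₀), Ev IsAffineMor D φ f₀ b₀ := by
  obtain ⟨V₀, v, hV₀, hv, hvs⟩ := K609.QC.exists_affine_chart hYqc
  -- `X₀' = X₀ ×_{Y₀} V₀`
  let X₀' : Sp S := pullback f₀ v
  have sq₀ : IsPullback (pullback.fst f₀ v) (pullback.snd f₀ v) f₀ v := IsPullback.of_hasPullback f₀ v
  have hX₀' : IsAlgSpace X₀' := K613.Chart.isAlgSpace_pullback hX₀ (IsAlgSpace.yon_obj V₀) hY₀ f₀ v
  have hX₀'c : IsQuasiCompactSp X₀' := K596.QC2.isQuasiCompactMor_of_qc_of_qs hX₀ hY₀ f₀ hXqc hYqs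
    (IsAlgSpace.yon_obj V₀) (K596.QC.isQuasiCompactSp_yon V₀) v _ _ sq₀
  have := quasiCompact_comp_stable.{u}
  have hX₀'s : IsQuasiSeparatedSp X₀' := K596.QC2.repWith_diag_of_isPullback hXqs (isQuasiSeparatedSp_yon hV₀) sq₀
  let d₀ : X₀' ⟶ D.obj i₀ := pullback.fst f₀ v ≫ f₀ ≫ b₀
  -- the system `X₀' ×_{D_{i₀}} D_j`
  let D' : Over i₀ ⥤ Sp S := PbDiag.pbDiag D i₀ d₀
  have hDfst (j : Over i₀) : IsAffineMor (pullback.fst d₀ (D.map j.hom)) :=
    isAffineMor_bc (IsPullback.of_hasPullback d₀ (D.map j.hom)).flip (hDa _ _ j.hom)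
  have hD' (j : Over i₀) : IsAlgSpace (D'.obj j) :=
    K613.Chart.isAlgSpace_pullback hX₀' (hD j.left) (hD i₀) d₀ (D.map j.hom)
  have hDa' : ∀ (j k : Over i₀) (φ : j ⟶ k), IsAffineMor (D'.map φ) := fun j k φ =>
    isAffineMor_bc (PbDiag.isPullback_pbDiag_map D i₀ d₀ φ).flip (hDa _ _ φ.left)
  have hqc' (j : Over i₀) : IsQuasiCompactSp (D'.obj j) := isQuasiCompactSp_of_affine (hDfst j) hX₀'c
  have hqs' (j : Over i₀) : IsQuasiSeparatedSp (D'.obj j) := isQuasiSeparatedSp_of_affine (hDfst j) hX₀'s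
  -- the limit
  obtain ⟨s, V, a, b, hs, hV, sq⟩ := K600.LimAff.exists_sys_of_affine hDa hc hV₀ (v ≫ b₀)
  obtain ⟨w, hw, hwq⟩ := exists_chart_target hY sq
  obtain ⟨T, m, u, sqT, hT⟩ := hf hV w
  -- `h_T = X ×_Y V = X₀' ×_{D_{i₀}} c.pt`
  have h1 : IsPullback (u ≫ pX) ((yon S).map m) f₀ ((yon S).map b ≫ v) := by
    rw [← hw.w]; exact sqT.paste_horiz hX
  have h2 : (u ≫ pX) ≫ f₀ = ((yon S).map m ≫ (yon S).map b) ≫ v := by rw [h1.w, Category.assoc]
  have h3 : IsPullback (sq₀.lift _ _ h2) ((yon S).map m) (pullback.snd f₀ v) ((yon S).map b) :=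
    IsPullback.of_right (by rw [sq₀.lift_fst]; exact h1) (sq₀.lift_snd _ _ _) sq₀
  have h4 : IsPullback (sq₀.lift _ _ h2) ((yon S).map m ≫ a) d₀ (c.π.app i₀) := by
    have := h3.paste_vert sq.flip
    have e : d₀ = pullback.snd f₀ v ≫ v ≫ b₀ := by
      change pullback.fst f₀ v ≫ f₀ ≫ b₀ = _
      rw [← Category.assoc, sq₀.w, Category.assoc]
    rw [e]
    exact this
  have hlim := PbDiag.isLimitPbCone i₀ d₀ c hc (sq₀.lift _ _ h2) ((yon S).map m ≫ a) h4
  obtain ⟨j, T', hT', ⟨e⟩⟩ := Groth.Agent.S10006.result S D' hD' hDa' hqc' hqs' _ hlim T hT (Iso.refl _)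
  -- at the stage `j`
  let Yj : Sp S := pullback b₀ (D.map j.hom)
  have sY : IsPullback (pullback.fst b₀ (D.map j.hom)) (pullback.snd b₀ (D.map j.hom)) b₀ (D.map j.hom) :=
    IsPullback.of_hasPullback _ _
  let Xj : Sp S := pullback f₀ (pullback.fst b₀ (D.map j.hom))
  have sX : IsPullback (pullback.fst f₀ (pullback.fst b₀ (D.map j.hom)))
      (pullback.snd f₀ (pullback.fst b₀ (D.map j.hom))) f₀ (pullback.fst b₀ (D.map j.hom)) :=
    IsPullback.of_hasPullback _ _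
  obtain ⟨wj, hwj, hwjq⟩ := exists_chart_target sY (s.sq j)
  -- the pullback of `X_j` to `V_j` is isomorphic to `D'.obj j`
  let Z : Sp S := pullback (pullback.snd f₀ (pullback.fst b₀ (D.map j.hom))) wj
  have sZ : IsPullback (pullback.fst (pullback.snd f₀ (pullback.fst b₀ (D.map j.hom))) wj)
    (pullback.snd (pullback.snd f₀ (pullback.fst b₀ (D.map j.hom))) wj)
    (pullback.snd f₀ (pullback.fst b₀ (D.map j.hom))) wj := IsPullback.of_hasPullback _ _
  have k1 := sZ.paste_horiz sX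
  rw [hwj.w] at k1
  have k2 : (pullback.fst (pullback.snd f₀ (pullback.fst b₀ (D.map j.hom))) wj ≫
      pullback.fst f₀ (pullback.fst b₀ (D.map j.hom))) ≫ f₀ =
      (pullback.snd (pullback.snd f₀ (pullback.fst b₀ (D.map j.hom))) wj ≫ (yon S).map (s.snd j)) ≫ v := by
    rw [k1.w, Category.assoc]
  have k3 : IsPullback (sq₀.lift _ _ k2) (pullback.snd (pullback.snd f₀ (pullback.fst b₀ (D.map j.hom))) wj)
      (pullback.snd f₀ v) ((yon S).map (s.snd j)) :=
    IsPullback.of_right (by rw [sq₀.lift_fst]; exact k1) (sq₀.lift_snd _ _ _) sq₀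
  have k4 : IsPullback (sq₀.lift _ _ k2)
      (pullback.snd (pullback.snd f₀ (pullback.fst b₀ (D.map j.hom))) wj ≫ s.fst j) d₀ (D.map j.hom) := by
    have := k3.paste_vert (s.sq j).flip
    have e : d₀ = pullback.snd f₀ v ≫ v ≫ b₀ := by
      change pullback.fst f₀ v ≫ f₀ ≫ b₀ = _
      rw [← Category.assoc, sq₀.w, Category.assoc]
    rw [e]
    exact this
  have e2 : (yon S).obj T' ≅ Z := e ≪≫ (k4.isoPullback).symm
  have k5 : IsAffineMor (pullback.snd (pullback.snd f₀ (pullback.fst b₀ (D.map j.hom))) wj) :=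
    isAffineMor_of_iso hT' (hs j) e2 _
  have k6 : IsAffineMor (pullback.snd f₀ (pullback.fst b₀ (D.map j.hom))) :=
    K597.Affine.isAffineMor_of_cover sZ (K597.repWith_bc' _ hwj hv) (K597.repWith_bc' _ hwj hvs) k5
  exact ⟨j.left, j.hom, Ev.of_stage (T := IsAffineMor) sY sX (fun sq h => isAffineMor_bc sq h) k6⟩

include hD hDa hc hX₀ hY₀ hXqc hXqs hYqc hYqs hY hX in
/-- descent of a property of affine morphisms -/
theorem exists_ev_of_affine {P Q : MorphismProperty Scheme.{u}}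
    [P.IsStableUnderBaseChange] [Q.IsStableUnderBaseChange] [P.DescendsAlong K613.Cover.fppf.{u}]
    (hQ : K597.EtLoc Q) (hPQ : StDesc.StageDescQ Q P) (h₀ : LocP Q f₀) (hfa : IsAffineMor f) (hf : RepWith P f) :
    ∃ (i : I) (φ : i ⟶ i₀), Ev (RepWith P) D φ f₀ b₀ := by
  obtain ⟨i, φ, h⟩ := exists_ev_affine hD hDa hc hX₀ hY₀ f₀ b₀ hXqc hXqs hYqc hYqs hY hX hfa
  -- stage `i`
  have sY : IsPullback (pullback.fst b₀ (D.map φ)) (pullback.snd b₀ (D.map φ)) b₀ (D.map φ) :=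
    IsPullback.of_hasPullback _ _
  have sX : IsPullback (pullback.fst f₀ (pullback.fst b₀ (D.map φ)))
      (pullback.snd f₀ (pullback.fst b₀ (D.map φ))) f₀ (pullback.fst b₀ (D.map φ)) :=
    IsPullback.of_hasPullback _ _
  have hYi : IsAlgSpace (pullback b₀ (D.map φ)) := isAlgSpace_target hY₀ hD sY
  have hXi : IsAlgSpace (pullback f₀ (pullback.fst b₀ (D.map φ))) := isAlgSpace_source hX₀ hY₀ hD sY sX
  have hfi : IsAffineMor (pullback.snd f₀ (pullback.fst b₀ (D.map φ))) :=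
    h i (𝟙 i) _ _ _ _ _ (by rw [Category.id_comp]; exact sY) _ sX
  have hfi' := K597.Affine.repWith_of_isAffineMor hfi
  have hY' : IsPullback pY qY b₀ (c.π.app i ≫ D.map φ) := by rw [c.w]; exact hY
  obtain ⟨p', hp', hp⟩ := exists_restart_target hY' sY
  obtain ⟨p'', hp''⟩ := exists_restart_source hX sX hp
  have hYic : IsQuasiCompactSp (pullback b₀ (D.map φ)) :=
    isQuasiCompactSp_of_affine (isAffineMor_bc sY.flip (hDa _ _ φ)) hYqc
  obtain ⟨j, χ, hj⟩ := exists_ev_rep hDa hc (pullback.snd f₀ (pullback.fst b₀ (D.map φ)))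
    (pullback.snd b₀ (D.map φ)) hYic hp' hp'' hPQ
    (K597.repWith_mono (fun A B g hg => by
      have : IsAffineHom g := hg
      change QuasiCompact g
      infer_instance) hfi')
    (K597.repWith_mono (fun A B g hg => by
      have : IsAffineHom g := hg
      change QuasiSeparated g
      infer_instance) hfi')
    (K597.repWith_of_locP hQ hYi.hasAtlas hfi'.1 (K597.locP_bc hQ sX hX₀.hasAtlas hY₀.hasAtlas hYi.hasAtlas h₀)) hf
  exact ⟨j, χ ≫ φ, Ev.restart sY sX hj⟩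

include hD hDa hc hX₀ hY₀ hXqc hXqs hYqc hYqs hY hX in
theorem exists_ev_finite (h₀ : LocP @LocallyOfFiniteType f₀) (hf : IsFiniteMor f) :
    ∃ (i : I) (φ : i ⟶ i₀), Ev IsFiniteMor D φ f₀ b₀ := by
  have := K595.DescInst.isFinite.{u}
  have h1 := K617.FinLoc.isFiniteMor_iff.1 hf
  obtain ⟨i, φ, h⟩ := exists_ev_of_affine hD hDa hc hX₀ hY₀ f₀ b₀ hXqc hXqs hYqc hYqs hY hX K597.etLoc_lft
    StDesc.stageDescQ_finite h₀ (K597.Affine.isAffineMor_of_repWith (K597.repWith_mono (fun A B g hg => by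
      have : IsFinite g := hg
      change IsAffineHom g
      infer_instance) h1)) h1
  exact ⟨i, φ, fun j ψ _ _ _ _ _ h1 _ h2 => K617.FinLoc.isFiniteMor_iff.2 (h j ψ _ _ _ _ _ h1 _ h2)⟩

include hD hDa hc hX₀ hY₀ hXqc hXqs hYqc hYqs hY hX in
theorem exists_ev_closedImmersion (h₀ : LocP @LocallyOfFiniteType f₀) (hf : RepWith @IsClosedImmersion f) :
    ∃ (i : I) (φ : i ⟶ i₀), Ev (RepWith @IsClosedImmersion) D φ f₀ b₀ := by
  have := K595.DescInst.isClosedImmersion.{u}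
  exact exists_ev_of_affine hD hDa hc hX₀ hY₀ f₀ b₀ hXqc hXqs hYqc hYqs hY hX K597.etLoc_lft
    StDesc.stageDescQ_closedImmersion h₀ (K597.Affine.isAffineMor_of_repWith (K597.repWith_mono (fun A B g hg => by
      have : IsClosedImmersion g := hg
      change IsAffineHom g
      infer_instance) hf)) hf

end main

end K601.RelAff
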