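import Groth.Agent.AlgSp.K601.RelLimRep
import Groth.Agent.AlgSp.K601.SheafifyLim
import Groth.Agent.AlgSp.K597.LocP
import Groth.Agent.AlgSp.K597.EtLoc
import Groth.Prelude.Def_AlgSp3

/-!
# Morphisms of algebraic spaces locally of finite presentation are relatively limit preserving
-/

set_option autoImplicit false
set_option backward.isDefEq.respectTransparency false
universe u

open CategoryTheory CategoryTheory.Limits AlgebraicGeometry Opposite
open AlgSp

namespace K601.RelLimSp

open K601.LimPres K594.Elem K601.RelLimRep K601.SheafifyLim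

variable {S : Scheme.{u}}

theorem isSheaf_fiberFun {F G : PSp S} (f : F ⟶ G) (hF : Presieve.IsSheaf (J S) F)
    (hG : Presieve.IsSheaf (J S) G) (T : Over S) (y : G.obj (op T)) :
    Presieve.IsSheaf (J T.left) (fiberFun f T y) := by
  have hF' : Presieve.IsSheaf (J T.left) ((Over.map T.hom).op ⋙ F) :=
    Functor.op_comp_isSheaf_of_isSheaf_type (J := J T.left) (K := J S) (F := Over.map T.hom) hF
  have hG' : Presieve.IsSheaf (J T.left) ((Over.map T.hom).op ⋙ G) :=
    Functor.op_comp_isSheaf_of_isSheaf_type (J := J T.left) (K := J S) (F := Over.map T.hom) hG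
  intro T' R hR x hx
  let x' : Presieve.FamilyOfElements ((Over.map T.hom).op ⋙ F) R.arrows := fun Y g hg => (x g hg).1
  have hx' : x'.Compatible := fun Y₁ Y₂ Z g₁ g₂ f₁ f₂ h₁ h₂ e => congrArg Subtype.val (hx g₁ g₂ h₁ h₂ e)
  obtain ⟨t, ht, htu⟩ := hF' R hR x' hx'
  refine ⟨⟨t, ?_⟩, fun Y g hg => Subtype.ext (ht g hg), fun t' ht' => Subtype.ext (htu t'.1 fun Y g hg =>
    congrArg Subtype.val (ht' g hg))⟩
  refine (hG' R hR).isSeparatedFor.ext (fun Y g hg => ?_)
  change G.map ((Over.map T.hom).map g).op (f.app _ t) = G.map ((Over.map T.hom).map g).op (G.map (overHom T T').op y)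
  rw [← naturality_op, map_op_comp, map_comp_overHom]
  exact (congrArg _ (ht g hg)).trans (x g hg).2

theorem core {F G : Sp S} {f : F ⟶ G} {U : Over S} {a : (yon S).obj U ⟶ F} (hae : RepWith @Etale a)
    (haf : IsRelLimitPreserving (a ≫ f).hom) {I : Type u} [SmallCategory I] [IsCofiltered I] {D : I ⥤ Over S}
    {c : Cone D} (hc : IsLimit ((Over.forget S).mapCone c)) (hD : ∀ i, IsAffine (D.obj i).left)
    (hT : IsAffine c.pt.left) (i : I) (x x' : ((yon S).obj U).obj.obj (op (D.obj i)))
    (hY : f.hom.app _ (a.hom.app _ x) = f.hom.app _ (a.hom.app _ x'))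
    (h : F.obj.map (c.π.app i).op (a.hom.app _ x) = F.obj.map (c.π.app i).op (a.hom.app _ x')) :
    ∃ (j : I) (φ : j ⟶ i), F.obj.map (D.map φ).op (a.hom.app _ x) = F.obj.map (D.map φ).op (a.hom.app _ x') := by
  obtain ⟨V, v, ξ, hV, hv⟩ := RepWith.exists_isRep hae (a.hom.app _ x')
  obtain ⟨k, hk1, hk2⟩ := hV.lift (c.π.app i) (((yon S).obj U).obj.map (c.π.app i).op x) (by
    rw [app_map, h])
  obtain ⟨j, φ, gj, h1, h2⟩ := exists_factor hc hD v (by
    have : Etale v.left := hv
    infer_instance) (𝟙 _) k (by rw [hk1, Category.comp_id])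
  rw [Category.comp_id] at h2
  have haf' := ((isRelLimitPreserving_iff _).1 haf D c hc hD hT).2
  have e1 : a.hom.app _ (((yon S).obj U).obj.map gj.op ξ) = F.obj.map (D.map φ).op (a.hom.app _ x') := by
    rw [app_map, hV.w, map_op_comp, h2]
  obtain ⟨k', ψ, e⟩ := haf' j (((yon S).obj U).obj.map gj.op ξ) (((yon S).obj U).obj.map (D.map φ).op x) (by
    change f.hom.app _ (a.hom.app _ _) = f.hom.app _ (a.hom.app _ _)
    rw [e1, app_map f, ← hY, ← app_map f, ← app_map a]) (by
    rw [map_op_comp, map_op_comp, h1, c.w]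
    exact hk2)
  refine ⟨k', ψ ≫ φ, ?_⟩
  have e' := congrArg (a.hom.app _) e
  rw [app_map, app_map, hV.w, map_op_comp, map_op_comp, Category.assoc, h2, app_map, app_map, map_op_comp] at e'
  rw [D.map_comp]
  exact e'.symm

/-- the map of fibre functors -/
def fiberMap {F G : Sp S} (f : F ⟶ G) {U : Over S} (a : (yon S).obj U ⟶ F) (T : Over S) (y : G.obj.obj (op T)) :
    fiberFun (a ≫ f).hom T y ⟶ fiberFun f.hom T y where
  app T' := ↾fun x => ⟨a.hom.app _ x.1, x.2⟩
  naturality T' T'' g := by
    ext x : 3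
    apply Subtype.ext
    exact app_map a _ _

theorem isRelLimitPreserving_of_atlas {F G : Sp S} {f : F ⟶ G} {U : Over S} {a : (yon S).obj U ⟶ F}
    (hae : RepWith @Etale a) (has : RepWith @Surjective a) (haf : IsRelLimitPreserving (a ≫ f).hom) :
    IsRelLimitPreserving f.hom := by
  intro T y
  refine isLimitPreserving_sheaf' Stage.admissible_flat hasAffCovers_fppf (fiberMap f a T y) ?_
    (isSheaf_fiberFun f.hom ((isSheaf_iff_isSheaf_of_type _ _).1 F.property)
      ((isSheaf_iff_isSheaf_of_type _ _).1 G.property) T y) ?_ (allEvSurj (haf T y))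
  · intro T' s
    obtain ⟨V, v, ξ, hV, hv⟩ := RepWith.exists_isRep hae s.1
    have hvs : Surjective v.left := RepWith.prop_of_isRep has hV
    let W : Over T.left := Over.mk (v.left ≫ T'.hom)
    let w : W ⟶ T' := Over.homMk v.left rfl
    let e : (Over.map T.hom).obj W ≅ V := Over.isoMk (Iso.refl _) (by
      change 𝟙 _ ≫ V.hom = (v.left ≫ T'.hom) ≫ T.hom
      rw [Category.id_comp, ← Over.w v, Category.assoc]
      rfl)
    have he : e.hom ≫ v = (Over.map T.hom).map w := by
      apply Over.OverMorphism.ext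
      exact Category.id_comp _
    have h1 : a.hom.app _ (((yon S).obj U).obj.map e.hom.op ξ) = F.obj.map ((Over.map T.hom).map w).op s.1 := by
      rw [app_map, hV.w, map_op_comp, he]
    have hlfp : LocallyOfFinitePresentation v.left := by
      have : Etale v.left := hv
      infer_instance
    have hfl : Flat v.left := by
      have : Etale v.left := hv
      infer_instance
    refine ⟨Sieve.ofArrows (fun _ : PUnit.{u+1} => W) (fun _ => w),
      FppfSieve.ofArrows_mem_J _ _ (fun _ => hfl) (fun _ => hlfp)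
        (fun t => ⟨⟨⟩, hvs.surj t⟩), ?_⟩
    rintro Z p ⟨_, g, _, ⟨⟨⟩⟩, rfl⟩
    refine ⟨(fiberFun (a ≫ f).hom T y).map g.op ⟨((yon S).obj U).obj.map e.hom.op ξ, ?_⟩, Subtype.ext ?_⟩
    · change f.hom.app _ (a.hom.app _ _) = _
      rw [h1, app_map]
      have h2 := congrArg (G.obj.map ((Over.map T.hom).map w).op) s.2
      refine h2.trans ?_
      rw [map_op_comp, map_comp_overHom]
    · change a.hom.app _ (((yon S).obj U).obj.map ((Over.map T.hom).map g).op _) =
        F.obj.map ((Over.map T.hom).map (g ≫ w)).op s.1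
      rw [app_map, h1, map_op_comp, ← Functor.map_comp]
  · intro I _ _ D c hc hD hT i x x' h
    obtain ⟨j, φ, e⟩ := core (f := f) hae haf (D := D ⋙ Over.map T.hom) (c := (Over.map T.hom).mapCone c) hc hD hT i
      x.1 x'.1 (x.2.trans x'.2.symm) (congrArg Subtype.val h)
    exact ⟨j, φ, Subtype.ext e⟩

/-- A morphism of algebraic spaces which is locally of finite presentation is relatively limit preserving. -/
theorem isRelLimitPreserving_of_locP {F G : Sp S} (hF : IsAlgSpace F) (hG : IsAlgSpace G) {f : F ⟶ G}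
    (hf : LocP @LocallyOfFinitePresentation f) : IsRelLimitPreserving f.hom := by
  obtain ⟨U, a, hae, has⟩ := hF.atlas
  refine isRelLimitPreserving_of_atlas hae has (isRelLimitPreserving_of_repWith ?_)
  exact K597.repWith_of_locP K597.etLoc_lfp hG.atlas (hG.representable_from_yon _) (K597.locP_precomp hae hf)

theorem locP_lfp_iff {F G : Sp S} (hF : IsAlgSpace F) (hG : IsAlgSpace G) (f : F ⟶ G) :
    LocP @LocallyOfFinitePresentation f ↔ IsRelLimitPreserving f.hom :=
  ⟨isRelLimitPreserving_of_locP hF hG, locP_of_isRelLimitPreserving⟩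

end K601.RelLimSp
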