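import Groth.Agent.PicF.K245.GeomCR
import Groth.Agent.Ega1.ReducedSub
import Mathlib.AlgebraicGeometry.Morphisms.Preimmersion
/-!
# A connected family joining two points of a fibre

`exists_connected`: `Γ ⟶ S`, `s : Spec k ⟶ S` a preimmersion, `e` a section of `Γ` over `s`, `a` a point of `Γ`
over `s` with values in a field `k'` over `k` such that the image of `e` is a specialization of the image of `a`.
Then `a` and `e` (over `k'`) are sections of a connected scheme `W` over `k'` with a map to `Γ`.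
-/

set_option autoImplicit false
universe u
open CategoryTheory CategoryTheory.Limits AlgebraicGeometry TopologicalSpace

namespace K601.ConnArc

theorem exists_connected {Γ S : Scheme.{u}} (f : Γ ⟶ S) {k k' : Type u} [Field k] [Field k']
    (s : Spec (CommRingCat.of k) ⟶ S) [IsPreimmersion s] (l : Spec (CommRingCat.of k') ⟶ Spec (CommRingCat.of k))
    (a : Spec (CommRingCat.of k') ⟶ Γ) (ha : a ≫ f = l ≫ s) (e : Spec (CommRingCat.of k) ⟶ Γ) (he : e ≫ f = s)
    (hsp : a (IsLocalRing.closedPoint k') ⤳ e (IsLocalRing.closedPoint k)) :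
    ∃ (W : Scheme.{u}) (π : W ⟶ Spec (CommRingCat.of k')) (u : W ⟶ Γ) (a' b' : Spec (CommRingCat.of k') ⟶ W),
      ConnectedSpace ↥W ∧ u ≫ f = π ≫ l ≫ s ∧ a' ≫ π = 𝟙 _ ∧ b' ≫ π = 𝟙 _ ∧ a' ≫ u = a ∧ b' ≫ u = l ≫ e := by
  let fst := pullback.fst f s
  let snd := pullback.snd f s
  let a₁ : Spec (CommRingCat.of k') ⟶ pullback f s := pullback.lift a l ha
  let e₁ : Spec (CommRingCat.of k) ⟶ pullback f s := pullback.lift e (𝟙 _) (by rw [he, Category.id_comp])
  have ha₁ : a₁ ≫ fst = a := pullback.lift_fst _ _ _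
  have ha₂ : a₁ ≫ snd = l := pullback.lift_snd _ _ _
  have he₁ : e₁ ≫ fst = e := pullback.lift_fst _ _ _
  have he₂ : e₁ ≫ snd = 𝟙 _ := pullback.lift_snd _ _ _
  let x : ↥(pullback f s) := a₁ (IsLocalRing.closedPoint k')
  have hsp₁ : x ⤳ e₁ (IsLocalRing.closedPoint k) := by
    rw [← (IsPreimmersion.isEmbedding fst).isInducing.specializes_iff]
    change fst (a₁ _) ⤳ fst (e₁ _)
    rw [← Scheme.Hom.comp_apply, ← Scheme.Hom.comp_apply, ha₁, he₁]
    exact hsp
  let I : (pullback f s).IdealSheafData := Scheme.IdealSheafData.vanishingIdeal ⟨closure {x}, isClosed_closure⟩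
  have hr : Set.range I.subschemeι = closure {x} := by
    rw [Scheme.IdealSheafData.range_subschemeι, Scheme.IdealSheafData.coe_support_vanishingIdeal]
    rfl
  have hirr : IrreducibleSpace I.subscheme := by
    have h1 : IsIrreducible (Set.range I.subschemeι) := by
      rw [hr]; exact isIrreducible_singleton.closure
    have := Subtype.irreducibleSpace h1
    exact I.subschemeι.isClosedEmbedding.isEmbedding.toHomeomorph.irreducibleSpace_iff.mpr this
  have hsub : ∀ (K : Type u) [Field K] (b : Spec (CommRingCat.of K) ⟶ pullback f s),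
      b (IsLocalRing.closedPoint K) ∈ closure {x} → ∃ b' : Spec (CommRingCat.of K) ⟶ I.subscheme, b' ≫ I.subschemeι = b := by
    intro K _ b hb
    refine Groth.Agent.Ega1.ReducedSub.exists_factor_of_range_subset b I.subschemeι ?_
    rw [hr]
    rintro _ ⟨z, rfl⟩
    rw [Subsingleton.elim z (IsLocalRing.closedPoint K)]
    exact hb
  obtain ⟨a₂, ha₃⟩ := hsub k' a₁ (subset_closure rfl)
  obtain ⟨e₂, he₃⟩ := hsub k e₁ (specializes_iff_mem_closure.1 hsp₁)
  have hgc : GeometricallyConnected (I.subschemeι ≫ snd) :=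
    K245.GeomCR.geometricallyConnected_of_point (I.subschemeι ≫ snd) e₂ (by
      rw [← Category.assoc, he₃, he₂])
  refine ⟨pullback (I.subschemeι ≫ snd) l, pullback.snd _ _, pullback.fst _ _ ≫ I.subschemeι ≫ fst,
    pullback.lift a₂ (𝟙 _) ?_, pullback.lift (l ≫ e₂) (𝟙 _) ?_, ?_, ?_, pullback.lift_snd _ _ _,
    pullback.lift_snd _ _ _, ?_, ?_⟩
  · rw [← Category.assoc, ha₃, ha₂, Category.id_comp]
  · rw [Category.assoc, ← Category.assoc e₂, he₃, he₂, Category.id_comp, Category.comp_id]
  · exact hgc.geometrically_connectedSpace _ _ _ (.of_hasPullback _ _)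
  · have h1 : fst ≫ f = snd ≫ s := pullback.condition
    have h2 := pullback.condition (f := I.subschemeι ≫ snd) (g := l)
    rw [Category.assoc, Category.assoc, h1, ← Category.assoc I.subschemeι, ← Category.assoc, h2, Category.assoc]
  · rw [pullback.lift_fst_assoc, ← Category.assoc, ha₃, ha₁]
  · rw [pullback.lift_fst_assoc, Category.assoc, ← Category.assoc e₂, he₃, he₁]

end K601.ConnArc
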