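import Groth.Agent.AlgSp.K601.EnlClosed
/-!
# Products `H₀ X₀` of open subspaces are closed fibre by fibre
-/

set_option autoImplicit false
set_option backward.isDefEq.respectTransparency false
universe w v u
open CategoryTheory MonoidalCategory CartesianMonoidalCategory MonObj GrpObj AlgebraicGeometry
open Opposite
open AlgSp

namespace K601.EnlFibC

open K622.Basic K626.GrpTrans K601.EnlGrp K601.EnlFib K601.EnlPts K601.EnlAct K601.EnlClosed

variable {S : Scheme.{u}} {G M : Over ((yon S).obj (Over.mk (𝟙 S)))} [GrpObj G] (act : GAction G M)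
  {H₀ X₀ X : Sp S} {j : H₀ ⟶ G.left} {i₀ : X₀ ⟶ M.left} {i : X ⟶ M.left}

/-- The fibres of `G` over points with values in algebraically closed fields are schemes. -/
def FibRep (G : Over ((yon S).obj (Over.mk (𝟙 S)))) : Prop :=
  ∀ (K : Type u) [Field K] [IsAlgClosed K] (t : Spec (CommRingCat.of K) ⟶ S),
    ∃ (T₀ : Over S) (a : (yon S).obj T₀ ⟶ G.left) (q : T₀ ⟶ Over.mk t),
      IsPullback a ((yon S).map q) G.hom ((yon S).map (K625.Prod.toBase (Over.mk t)))

theorem range_eq_preimage {F X : Sp S} {i : X ⟶ F} {Z V : Over S} {h : (yon S).obj Z ⟶ F} {v : V ⟶ Z}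
    {h' : (yon S).obj V ⟶ X} (sq : IsPullback h' ((yon S).map v) i h) :
    Set.range v.left = Points.ofPt h ⁻¹' Set.range (Points.map i) := by
  ext z
  constructor
  · rintro ⟨y, rfl⟩
    refine ⟨Points.ofPt h' y, ?_⟩
    rw [Points.map_ofPt, sq.w, K608.Pts.ofPt_yon_map_comp]
  · intro hz
    obtain ⟨y, hy⟩ := K608.Pts.exists_point_of_isPullback_yon sq z hz
    exact ⟨y, hy⟩

theorem isClosed_chart (hG : IsAlgSpace G.left) (hGft : LocP @LocallyOfFiniteType G.hom)
    (hM : IsAlgSpace M.left)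
    (hrep : FibRep G) (hj : RepWith @IsOpenImmersion j)
    (hi₀ : RepWith @IsOpenImmersion i₀) (hi : RepWith @IsOpenImmersion i) (hmem : Mem act j i₀ i)
    (hflat : K622.AnDefs.OrbFlat act) {K : Type u} [Field K] [IsAlgClosed K] {t : Spec (CommRingCat.of K) ⟶ S}
    {W₁ : Over S} (ω : W₁ ⟶ Over.mk t) (hω : LocallyOfFiniteType ω.left) (c : (yon S).obj W₁ ⟶ M.left) :
    IsClosed (Points.ofPt c ⁻¹' Set.range (Points.map i)) := by
  obtain ⟨T₀, a, q, hp⟩ := hrep K t
  have hq : LocallyOfFiniteType q.left := locP_yon_map (K597.locP_bc K597.etLoc_lft hp hG.hasAtlas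
    (IsAlgSpace.yon_obj _).hasAtlas (IsAlgSpace.yon_obj _).hasAtlas hGft)
  let W : Over (Spec (CommRingCat.of K)) := Over.mk ω.left
  let ν : res t W ⟶ W₁ := Over.homMk (𝟙 _) (by
    change 𝟙 _ ≫ W₁.hom = ω.left ≫ t
    rw [Category.id_comp]
    exact (Over.w ω).symm)
  have h1 := isClosed_preimage act hM hp hq hj hi₀ hi hmem hflat W hω (pt ((yon S).map ν ≫ c))
  have h2 : Points.ofPt (T := res t W) ((yon S).map ν ≫ c) = Points.ofPt c := by
    funext w
    exact K608.Pts.ofPt_yon_map_comp ν c w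
  change IsClosed (Points.ofPt (T := res t W) ((yon S).map ν ≫ c) ⁻¹' Set.range (Points.map i)) at h1
  rw [h2] at h1
  exact h1

theorem fibClosed (hG : IsAlgSpace G.left) (hGft : LocP @LocallyOfFiniteType G.hom)
    (hM : IsAlgSpace M.left) (hMft : LocP @LocallyOfFiniteType M.hom)
    (hrep : FibRep G) (hj : RepWith @IsOpenImmersion j)
    (hi₀ : RepWith @IsOpenImmersion i₀) (hi : RepWith @IsOpenImmersion i) (hmem : Mem act j i₀ i)
    (hflat : K622.AnDefs.OrbFlat act) : K622.AnDefs.FibClosed i := by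
  intro k _ t Z V ζ h v h' sq
  rw [range_eq_preimage sq]
  let K : Type u := AlgebraicClosure k
  let l : Spec (CommRingCat.of K) ⟶ Spec (CommRingCat.of k) := Spec.map (CommRingCat.ofHom (algebraMap k K))
  let t' : Spec (CommRingCat.of K) ⟶ S := l ≫ t
  let s : (yon S).obj (Over.mk t') ⟶ (yon S).obj (Over.mk (𝟙 S)) := (yon S).map (K625.Prod.toBase (Over.mk t'))
  have sqM := IsPullback.of_hasPullback M.hom s
  have hMK : IsAlgSpace (Limits.pullback M.hom s) :=
    K608.Comp.isAlgSpace_of_isPullback sqM hM (IsAlgSpace.yon_obj _) (IsAlgSpace.yon_obj _)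
  obtain ⟨W₁, κ, hκe, hκs⟩ := hMK.hasAtlas
  obtain ⟨ω, hω⟩ := (yon S).map_surjective (κ ≫ Limits.pullback.snd M.hom s)
  have hωf : LocallyOfFiniteType ω.left :=
    (K597.locP_bc K597.etLoc_lft sqM hM.hasAtlas (IsAlgSpace.yon_obj _).hasAtlas
      (IsAlgSpace.yon_obj _).hasAtlas hMft) κ (𝟙 _) ω hκe (repWith_id _ _) (by rw [hω, Category.comp_id])
  have hcl := isClosed_chart act hG hGft hM hrep hj hi₀ hi hmem hflat ω hωf
    (κ ≫ Limits.pullback.fst M.hom s)
  -- the base change of `Z`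
  let lt : Over.mk t' ⟶ Over.mk t := Over.homMk l rfl
  have sqZ := IsPullback.of_hasPullback ζ lt
  let z₁ : Limits.pullback ζ lt ⟶ Z := Limits.pullback.fst ζ lt
  let z₂ : Limits.pullback ζ lt ⟶ Over.mk t' := Limits.pullback.snd ζ lt
  let g : (yon S).obj (Limits.pullback ζ lt) ⟶ Limits.pullback M.hom s :=
    Limits.pullback.lift ((yon S).map z₁ ≫ h) ((yon S).map z₂) (base_ext _ _)
  have hκ : RepWith (@Etale ⊓ @Surjective) κ := K598.RepKit.repWith_inf hκe hκs
  obtain ⟨R₁, p₁, p₂, sqR, hp₂⟩ := K621.Base.exists_pullback_of_repWith hκ g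
  have het : Etale p₂.left := hp₂.1
  have hsu : Surjective p₂.left := hp₂.2
  have sqZ' : IsPullback z₁.left z₂.left ζ.left lt.left := K598.RepKit.forget_isPullback sqZ
  have hls : Surjective lt.left := by
    change Surjective l
    infer_instance
  have hlo : UniversallyOpen lt.left := by
    change UniversallyOpen l
    infer_instance
  have hz₁s : Surjective z₁.left := MorphismProperty.of_isPullback sqZ'.flip hls
  have hz₁o : UniversallyOpen z₁.left := MorphismProperty.of_isPullback sqZ'.flip hlo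
  have hπ : Topology.IsQuotientMap (p₂.left ≫ z₁.left) := by
    have hop : IsOpenMap (p₂.left ≫ z₁.left) := by
      rw [Scheme.Hom.comp_base, TopCat.coe_comp]
      exact z₁.left.isOpenMap.comp p₂.left.isOpenMap
    exact hop.isQuotientMap (p₂.left ≫ z₁.left).continuous (p₂.left ≫ z₁.left).surjective
  rw [← hπ.isClosed_preimage]
  have e : (p₂.left ≫ z₁.left) ⁻¹' (Points.ofPt h ⁻¹' Set.range (Points.map i)) =
      p₁.left ⁻¹' (Points.ofPt (κ ≫ Limits.pullback.fst M.hom s) ⁻¹' Set.range (Points.map i)) := by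
    have e1 : (yon S).map (p₂ ≫ z₁) ≫ h = (yon S).map p₁ ≫ κ ≫ Limits.pullback.fst M.hom s := by
      rw [← Category.assoc ((yon S).map p₁), sqR.w, Category.assoc, Limits.pullback.lift_fst, Functor.map_comp,
        Category.assoc]
    have e2 : ∀ r : ↥R₁.left, Points.ofPt h ((p₂.left ≫ z₁.left) r) =
        Points.ofPt (κ ≫ Limits.pullback.fst M.hom s) (p₁.left r) := by
      intro r
      rw [← K608.Pts.ofPt_yon_map_comp, ← e1, K608.Pts.ofPt_yon_map_comp]
      rfl
    ext r
    simp only [Set.mem_preimage]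
    rw [e2]
  rw [e]
  exact hcl.preimage p₁.left.continuous

end K601.EnlFibC
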