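import Groth.Agent.AlgSp.K612.OrbFlat
import Groth.Agent.AlgSp.K601.ConnArc
import Groth.Agent.AlgSp.K601.EnlFibC
/-!
# Translation by a connected family in a homogeneous space

* `exists_factor_of_connected`: a morphism from a connected scheme over a field which meets a fibrewise clopen
  subspace factors through it.
* `op_factors`: the translate of a point of a fibrewise clopen subspace by a point of the group whose closure
  contains the unit is a point of the subspace.
-/

set_option autoImplicit false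
set_option backward.isDefEq.respectTransparency false
universe u
open CategoryTheory CategoryTheory.Limits MonoidalCategory CartesianMonoidalCategory MonObj GrpObj
open AlgebraicGeometry AlgSp

namespace K601.ConnTr

open K622.AnDefs K612.OrbFlat

variable {S : Scheme.{u}}

/-- A morphism from a connected scheme over a field which meets a fibrewise clopen subspace factors. -/
theorem exists_factor_of_connected {X M : Sp S} {i : X ⟶ M} (hi : RepWith @IsOpenImmersion i) (hc : FibClosed i)
    {k' : Type u} [Field k'] {t : Spec (CommRingCat.of k') ⟶ S} {W : Over S} (ω : W ⟶ Over.mk t)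
    [ConnectedSpace ↥W.left] (n : (yon S).obj W ⟶ M) (w₀ : ↥W.left)
    (hw₀ : Points.ofPt n w₀ ∈ Set.range (Points.map i)) : ∃ w : (yon S).obj W ⟶ X, w ≫ i = n := by
  rw [K608.Pts.factors_iff_of_isOpenImmersion hi]
  obtain ⟨V, v, h', sq⟩ := hi.1 n
  have ho : IsOpenImmersion v.left := hi.2 n h' v sq
  have h1 : Set.range v.left = Points.ofPt n ⁻¹' Set.range (Points.map i) := K601.EnlFibC.range_eq_preimage sq
  have h2 : IsClopen (Set.range v.left) := ⟨hc k' t W V ω n v h' sq, v.left.isOpenEmbedding.isOpen_range⟩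
  have h3 : Set.range v.left = Set.univ := h2.eq_univ ⟨w₀, by rw [h1]; exact hw₀⟩
  intro z
  have h4 : z ∈ Set.range v.left := by rw [h3]; trivial
  rw [h1] at h4
  exact h4

/-- The same with a point given by a morphism. -/
theorem exists_factor_of_connected' {X M : Sp S} {i : X ⟶ M} (hi : RepWith @IsOpenImmersion i) (hc : FibClosed i)
    {k' : Type u} [Field k'] {t : Spec (CommRingCat.of k') ⟶ S} {W : Over S} (ω : W ⟶ Over.mk t)
    [ConnectedSpace ↥W.left] (n : (yon S).obj W ⟶ M) {B : Over S} [hB : Nonempty ↥B.left] (b : B ⟶ W)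
    (m : (yon S).obj B ⟶ X) (hb : (yon S).map b ≫ n = m ≫ i) : ∃ w : (yon S).obj W ⟶ X, w ≫ i = n := by
  obtain ⟨z⟩ := hB
  refine exists_factor_of_connected hi hc ω n (b.left z) ?_
  rw [← K608.Pts.ofPt_yon_map_comp, hb, ← Points.map_ofPt]
  exact ⟨_, rfl⟩

variable {G M : Over ((yon S).obj (Over.mk (𝟙 S)))} [GrpObj G] (act : GAction G M)

theorem unit_left {F : Sp S} (r : F ⟶ (yon S).obj (Over.mk (𝟙 S))) :
    r ≫ η[G].left = (1 : ov F ⟶ G).left := by
  have h1 : (1 : ov F ⟶ G) = toUnit _ ≫ η[G] := rfl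
  rw [h1]
  change _ = (toUnit (ov F)).left ≫ η[G].left
  congr 1
  exact hom_ext1

theorem inv_one {F : Sp S} : inv ((1 : ov F ⟶ G).left) = (1 : ov F ⟶ G).left := by
  have h1 : up ((1 : ov F ⟶ G).left) = (1 : ov F ⟶ G) := up_of_left _
  change ((up ((1 : ov F ⟶ G).left))⁻¹).left = _
  rw [h1, _root_.inv_one]

variable {X : Sp S} {i : X ⟶ M.left}

/-- Translates by points of the group whose closure contains the unit. -/
theorem op_factors (hi : RepWith @IsOpenImmersion i) (hc : FibClosed i) {Γ : Over S}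
    (j : (yon S).obj Γ ⟶ G.left) {k k' : Type u} [Field k] [Field k'] {t : Spec (CommRingCat.of k') ⟶ S}
    (s : Spec (CommRingCat.of k) ⟶ S) [IsPreimmersion s] (l : Over.mk t ⟶ Over.mk s) (a : Over.mk t ⟶ Γ)
    (e : Over.mk s ⟶ Γ) {r : (yon S).obj (Over.mk s) ⟶ (yon S).obj (Over.mk (𝟙 S))}
    (he : (yon S).map e ≫ j = r ≫ η[G].left)
    (hsp : a.left (IsLocalRing.closedPoint k') ⤳ e.left (IsLocalRing.closedPoint k))
    (m : (yon S).obj (Over.mk t) ⟶ X) :
    (∃ w : (yon S).obj (Over.mk t) ⟶ X, w ≫ i = op act ((yon S).map a ≫ j) (m ≫ i)) ∧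
      (∃ w : (yon S).obj (Over.mk t) ⟶ X, w ≫ i = op act (inv ((yon S).map a ≫ j)) (m ≫ i)) := by
  have hl : l.left ≫ s = t := Over.w l
  obtain ⟨W, π, u, a', b', hW, h1, h2, h3, h4, h5⟩ := K601.ConnArc.exists_connected Γ.hom s l.left a.left
    ((Over.w a).trans hl.symm) e.left (Over.w e) hsp
  let W' : Over S := Over.mk (u ≫ Γ.hom)
  have hW' : ConnectedSpace ↥W'.left := hW
  let u' : W' ⟶ Γ := Over.homMk u rfl
  let ω : W' ⟶ Over.mk t := Over.homMk π (by
    change π ≫ t = u ≫ Γ.hom
    rw [h1, hl])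
  let a'' : Over.mk t ⟶ W' := Over.homMk a' (by
    change a' ≫ u ≫ Γ.hom = t
    rw [← Category.assoc, h4]
    exact Over.w a)
  let b'' : Over.mk t ⟶ W' := Over.homMk b' (by
    change b' ≫ u ≫ Γ.hom = t
    rw [← Category.assoc, h5, Category.assoc]
    exact (congrArg (l.left ≫ ·) (Over.w e)).trans hl)
  have ha1 : a'' ≫ u' = a := Over.OverMorphism.ext h4
  have ha2 : a'' ≫ ω = 𝟙 _ := Over.OverMorphism.ext h2
  have hb1 : b'' ≫ u' = l ≫ e := Over.OverMorphism.ext h5
  have hb2 : b'' ≫ ω = 𝟙 _ := Over.OverMorphism.ext h3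
  have hne : Nonempty ↥(Over.mk t).left := inferInstanceAs (Nonempty ↥(Spec (CommRingCat.of k')))
  have hbj : (yon S).map b'' ≫ (yon S).map u' ≫ j = (1 : ov ((yon S).obj (Over.mk t)) ⟶ G).left := by
    rw [← Functor.map_comp_assoc, hb1, Functor.map_comp_assoc, he, ← Category.assoc, unit_left]
  have haj : (yon S).map a'' ≫ (yon S).map u' ≫ j = (yon S).map a ≫ j := by
    rw [← Functor.map_comp_assoc, ha1]
  have hbm : (yon S).map b'' ≫ (yon S).map ω ≫ m ≫ i = m ≫ i := by
    rw [← Functor.map_comp_assoc, hb2, CategoryTheory.Functor.map_id, Category.id_comp]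
  have ham : (yon S).map a'' ≫ (yon S).map ω ≫ m ≫ i = m ≫ i := by
    rw [← Functor.map_comp_assoc, ha2, CategoryTheory.Functor.map_id, Category.id_comp]
  constructor
  · obtain ⟨w, hw⟩ := exists_factor_of_connected' hi hc ω (op act ((yon S).map u' ≫ j) ((yon S).map ω ≫ m ≫ i)) b'' m
      (by rw [comp_op, hbj, hbm, op_one])
    exact ⟨(yon S).map a'' ≫ w, by rw [Category.assoc, hw, comp_op, haj, ham]⟩
  · obtain ⟨w, hw⟩ := exists_factor_of_connected' hi hc ω (op act (inv ((yon S).map u' ≫ j)) ((yon S).map ω ≫ m ≫ i))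
      b'' m (by rw [comp_op, K612.OrbFlat.comp_inv, hbj, hbm, inv_one, op_one])
    exact ⟨(yon S).map a'' ≫ w, by rw [Category.assoc, hw, comp_op, K612.OrbFlat.comp_inv, haj, ham]⟩

end K601.ConnTr
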