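import Groth.Agent.AlgSp.K601.ConnTr
import Groth.Agent.AlgSp.K622.CoreC
import Groth.Agent.AlgSp.K622.Trans
/-!
# Node C1: translates by arcs

`main : K622.CoreC.NodeC1`.
-/

set_option autoImplicit false
set_option backward.isDefEq.respectTransparency false
universe u
open CategoryTheory CategoryTheory.Limits MonoidalCategory CartesianMonoidalCategory MonObj
open AlgebraicGeometry AlgSp

namespace K601.CoreC1

open K622.AnDefs K622.AnDefs2 K622.CoreC K612.OrbFlat K601.ConnTr

theorem isPreimmersion_residueField {R : Type u} [CommRing R] (p : Ideal R) [p.IsPrime] :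
    IsPreimmersion (Spec.map (CommRingCat.ofHom (algebraMap R p.ResidueField))) := by
  have h1 : IsPreimmersion (Spec.map (CommRingCat.ofHom (algebraMap R (Localization.AtPrime p)))) :=
    IsPreimmersion.of_isLocalization p.primeCompl
  have h2 : IsClosedImmersion (Spec.map (CommRingCat.ofHom (algebraMap (Localization.AtPrime p) p.ResidueField))) :=
    IsClosedImmersion.spec_of_surjective _ (IsLocalRing.residue_surjective)
  have h3 : Spec.map (CommRingCat.ofHom (algebraMap R p.ResidueField)) =
      Spec.map (CommRingCat.ofHom (algebraMap (Localization.AtPrime p) p.ResidueField)) ≫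
        Spec.map (CommRingCat.ofHom (algebraMap R (Localization.AtPrime p))) := by
    rw [← Spec.map_comp, ← CommRingCat.ofHom_comp, ← IsScalarTower.algebraMap_eq]
  rw [h3]
  infer_instance

variable {R K : Type u} [CommRing R] [Field K] [Algebra R K]
  {G : Over ((yon (Spec (CommRingCat.of R))).obj (Over.mk (𝟙 (Spec (CommRingCat.of R)))))} [GrpObj G]
  {D : HData R K G} {q : MaximalSpectrum R} (A : Arc R K D q)

/-- The two points of the arc. -/
theorem arc_spec [IsDomain R] (y : ↥(Spec (CommRingCat.of A.P))) (p : Ideal R) [p.IsPrime]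
    (hp : p = y.asIdeal.comap A.φ) :
    ∃ e₀ : Over.mk (Spec.map (CommRingCat.ofHom (algebraMap R p.ResidueField))) ⟶ loc q,
      A.c.left y ⤳ (e₀ ≫ A.e).left (IsLocalRing.closedPoint p.ResidueField) := by
  have hpq : p ≤ q.asIdeal := by
    rw [hp, ← A.comap]
    exact Ideal.comap_mono (IsLocalRing.le_maximalIdeal y.isPrime.ne_top)
  have hker : RingHom.ker (algebraMap R p.ResidueField) = p := Ideal.ker_algebraMap_residueField p
  let g : Localization.AtPrime q.asIdeal →+* p.ResidueField :=
    IsLocalization.lift (M := q.asIdeal.primeCompl) (g := algebraMap R p.ResidueField) (fun x => by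
      rw [isUnit_iff_ne_zero]
      intro h0
      have h1 : (x : R) ∈ p := by
        rw [← hker]
        exact h0
      exact x.2 (hpq h1))
  have hg : g.comp (algebraMap R (Localization.AtPrime q.asIdeal)) = algebraMap R p.ResidueField :=
    IsLocalization.lift_comp _
  let e₀ : Over.mk (Spec.map (CommRingCat.ofHom (algebraMap R p.ResidueField))) ⟶ loc q :=
    Over.homMk (Spec.map (CommRingCat.ofHom g)) (by
      change Spec.map _ ≫ Spec.map _ = Spec.map _
      rw [← Spec.map_comp, ← CommRingCat.ofHom_comp, hg])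
  refine ⟨e₀, ?_⟩
  let z : ↥(loc q).left := e₀.left (IsLocalRing.closedPoint p.ResidueField)
  have hz : ((loc q).hom z).asIdeal = p := by
    have h1 : (loc q).hom z = Spec.map (CommRingCat.ofHom (algebraMap R p.ResidueField))
        (IsLocalRing.closedPoint p.ResidueField) := by
      change (loc q).hom (e₀.left _) = _
      rw [← Scheme.Hom.comp_apply, Over.w e₀]
      rfl
    rw [h1]
    change (IsLocalRing.closedPoint p.ResidueField).asIdeal.comap (algebraMap R p.ResidueField) = p
    rw [IsLocalRing.closedPoint]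
    change (IsLocalRing.maximalIdeal p.ResidueField).comap _ = p
    rw [IsLocalRing.maximalIdeal_eq_bot]
    exact hker
  change A.c.left y ⤳ A.e.left z
  rcases K622.Trans.eq_bot_or_eq_max y with h | h
  · have h1 : y = (⊥ : PrimeSpectrum A.P) := PrimeSpectrum.ext h
    rw [h1]
    refine A.spec_gen z ?_
    rw [hz, hp, h, eq_bot_iff]
    intro a ha
    by_contra h2
    exact K622.Trans.ne_zero_of_flat A.flat h2 ha
  · have h1 : y = IsLocalRing.closedPoint A.P := PrimeSpectrum.ext h
    have h2 : z = IsLocalRing.closedPoint (Localization.AtPrime q.asIdeal) := by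
      apply PrimeSpectrum.localization_comap_injective (Localization.AtPrime q.asIdeal) q.asIdeal.primeCompl
      apply PrimeSpectrum.ext
      refine hz.trans ?_
      rw [hp, h, A.comap]
      exact (Localization.AtPrime.under_maximalIdeal (I := q.asIdeal)).symm
    rw [h1, h2]
    exact A.spec_closed

/-- **Node C1**. -/
theorem main : NodeC1.{u} := by
  intro R K _ _ _ _ _ G M _ act X i hs hc D q A Xs eX T p m
  have hi := hs.op
  let a : T ⟶ A.Γ := p ≫ A.c
  have key : ∀ z : ↥T.left,
      Points.ofPt (op act ((yon (Spec (CommRingCat.of R))).map a ≫ A.j) (pt i eX m)) z ∈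
        Set.range (Points.map i) ∧
      Points.ofPt (op act (inv ((yon (Spec (CommRingCat.of R))).map a ≫ A.j)) (pt i eX m)) z ∈
        Set.range (Points.map i) := by
    intro z
    let k' : Type u := T.left.residueField z
    let t : Spec (CommRingCat.of k') ⟶ Spec (CommRingCat.of R) := T.left.fromSpecResidueField z ≫ T.hom
    let r : Over.mk t ⟶ T := Over.homMk (T.left.fromSpecResidueField z) rfl
    have hrz : r.left (IsLocalRing.closedPoint k') = z := Scheme.fromSpecResidueField_apply z _
    let y : ↥(Spec (CommRingCat.of A.P)) := (r ≫ p).left (IsLocalRing.closedPoint k')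
    have hpr : (y.asIdeal.comap A.φ).IsPrime := inferInstance
    obtain ⟨e₀, he₀⟩ := arc_spec A y (y.asIdeal.comap A.φ) rfl
    have hpre := isPreimmersion_residueField (y.asIdeal.comap A.φ)
    let ψ : R →+* k' := (Spec.preimage t).hom
    have hψ : Spec.map (CommRingCat.ofHom ψ) = t := Spec.map_preimage t
    have htp : t = (r ≫ p).left ≫ Spec.map (CommRingCat.ofHom A.φ) := (Over.w (r ≫ p)).symm
    have hψk : RingHom.ker ψ = y.asIdeal.comap A.φ := by
      have h1 : (Spec.map (CommRingCat.ofHom ψ) (IsLocalRing.closedPoint k')).asIdeal = RingHom.ker ψ := by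
        change (IsLocalRing.maximalIdeal k').comap ψ = _
        rw [IsLocalRing.maximalIdeal_eq_bot]
        rfl
      rw [← h1, hψ, htp, Scheme.Hom.comp_apply]
      rfl
    have hu : (y.asIdeal.comap A.φ).primeCompl ≤ (IsUnit.submonoid k').comap ψ := fun x hx => by
      change IsUnit (ψ x)
      rw [isUnit_iff_ne_zero]
      intro h0
      exact hx (hψk.le h0)
    let l : Over.mk t ⟶ Over.mk (Spec.map (CommRingCat.ofHom
        (algebraMap R (y.asIdeal.comap A.φ).ResidueField))) :=
      Over.homMk (Spec.map (CommRingCat.ofHom (Ideal.ResidueField.lift _ ψ hψk.ge hu))) (by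
        change Spec.map _ ≫ Spec.map _ = t
        rw [← Spec.map_comp, ← CommRingCat.ofHom_comp, ← hψ]
        congr 2
        ext x
        exact Ideal.ResidueField.lift_algebraMap _ _ _ hu x)
    have hun : (yon (Spec (CommRingCat.of R))).map (e₀ ≫ A.e) ≫ A.j =
        ((yon (Spec (CommRingCat.of R))).map e₀ ≫ (yon (Spec (CommRingCat.of R))).map
          (Over.homMk (loc q).hom (Category.comp_id (loc q).hom) : loc q ⟶ Over.mk (𝟙 _))) ≫ η[G].left := by
      rw [Functor.map_comp, Category.assoc, A.unit, Category.assoc]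
    have hm : (yon (Spec (CommRingCat.of R))).map r ≫ pt i eX m =
        ((yon (Spec (CommRingCat.of R))).map (r ≫ m) ≫ eX.hom) ≫ i := by
      rw [Functor.map_comp]
      simp only [Category.assoc]
    obtain ⟨⟨w₁, hw₁⟩, w₂, hw₂⟩ := op_factors act hi hc A.j _ l (r ≫ a) (e₀ ≫ A.e) hun he₀
      ((yon (Spec (CommRingCat.of R))).map (r ≫ m) ≫ eX.hom)
    rw [← hrz, ← K608.Pts.ofPt_yon_map_comp, ← K608.Pts.ofPt_yon_map_comp, comp_op, comp_op,
      K612.OrbFlat.comp_inv, hm, ← Functor.map_comp_assoc, ← hw₁, ← hw₂, ← Points.map_ofPt, ← Points.map_ofPt]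
    exact ⟨⟨_, rfl⟩, _, rfl⟩
  have key2 : ∀ (n : (yon (Spec (CommRingCat.of R))).obj T ⟶ M.left),
      (∀ z : ↥T.left, Points.ofPt n z ∈ Set.range (Points.map i)) → ∃ w : T ⟶ Xs, pt i eX w = n := by
    intro n hn
    obtain ⟨w, hw⟩ := (K608.Pts.factors_iff_of_isOpenImmersion hi n).2 hn
    obtain ⟨w', hw'⟩ := (yon (Spec (CommRingCat.of R))).map_surjective (w ≫ eX.inv)
    refine ⟨w', ?_⟩
    change (yon (Spec (CommRingCat.of R))).map w' ≫ eX.hom ≫ i = n
    rw [hw', Category.assoc, eX.inv_hom_id_assoc, hw]
  exact ⟨key2 _ fun z => (key z).1, key2 _ fun z => (key z).2⟩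

end K601.CoreC1
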