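import Groth.Prelude.Def_AlgSp
import Mathlib.AlgebraicGeometry.Sites.Fpqc

/-!
# Fppf covering sieves over `S`, pointwise characterisation

`mem_J_iff`: a sieve `R` on `T : Over S` is a covering sieve of `AlgSp.J S` iff every point of `T` is hit by a flat
locally finitely presented member of `R`.  `exists_finite_affine_cover`: if `T` is affine, a covering sieve contains
a finite jointly surjective family of flat l.f.p. morphisms from affine schemes.
-/

set_option autoImplicit false
universe u
open CategoryTheory CategoryTheory.Limits AlgebraicGeometry Opposite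
open AlgSp

namespace K601.FppfSieve

variable {S : Scheme.{u}}

set_option backward.isDefEq.respectTransparency.types false in
theorem mem_fppfTopology_iff {T : Scheme.{u}} (R : Sieve T) :
    R ∈ Scheme.fppfTopology T ↔ ∀ t : T, ∃ (W : Scheme.{u}) (p : W ⟶ T) (w : W),
      R p ∧ Flat p ∧ LocallyOfFinitePresentation p ∧ p w = t := by
  have : (@Flat ⊓ @LocallyOfFinitePresentation : MorphismProperty Scheme.{u}).ContainsIdentities :=
    ⟨fun X => ⟨(inferInstance : Flat (𝟙 X)), (inferInstance : LocallyOfFinitePresentation (𝟙 X))⟩⟩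
  have : (@Flat ⊓ @LocallyOfFinitePresentation : MorphismProperty Scheme.{u}).RespectsIso := inferInstance
  have : Scheme.fppfPrecoverage.{u}.HasIsos :=
    inferInstanceAs (Scheme.precoverage (@Flat ⊓ @LocallyOfFinitePresentation)).HasIsos
  have : Scheme.fppfPrecoverage.{u}.HasPullbacks :=
    inferInstanceAs (Scheme.precoverage (@Flat ⊓ @LocallyOfFinitePresentation)).HasPullbacks
  constructor
  · intro h t
    obtain ⟨R', hR', hle⟩ := (Precoverage.mem_toGrothendieck_iff_of_isStableUnderComposition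
      (J := Scheme.fppfPrecoverage.{u})).1 h
    obtain ⟨ι, X, f, rfl⟩ := R'.exists_eq_ofArrows
    rw [Scheme.fppfPrecoverage, Scheme.ofArrows_mem_precoverage_iff] at hR'
    obtain ⟨i, w, hw⟩ := hR'.1 t
    exact ⟨X i, f i, w, hle _ _ ⟨i⟩, (hR'.2 i).1, (hR'.2 i).2, hw⟩
  · intro h
    choose W p w hR hF hP hw using h
    refine (Precoverage.mem_toGrothendieck_iff_of_isStableUnderComposition
      (J := Scheme.fppfPrecoverage.{u})).2 ⟨Presieve.ofArrows W p, ?_, ?_⟩
    · rw [Scheme.fppfPrecoverage, Scheme.ofArrows_mem_precoverage_iff]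
      exact ⟨fun t => ⟨t, w t, hw t⟩, fun t => ⟨hF t, hP t⟩⟩
    · rw [Presieve.ofArrows_le_iff]
      exact hR

theorem mem_J_iff {T : Over S} (R : Sieve T) :
    R ∈ J S T ↔ ∀ t : T.left, ∃ (W : Over S) (p : W ⟶ T) (w : W.left),
      R p ∧ Flat p.left ∧ LocallyOfFinitePresentation p.left ∧ p.left w = t := by
  change Sieve.overEquiv _ R ∈ Scheme.fppfTopology T.left ↔ _
  rw [mem_fppfTopology_iff]
  constructor
  · intro h t
    obtain ⟨W, p, w, hR, hF, hP, hw⟩ := h t
    rw [Sieve.overEquiv_iff] at hR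
    exact ⟨_, _, w, hR, hF, hP, hw⟩
  · intro h t
    obtain ⟨W, p, w, hR, hF, hP, hw⟩ := h t
    refine ⟨W.left, p.left, w, ?_, hF, hP, hw⟩
    rw [Sieve.overEquiv_iff]
    have e : Over.mk (p.left ≫ T.hom) ≅ W := Over.isoMk (Iso.refl _) (by simp)
    have : (Over.homMk p.left : Over.mk (p.left ≫ T.hom) ⟶ T) =
        (Over.homMk (𝟙 _) (by simp) : Over.mk (p.left ≫ T.hom) ⟶ W) ≫ p := by
      ext; simp
    rw [this]
    exact R.downward_closed hR _

/-- A finite family of flat l.f.p. morphisms from affine schemes, jointly surjective. -/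
theorem exists_finite_affine_cover {T : Over S} [CompactSpace T.left] {R : Sieve T} (hR : R ∈ J S T) :
    ∃ (A : Type u) (_ : Finite A) (W : A → Over S) (p : ∀ a, W a ⟶ T),
      (∀ a, R (p a) ∧ IsAffine (W a).left ∧ Flat (p a).left ∧ LocallyOfFinitePresentation (p a).left) ∧
      ∀ t : T.left, ∃ (a : A) (w : (W a).left), (p a).left w = t := by
  rw [mem_J_iff] at hR
  choose W p w hR hF hP hw using hR
  -- affine neighbourhoods
  have h1 (t : T.left) : ∃ (W' : Over S) (p' : W' ⟶ T) (w' : W'.left), R p' ∧ IsAffine W'.left ∧ Flat p'.left ∧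
      LocallyOfFinitePresentation p'.left ∧ p'.left w' = t := by
    obtain ⟨_, ⟨U, hU, rfl⟩, hwU, -⟩ := (W t).left.isBasis_affineOpens.exists_subset_of_mem_open
      (Set.mem_univ (w t)) isOpen_univ
    obtain ⟨U, rfl⟩ : ∃ U' : (W t).left.Opens, U' = U := ⟨U, rfl⟩
    refine ⟨Over.mk (U.ι ≫ (W t).hom), Over.homMk U.ι ≫ p t, ⟨w t, hwU⟩, R.downward_closed (hR t) _, hU, ?_, ?_, ?_⟩
    · have := hF t
      change Flat (U.ι ≫ (p t).left)
      infer_instance
    · have := hP t
      change LocallyOfFinitePresentation (U.ι ≫ (p t).left)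
      infer_instance
    · change (p t).left (U.ι ⟨w t, hwU⟩) = t
      exact hw t
  choose W' p' w' hR' hA' hF' hP' hw' using h1
  obtain ⟨σ, hσ⟩ := CompactSpace.elim_nhds_subcover (fun t : T.left => Set.range (p' t).left) (fun t => by
    have := hF' t
    have := hP' t
    exact (p' t).left.isOpenMap.isOpen_range.mem_nhds ⟨w' t, hw' t⟩)
  refine ⟨σ, inferInstance, fun a => W' a, fun a => p' a, fun a => ⟨hR' _, hA' _, hF' _, hP' _⟩, fun t => ?_⟩
  have := hσ.ge (Set.mem_univ t)
  simp only [Set.mem_iUnion] at this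
  obtain ⟨a, ha, w, hw⟩ := this
  exact ⟨⟨a, ha⟩, w, hw⟩

/-- The sieve generated by a jointly surjective family of flat l.f.p. morphisms is covering. -/
theorem ofArrows_mem_J {T : Over S} {A : Type*} (W : A → Over S) (p : ∀ a, W a ⟶ T)
    (hF : ∀ a, Flat (p a).left) (hP : ∀ a, LocallyOfFinitePresentation (p a).left)
    (hs : ∀ t : T.left, ∃ (a : A) (w : (W a).left), (p a).left w = t) : Sieve.ofArrows W p ∈ J S T := by
  rw [mem_J_iff]
  intro t
  obtain ⟨a, w, hw⟩ := hs t
  exact ⟨W a, p a, w, Sieve.ofArrows_mk _ _ a, hF a, hP a, hw⟩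

end K601.FppfSieve
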