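import Groth.Agent.AlgSp.K601.Stage
import Groth.Agent.AlgSp.K601.FppfSieve
import Groth.Agent.AlgSp.K601.LimPres
import Mathlib.AlgebraicGeometry.PullbackCarrier

/-!
# Descent of finite affine covers of an affine limit to a finite level, in `Over S`
-/

set_option autoImplicit false
set_option backward.isDefEq.respectTransparency false
universe u

open CategoryTheory CategoryTheory.Limits AlgebraicGeometry Opposite
open AlgSp

namespace K601.CoverDesc

variable {S : Scheme.{u}}

section
variable {I : Type u} [SmallCategory I] [IsCofiltered I] {D : I ⥤ Over S} {c : Cone D}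

noncomputable def isLimitOver (hc : IsLimit ((Over.forget S).mapCone c)) : IsLimit c :=
  have : IsConnected I := IsCofiltered.isConnected I
  isLimitOfReflects (Over.forget S) hc

noncomputable def isLimitForget (hc : IsLimit c) : IsLimit ((Over.forget S).mapCone c) :=
  have : IsConnected I := IsCofiltered.isConnected I
  isLimitOfPreserves (Over.forget S) hc

end

theorem isPullback_of_left {X Y Z W : Over S} {fst : W ⟶ X} {snd : W ⟶ Y} {f : X ⟶ Z} {g : Y ⟶ Z}
    (w : fst ≫ f = snd ≫ g)
    (h : IsPullback fst.left snd.left f.left g.left) : IsPullback fst snd f g :=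
  IsPullback.of_map (Over.forget S) w h

theorem isAffine_of_isPullback {X Y Z W : Over S} {fst : W ⟶ X} {snd : W ⟶ Y} {f : X ⟶ Z} {g : Y ⟶ Z}
    (h : IsPullback fst snd f g) (hX : IsAffine X.left) (hY : IsAffine Y.left) (hZ : IsAffine Z.left) :
    IsAffine W.left := by
  have h1 : IsPullback fst.left snd.left f.left g.left := h.map (Over.forget S)
  have : IsAffineHom snd.left := MorphismProperty.of_isPullback h1 inferInstance
  exact isAffine_of_isAffineHom snd.left

theorem isAffine_pullback {X Y Z : Over S} (f : X ⟶ Z) (g : Y ⟶ Z)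
    [hX : IsAffine X.left] [hY : IsAffine Y.left] [hZ : IsAffine Z.left] :
    IsAffine (pullback f g).left :=
  isAffine_of_isPullback (IsPullback.of_hasPullback f g) hX hY hZ

/-- the points of a pullback in `Over S` -/
theorem exists_point_of_isPullback {X Y Z W : Over S} {fst : W ⟶ X} {snd : W ⟶ Y} {f : X ⟶ Z} {g : Y ⟶ Z}
    (h : IsPullback fst snd f g) (x : X.left) (y : Y.left) (e : f.left x = g.left y) :
    ∃ w : W.left, fst.left w = x ∧ snd.left w = y := by
  have h1 : IsPullback fst.left snd.left f.left g.left := h.map (Over.forget S)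
  obtain ⟨z, hz1, hz2⟩ := Scheme.Pullback.exists_preimage_pullback x y e
  refine ⟨h1.isoPullback.inv z, ?_, ?_⟩
  · rw [← Scheme.Hom.comp_apply, IsPullback.isoPullback_inv_fst, hz1]
  · rw [← Scheme.Hom.comp_apply, IsPullback.isoPullback_inv_snd, hz2]

theorem left_of_isPullback (P : MorphismProperty Scheme.{u}) [P.IsStableUnderBaseChange]
    {X Y Z W : Over S} {fst : W ⟶ X} {snd : W ⟶ Y} {f : X ⟶ Z} {g : Y ⟶ Z}
    (h : IsPullback fst snd f g) (hf : P f.left) : P snd.left :=
  P.of_isPullback (h.map (Over.forget S)) hf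

section
variable {I : Type u} [SmallCategory I] [IsCofiltered I] {D : I ⥤ Over S} {c : Cone D}

/-- A family over the vertex which is pulled back from a family of affine schemes over a stage, with members in `P`
and l.f.p. -/
structure StageCover (P : MorphismProperty Scheme.{u}) (D : I ⥤ Over S) (c : Cone D) {A : Type u} (W : A → Over S)
    (p : ∀ a, W a ⟶ c.pt) (i : I) where
  W₀ : A → Over S
  p₀ : ∀ a, W₀ a ⟶ D.obj i
  q : ∀ a, W a ⟶ W₀ a
  affine : ∀ a, IsAffine (W₀ a).left
  prop : ∀ a, P (p₀ a).left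
  lfp : ∀ a, LocallyOfFinitePresentation (p₀ a).left
  isPullback : ∀ a, IsPullback (q a) (p a) (p₀ a) (c.π.app i)

/-- Move a family to a later stage. -/
noncomputable def StageCover.move {P : MorphismProperty Scheme.{u}} [P.IsStableUnderBaseChange]
    (hD : ∀ i, IsAffine (D.obj i).left) {A : Type u} {W : A → Over S}
    {p : ∀ a, W a ⟶ c.pt} {i : I} (C : StageCover P D c W p i) {j : I} (ψ : j ⟶ i) : StageCover P D c W p j where
  W₀ a := pullback (C.p₀ a) (D.map ψ)
  p₀ a := pullback.snd _ _
  q a := pullback.lift (C.q a) (p a ≫ c.π.app j) (by rw [Category.assoc, c.w, (C.isPullback a).w])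
  affine a := by
    have := C.affine a
    have := hD i
    have := hD j
    exact isAffine_pullback _ _
  prop a := left_of_isPullback P (IsPullback.of_hasPullback (C.p₀ a) (D.map ψ)) (C.prop a)
  lfp a := left_of_isPullback @LocallyOfFinitePresentation (IsPullback.of_hasPullback (C.p₀ a) (D.map ψ)) (C.lfp a)
  isPullback a := by
    refine IsPullback.of_right ?_ (pullback.lift_snd _ _ _) (IsPullback.of_hasPullback (C.p₀ a) (D.map ψ))
    rw [pullback.lift_fst, c.w]
    exact C.isPullback a

end

section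
variable {I : Type u} [SmallCategory I] [IsCofiltered I] (D : I ⥤ Over S) (c : Cone D)
  (hc : IsLimit ((Over.forget S).mapCone c)) (hD : ∀ i, IsAffine (D.obj i).left)
  {P : MorphismProperty Scheme.{u}} (hAd : Stage.Admissible P)

include hc hD hAd

theorem exists_descend_member {W : Over S} (p : W ⟶ c.pt) (hW : IsAffine W.left) (hF : P p.left)
    (hP : LocallyOfFinitePresentation p.left) :
    ∃ (i : I) (W₀ : Over S) (p₀ : W₀ ⟶ D.obj i) (q : W ⟶ W₀), IsAffine W₀.left ∧ P p₀.left ∧
      LocallyOfFinitePresentation p₀.left ∧ IsPullback q p p₀ (c.π.app i) := by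
  obtain ⟨i, W₀, p₀, q, h1, h2, h3, h4⟩ := Stage.exists_descend_scheme (D ⋙ Over.forget S)
    ((Over.forget S).mapCone c) hc hAd hD p.left hF
  have e : q ≫ p₀ = p.left ≫ (c.π.app i).left := h4.w
  refine ⟨i, Over.mk (p₀ ≫ (D.obj i).hom), Over.homMk p₀, Over.homMk q ?_, h1, h2, h3, ?_⟩
  · change q ≫ p₀ ≫ (D.obj i).hom = W.hom
    rw [← Category.assoc, e, Category.assoc, Over.w, ← Over.w p]
    rfl
  · apply isPullback_of_left
    · apply Over.OverMorphism.ext
      exact e
    · exact h4

theorem exists_stageCover {A : Type u} [Finite A] (W : A → Over S) (p : ∀ a, W a ⟶ c.pt)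
    (hW : ∀ a, IsAffine (W a).left) (hF : ∀ a, P (p a).left)
    (hP : ∀ a, LocallyOfFinitePresentation (p a).left) : ∃ i, Nonempty (StageCover P D c W p i) := by
  classical
  have := hAd.bc
  have h (a : A) := exists_descend_member D c hc hD hAd (p a) (hW a) (hF a) (hP a)
  choose i W₀ p₀ q h1 h2 h3 h4 using h
  cases nonempty_fintype A
  obtain ⟨j, hj⟩ := IsCofiltered.inf_objs_exists (Finset.univ.image i)
  have f (a : A) : j ⟶ i a := (hj (Finset.mem_image_of_mem i (Finset.mem_univ a))).some
  let C (a : A) : StageCover P D c (fun _ : PUnit.{u + 1} => W a) (fun _ => p a) (i a) :=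
    ⟨fun _ => W₀ a, fun _ => p₀ a, fun _ => q a, fun _ => h1 a, fun _ => h2 a, fun _ => h3 a, fun _ => h4 a⟩
  exact ⟨j, ⟨⟨fun a => ((C a).move hD (f a)).W₀ PUnit.unit, fun a => ((C a).move hD (f a)).p₀ PUnit.unit,
    fun a => ((C a).move hD (f a)).q PUnit.unit, fun a => ((C a).move hD (f a)).affine PUnit.unit,
    fun a => ((C a).move hD (f a)).prop PUnit.unit, fun a => ((C a).move hD (f a)).lfp PUnit.unit,
    fun a => ((C a).move hD (f a)).isPullback PUnit.unit⟩⟩⟩

theorem exists_stageCover_surj {A : Type u} [Finite A] (W : A → Over S) (p : ∀ a, W a ⟶ c.pt)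
    (hW : ∀ a, IsAffine (W a).left) (hF : ∀ a, P (p a).left)
    (hP : ∀ a, LocallyOfFinitePresentation (p a).left)
    (hs : ∀ t : c.pt.left, ∃ (a : A) (w : (W a).left), (p a).left w = t) :
    ∃ (i : I) (C : StageCover P D c W p i),
      ∀ t : (D.obj i).left, ∃ (a : A) (w : (C.W₀ a).left), (C.p₀ a).left w = t := by
  have := hAd.bc
  obtain ⟨i, ⟨C⟩⟩ := exists_stageCover D c hc hD hAd W p hW hF hP
  have hopen : ∀ a, IsOpen (Set.range (C.p₀ a).left) := fun a =>
    (hAd.isOpenMap (C.p₀ a).left (C.prop a) (C.lfp a)).isOpen_range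
  let U : (D.obj i).left.Opens := ⟨⋃ a, Set.range (C.p₀ a).left, isOpen_iUnion hopen⟩
  have hDa : ∀ {i j : I} (f : i ⟶ j), IsAffineHom ((D ⋙ Over.forget S).map f) := fun {i j} f => by
    have := hD i
    have := hD j
    change IsAffineHom (D.map f).left
    infer_instance
  have hDc : ∀ i, CompactSpace ((D ⋙ Over.forget S).obj i) := fun i => by
    have := hD i
    change CompactSpace (D.obj i).left
    infer_instance
  obtain ⟨j, ψ, hj⟩ := exists_map_eq_top (D ⋙ Over.forget S) ((Over.forget S).mapCone c) hc (i := i) U (by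
    apply SetLike.coe_injective
    refine Set.eq_univ_of_forall fun t => ?_
    obtain ⟨a, w, hw⟩ := hs t
    refine Set.mem_iUnion.2 ⟨a, (C.q a).left w, ?_⟩
    change (C.p₀ a).left ((C.q a).left w) = (c.π.app i).left t
    have e' : ((C.q a).left ≫ (C.p₀ a).left) w = ((p a).left ≫ (c.π.app i).left) w := by
      rw [← Over.comp_left, ← Over.comp_left, (C.isPullback a).w]
    rw [← hw]
    exact e')
  refine ⟨j, C.move hD ψ, fun t => ?_⟩
  have h1 : (D.map ψ).left t ∈ (U : Set (D.obj i).left) := by
    have := hj.ge (Set.mem_univ t : t ∈ (⊤ : TopologicalSpace.Opens (D.obj j).left))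
    exact this
  obtain ⟨a, w, hw⟩ := Set.mem_iUnion.1 h1
  obtain ⟨z, -, hz⟩ := exists_point_of_isPullback (IsPullback.of_hasPullback (C.p₀ a) (D.map ψ)) w t hw
  exact ⟨a, z, hz⟩

end

end K601.CoverDesc
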