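import Groth.Agent.AlgSp.K601.EnlPts
/-!
# Products of open subspaces of a group and of a space with an action: rational points
-/

set_option autoImplicit false
set_option backward.isDefEq.respectTransparency false
universe w v u
open CategoryTheory MonoidalCategory CartesianMonoidalCategory MonObj GrpObj AlgebraicGeometry
open Opposite
open AlgSp

namespace K601.EnlAct

open K622.Basic K626.GrpTrans K601.EnlGrp K601.EnlFib K601.EnlPts

variable {S : Scheme.{u}} {K : Type u} [Field K] {t : Spec (CommRingCat.of K) ⟶ S}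
  {G M : Over ((yon S).obj (Over.mk (𝟙 S)))} [GrpObj G] (act : GAction G M)
  {T₀ : Over S} {a : (yon S).obj T₀ ⟶ G.left} {q : T₀ ⟶ Over.mk t}

/-- The orbit map of a point with values in `K`. -/
noncomputable def orbR (a : (yon S).obj T₀ ⟶ G.left) (q : T₀ ⟶ Over.mk t)
    (y : (R t).obj (𝟙_ (Over (Spec (CommRingCat.of K)))) ⟶ M) : (R t).obj (Over.mk q.left) ⟶ M :=
  ac act (hom a q (𝟙 (Over.mk q.left))) ((R t).map (toUnit _) ≫ y)

omit [GrpObj G] in
theorem map_hom {V : Over (Spec (CommRingCat.of K))} (c : V ⟶ Over.mk q.left) :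
    (R t).map c ≫ hom a q (𝟙 (Over.mk q.left)) = hom a q c := by
  apply Over.OverMorphism.ext
  change (yon S).map (resMap t c) ≫ (yon S).map (toT q (𝟙 _)) ≫ a = (yon S).map (toT q c) ≫ a
  rw [← Category.assoc, ← Functor.map_comp]
  congr 2

theorem map_orbR {V : Over (Spec (CommRingCat.of K))} (c : V ⟶ Over.mk q.left)
    (y : (R t).obj (𝟙_ (Over (Spec (CommRingCat.of K)))) ⟶ M) :
    (R t).map c ≫ orbR act a q y = ac act (hom a q c) ((R t).map (toUnit _) ≫ y) := by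
  rw [orbR, comp_ac, map_hom, ← Category.assoc, ← Functor.map_comp]
  congr 4
  exact toUnit_unique _ _

theorem map_orbR_unit (c : 𝟙_ (Over (Spec (CommRingCat.of K))) ⟶ Over.mk q.left)
    (y : (R t).obj (𝟙_ (Over (Spec (CommRingCat.of K)))) ⟶ M) :
    (R t).map c ≫ orbR act a q y = ac act (hom a q c) y := by
  rw [map_orbR, show toUnit (𝟙_ (Over (Spec (CommRingCat.of K)))) = 𝟙 _ from toUnit_unique _ _,
    CategoryTheory.Functor.map_id, Category.id_comp]

variable {H₀ X₀ : Sp S} {j : H₀ ⟶ G.left} {i₀ : X₀ ⟶ M.left}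

/-- If `g y` is of the form `h x` with `h` in `H₀`, `x` in `X₀` and `g` in the identity component then so is `y`. -/
theorem grp_mem [IsAlgClosed K]
    (hp : IsPullback a ((yon S).map q) G.hom ((yon S).map (K625.Prod.toBase (Over.mk t))))
    (hq : LocallyOfFiniteType q.left) (hj : RepWith @IsOpenImmersion j) (hi₀ : RepWith @IsOpenImmersion i₀)
    (y : (R t).obj (𝟙_ (Over (Spec (CommRingCat.of K)))) ⟶ M)
    (g : 𝟙_ (Over (Spec (CommRingCat.of K))) ⟶ Over.mk q.left)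
    (hg : let _ := grp G hp
      ev g ∈ idc (Over.mk q.left))
    (h : (yon S).obj (res t (𝟙_ (Over (Spec (CommRingCat.of K))))) ⟶ H₀)
    (x : (yon S).obj (res t (𝟙_ (Over (Spec (CommRingCat.of K))))) ⟶ X₀)
    (e : ac act (hom a q g) y = ac act (pt (h ≫ j)) (pt (x ≫ i₀))) :
    ∃ (h' : (yon S).obj (res t (𝟙_ (Over (Spec (CommRingCat.of K))))) ⟶ H₀)
      (x' : (yon S).obj (res t (𝟙_ (Over (Spec (CommRingCat.of K))))) ⟶ X₀),
      y = ac act (pt (h' ≫ j)) (pt (x' ≫ i₀)) := by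
  let inst := grp G hp
  let Γ : Over (Spec (CommRingCat.of K)) := Over.mk q.left
  have : LocallyOfFiniteType Γ.hom := hq
  obtain ⟨h₁, hh₁⟩ := (bijective_hom G hp (𝟙_ (Over (Spec (CommRingCat.of K))))).2 (pt (h ≫ j))
  let x₁ : (R t).obj (𝟙_ (Over (Spec (CommRingCat.of K)))) ⟶ M := pt (x ≫ i₀)
  let U : Set Γ.left := Points.ofPt (T := res t Γ) (hom a q (𝟙 Γ)).left ⁻¹' Set.range (Points.map j)
  let V : Set Γ.left := Points.ofPt (T := res t Γ) (orbR act a q x₁).left ⁻¹' Set.range (Points.map i₀)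
  have hU : IsOpen U := (K608.OpenEmb.isOpenEmbedding_of_repWith_isOpenImmersion hj).isOpen_range.preimage
    (Points.continuous_ofPt (T := res t Γ) (hom a q (𝟙 Γ)).left)
  have hV : IsOpen V := (K608.OpenEmb.isOpenEmbedding_of_repWith_isOpenImmersion hi₀).isOpen_range.preimage
    (Points.continuous_ofPt (T := res t Γ) (orbR act a q x₁).left)
  have h1 : ev h₁ ∈ U := by
    refine (ev_mem_iff hj (hom a q (𝟙 Γ)) h₁).2 ⟨h, ?_⟩
    rw [map_hom, hh₁]
    rfl
  have h2 : ev (1 : 𝟙_ (Over (Spec (CommRingCat.of K))) ⟶ Γ) ∈ V := by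
    refine (ev_mem_iff hi₀ (orbR act a q x₁) 1).2 ⟨x, ?_⟩
    rw [map_orbR_unit, hom_one G hp, ac_one]
    rfl
  obtain ⟨p, v, hpU, hvV, hpv⟩ := exists_mul (ratDense Γ) hU hV g h₁ hg h1 h2
  obtain ⟨h', hh'⟩ := (ev_mem_iff hj (hom a q (𝟙 Γ)) p).1 hpU
  obtain ⟨x', hx'⟩ := (ev_mem_iff hi₀ (orbR act a q x₁) v).1 hvV
  rw [map_hom] at hh'
  rw [map_orbR_unit] at hx'
  refine ⟨h', x', ?_⟩
  have e1 : pt (h' ≫ j) = hom a q p := by rw [hh']; rfl
  have e2 : pt (x' ≫ i₀) = ac act (hom a q v) x₁ := by rw [hx']; rfl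
  rw [e1, e2, ← ac_mul]
  have e3 : hom a q p * hom a q v = (hom a q g)⁻¹ * hom a q h₁ := by
    rw [← hom_inv G hp, ← hom_mul G hp, ← hom_mul G hp, hpv]
  rw [e3, ac_mul, hh₁, ← e, ← ac_mul, inv_mul_cancel, ac_one]

end K601.EnlAct
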