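import Groth.Agent.AlgSp.K601.EnlAct
import Groth.Agent.AlgSp.K622.AnDefs
/-!
# Products `H₀ X₀` of open subspaces are closed in the fibres
-/

set_option autoImplicit false
set_option backward.isDefEq.respectTransparency false
universe w v u
open CategoryTheory MonoidalCategory CartesianMonoidalCategory MonObj GrpObj AlgebraicGeometry
open Opposite
open AlgSp

namespace K601.EnlClosed

open K622.Basic K626.GrpTrans K601.EnlGrp K601.EnlFib K601.EnlPts K601.EnlAct

variable {S : Scheme.{u}} {K : Type u} [Field K] {t : Spec (CommRingCat.of K) ⟶ S}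
  {G M : Over ((yon S).obj (Over.mk (𝟙 S)))} [GrpObj G] (act : GAction G M)
  {T₀ : Over S} {a : (yon S).obj T₀ ⟶ G.left} {q : T₀ ⟶ Over.mk t}

variable (t) in
/-- The identification of `Spec K` over `S` with the restriction of the unit. -/
noncomputable def eps : Over.mk t ⟶ res t (𝟙_ (Over (Spec (CommRingCat.of K)))) :=
  Over.homMk (𝟙 _) (by
    change 𝟙 _ ≫ 𝟙 _ ≫ t = t
    rw [Category.id_comp, Category.id_comp])

theorem resStr_eps (V : Over (Spec (CommRingCat.of K))) : resStr t V ≫ eps t = resMap t (toUnit V) := by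
  apply Over.OverMorphism.ext
  change V.hom ≫ 𝟙 _ = (toUnit V).left
  rw [Category.comp_id]
  exact (Over.w (toUnit V)).symm.trans (Category.comp_id _)

/-- The orbit map with values in the base change `M_K`. -/
noncomputable def orbK (a : (yon S).obj T₀ ⟶ G.left) (q : T₀ ⟶ Over.mk t)
    (y : (R t).obj (𝟙_ (Over (Spec (CommRingCat.of K)))) ⟶ M) :
    (yon S).obj (res t (Over.mk q.left)) ⟶
      Limits.pullback M.hom ((yon S).map (Over.homMk t (Category.comp_id t) : Over.mk t ⟶ Over.mk (𝟙 S))) :=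
  Limits.pullback.lift (orbR act a q y).left ((yon S).map (resStr t (Over.mk q.left))) (base_ext _ _)

theorem locP_flat_orbK (hflat : K622.AnDefs.OrbFlat act)
    (hp : IsPullback a ((yon S).map q) G.hom ((yon S).map (K625.Prod.toBase (Over.mk t))))
    (y : (R t).obj (𝟙_ (Over (Spec (CommRingCat.of K)))) ⟶ M) : LocP @Flat (orbK act a q y) := by
  let x : (yon S).obj (Over.mk t) ⟶ M.left := (yon S).map (eps t) ≫ y.left
  let τ : res t (Over.mk q.left) ⟶ T₀ := toT q (𝟙 _)
  let s : (yon S).obj (Over.mk t) ⟶ (yon S).obj (Over.mk (𝟙 S)) :=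
    (yon S).map (Over.homMk t (Category.comp_id t) : Over.mk t ⟶ Over.mk (𝟙 S))
  have hp' : IsPullback a ((yon S).map q) G.hom s := hp
  have hτ : IsIso τ := by
    have : IsIso τ.left := by
      change IsIso (𝟙 _)
      infer_instance
    have : IsIso ((Over.forget S).map τ) := this
    exact isIso_of_reflects_iso τ (Over.forget S)
  let θ : (yon S).obj (res t (Over.mk q.left)) ⟶ Limits.pullback G.hom s :=
    Limits.pullback.lift ((yon S).map τ ≫ a) ((yon S).map (resStr t (Over.mk q.left))) (base_ext _ _)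
  have hθ : IsIso θ := by
    have h1 : θ = (yon S).map τ ≫ (hp'.isoPullback).hom := by
      apply Limits.pullback.hom_ext
      · rw [Category.assoc, IsPullback.isoPullback_hom_fst]
        exact Limits.pullback.lift_fst _ _ _
      · rw [Category.assoc, IsPullback.isoPullback_hom_snd, ← Functor.map_comp, toT_q]
        exact Limits.pullback.lift_snd _ _ _
    rw [h1]
    infer_instance
  have h2 : orbK act a q y = θ ≫ K622.AnDefs.orb act x := by
    apply Limits.pullback.hom_ext
    · have e1 : K622.AnDefs.orb act x ≫ Limits.pullback.fst M.hom s =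
          Limits.pullback.lift (Limits.pullback.fst G.hom s) (Limits.pullback.snd G.hom s ≫ x) (base_ext _ _) ≫
            act.act.left := Limits.pullback.lift_fst _ _ _
      have e2 : orbK act a q y ≫ Limits.pullback.fst M.hom s = (orbR act a q y).left :=
        Limits.pullback.lift_fst _ _ _
      rw [Category.assoc, e1, e2, ← Category.assoc]
      have e3 : (orbR act a q y).left = Limits.pullback.lift ((yon S).map τ ≫ a)
          ((yon S).map (resMap t (toUnit (Over.mk q.left))) ≫ y.left) (base_ext _ _) ≫ act.act.left := rfl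
      rw [e3]
      have t1 : θ ≫ Limits.pullback.fst G.hom s = (yon S).map τ ≫ a := Limits.pullback.lift_fst _ _ _
      have t2 : θ ≫ Limits.pullback.snd G.hom s = (yon S).map (resStr t (Over.mk q.left)) :=
        Limits.pullback.lift_snd _ _ _
      have t3 : (yon S).map (resMap t (toUnit (Over.mk q.left))) ≫ y.left =
          θ ≫ Limits.pullback.snd G.hom s ≫ x := by
        rw [← Category.assoc, t2, ← resStr_eps]
        exact (congrArg (· ≫ y.left) ((yon S).map_comp _ _)).trans (Category.assoc _ _ _)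
      refine congrArg (· ≫ act.act.left) ?_
      apply Limits.pullback.hom_ext
      · refine (Limits.pullback.lift_fst _ _ _).trans (t1.symm.trans ?_)
        exact ((Category.assoc _ _ _).trans (congrArg (θ ≫ ·) (Limits.pullback.lift_fst _ _ _))).symm
      · refine (Limits.pullback.lift_snd _ _ _).trans (t3.trans ?_)
        exact ((Category.assoc _ _ _).trans (congrArg (θ ≫ ·) (Limits.pullback.lift_snd _ _ _))).symm
    · have e1 : K622.AnDefs.orb act x ≫ Limits.pullback.snd M.hom s = Limits.pullback.snd G.hom s :=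
        Limits.pullback.lift_snd _ _ _
      have e2 : orbK act a q y ≫ Limits.pullback.snd M.hom s = (yon S).map (resStr t (Over.mk q.left)) :=
        Limits.pullback.lift_snd _ _ _
      rw [Category.assoc, e1, e2]
      exact (Limits.pullback.lift_snd _ _ _).symm
  rw [h2]
  exact K597.locP_precomp (K598.RepKit.repWith_of_isIso θ) (hflat K t x)

theorem locP_lft_orbK (hM : IsAlgSpace M.left) (hq : LocallyOfFiniteType q.left)
    (y : (R t).obj (𝟙_ (Over (Spec (CommRingCat.of K)))) ⟶ M) :
    LocP @LocallyOfFiniteType (orbK act a q y) := by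
  have hMK : IsAlgSpace (Limits.pullback M.hom ((yon S).map (Over.homMk t (Category.comp_id t) :
      Over.mk t ⟶ Over.mk (𝟙 S)))) :=
    K608.Comp.isAlgSpace_of_isPullback (IsPullback.of_hasPullback _ _) hM (IsAlgSpace.yon_obj _)
      (IsAlgSpace.yon_obj _)
  refine K597.locP_of_comp' K597.etLoc_lft (fun A B C f g h => ?_) (IsAlgSpace.yon_obj _).hasAtlas
    hMK.hasAtlas (IsAlgSpace.yon_obj (Over.mk t)).hasAtlas (g := Limits.pullback.snd _ _) ?_
  · have : LocallyOfFiniteType (f ≫ g) := h
    exact locallyOfFiniteType_of_comp f g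
  · have e2 : orbK act a q y ≫ Limits.pullback.snd M.hom _ = (yon S).map (resStr t (Over.mk q.left)) :=
      Limits.pullback.lift_snd _ _ _
    rw [e2]
    refine K597.locP_of_repWith (fun A B C e f he hf => ?_) ((repWith_yon_map_iff _ _).2 hq)
    have : Etale e := he
    have : LocallyOfFiniteType f := hf
    exact inferInstance

variable {H₀ X₀ X : Sp S} {j : H₀ ⟶ G.left} {i₀ : X₀ ⟶ M.left} {i : X ⟶ M.left}

/-- `X` consists of the products of the points of `H₀` and of `X₀`. -/
def Mem (j : H₀ ⟶ G.left) (i₀ : X₀ ⟶ M.left) (i : X ⟶ M.left) : Prop :=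
  ∀ (K : Type u) [Field K] [IsAlgClosed K] (t : Spec (CommRingCat.of K) ⟶ S)
    (m : (yon S).obj (Over.mk t) ⟶ M.left),
    (∃ b, b ≫ i = m) ↔ ∃ (h : (yon S).obj (Over.mk t) ⟶ H₀) (x : (yon S).obj (Over.mk t) ⟶ X₀),
      m = (ac act (pt (h ≫ j)) (pt (x ≫ i₀))).left

theorem isClosed_preimage [IsAlgClosed K] (hM : IsAlgSpace M.left)
    (hp : IsPullback a ((yon S).map q) G.hom ((yon S).map (K625.Prod.toBase (Over.mk t))))
    (hq : LocallyOfFiniteType q.left) (hj : RepWith @IsOpenImmersion j) (hi₀ : RepWith @IsOpenImmersion i₀)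
    (hi : RepWith @IsOpenImmersion i) (hmem : Mem act j i₀ i) (hflat : K622.AnDefs.OrbFlat act)
    (W : Over (Spec (CommRingCat.of K))) (hW : LocallyOfFiniteType W.hom) (c : (R t).obj W ⟶ M) :
    IsClosed (Points.ofPt (T := res t W) c.left ⁻¹' Set.range (Points.map i)) := by
  let inst := grp G hp
  let Γ : Over (Spec (CommRingCat.of K)) := Over.mk q.left
  have hΓ : LocallyOfFiniteType Γ.hom := hq
  let P : Set W.left := Points.ofPt (T := res t W) c.left ⁻¹' Set.range (Points.map i)
  change IsClosed P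
  have hP : IsOpen P := (K608.OpenEmb.isOpenEmbedding_of_repWith_isOpenImmersion hi).isOpen_range.preimage
    (Points.continuous_ofPt (T := res t W) c.left)
  by_contra hcl
  have hne : (closure P ∩ Pᶜ ∩ Set.univ).Nonempty := by
    by_contra h
    apply hcl
    rw [Set.not_nonempty_iff_eq_empty, Set.inter_univ] at h
    have : closure P ⊆ P := fun z hz => by_contra fun hz' => (h ▸ ⟨hz, hz'⟩ : z ∈ (∅ : Set W.left))
    exact isClosed_of_closure_subset this
  obtain ⟨y₀, ⟨hy₁, hy₂⟩, -⟩ := ratDense W _ Set.univ (isClosed_closure.inter hP.isClosed_compl) isOpen_univ hne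
  let y : (R t).obj (𝟙_ (Over (Spec (CommRingCat.of K)))) ⟶ M := (R t).map y₀ ≫ c
  let s : (yon S).obj (Over.mk t) ⟶ (yon S).obj (Over.mk (𝟙 S)) :=
    (yon S).map (Over.homMk t (Category.comp_id t) : Over.mk t ⟶ Over.mk (𝟙 S))
  have hMK : IsAlgSpace (Limits.pullback M.hom s) :=
    K608.Comp.isAlgSpace_of_isPullback (IsPullback.of_hasPullback _ _) hM (IsAlgSpace.yon_obj _)
      (IsAlgSpace.yon_obj _)
  let b : (yon S).obj (res t Γ) ⟶ Limits.pullback M.hom s := orbK act a q y
  let c' : (yon S).obj (res t W) ⟶ Limits.pullback M.hom s :=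
    Limits.pullback.lift c.left ((yon S).map (resStr t W)) (base_ext _ _)
  have b1 : b ≫ Limits.pullback.fst _ _ = (orbR act a q y).left := Limits.pullback.lift_fst _ _ _
  have b2 : b ≫ Limits.pullback.snd _ _ = (yon S).map (resStr t Γ) := Limits.pullback.lift_snd _ _ _
  have c1 : c' ≫ Limits.pullback.fst _ _ = c.left := Limits.pullback.lift_fst _ _ _
  have c2 : c' ≫ Limits.pullback.snd _ _ = (yon S).map (resStr t W) := Limits.pullback.lift_snd _ _ _
  obtain ⟨Q₀, p₁, p₂, sq⟩ := K621.Base.exists_pullback hMK b c'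
  -- `Q ⟶ W` is open
  have hfl : Flat p₂.left := locP_yon_map (K597.locP_bc K597.etLoc_flat sq (IsAlgSpace.yon_obj _).hasAtlas
    hMK.hasAtlas (IsAlgSpace.yon_obj _).hasAtlas (locP_flat_orbK act hflat hp y))
  have hft : LocallyOfFiniteType p₂.left := locP_yon_map (K597.locP_bc K597.etLoc_lft sq
    (IsAlgSpace.yon_obj _).hasAtlas hMK.hasAtlas (IsAlgSpace.yon_obj _).hasAtlas (locP_lft_orbK act hM hq y))
  have hWn : IsLocallyNoetherian W.left := LocallyOfFiniteType.isLocallyNoetherian W.hom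
  have hlfp : LocallyOfFinitePresentation p₂.left := by
    have : IsLocallyNoetherian (res t W).left := hWn
    exact LocallyOfFinitePresentation.iff_locallyOfFiniteType.2 hft
  have hop : IsOpenMap p₂.left := p₂.left.isOpenMap
  -- `Q` as a scheme over `K`
  let Q : Over (Spec (CommRingCat.of K)) := Over.mk (p₂.left ≫ W.hom)
  have hQ : LocallyOfFiniteType Q.hom := by
    change LocallyOfFiniteType (p₂.left ≫ W.hom)
    have : LocallyOfFiniteType (Y := W.left) p₂.left := hft
    infer_instance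
  have hpr : p₁ ≫ resStr t Γ = p₂ ≫ resStr t W := by
    apply (yon S).map_injective
    rw [Functor.map_comp, Functor.map_comp, ← b2, ← c2, ← Category.assoc, ← Category.assoc, sq.w]
  let q₁ : Q ⟶ Γ := Over.homMk p₁.left (congrArg (·.left) hpr)
  let q₂ : Q ⟶ W := Over.homMk p₂.left rfl
  let κ : res t Q ⟶ Q₀ := Over.homMk (𝟙 _) (by
    change 𝟙 _ ≫ Q₀.hom = (p₂.left ≫ W.hom) ≫ t
    rw [Category.id_comp, Category.assoc]
    exact (Over.w p₂).symm)
  have hκ₁ : resMap t q₁ = κ ≫ p₁ := Over.OverMorphism.ext (Category.id_comp _).symm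
  have hκ₂ : resMap t q₂ = κ ≫ p₂ := Over.OverMorphism.ext (Category.id_comp _).symm
  have hrel : (R t).map q₁ ≫ orbR act a q y = (R t).map q₂ ≫ c := by
    apply Over.OverMorphism.ext
    change (yon S).map (resMap t q₁) ≫ (orbR act a q y).left = (yon S).map (resMap t q₂) ≫ c.left
    rw [hκ₁, hκ₂, ← b1, ← c1, Functor.map_comp, Functor.map_comp, Category.assoc, Category.assoc]
    congr 1
    rw [← Category.assoc, ← Category.assoc, sq.w]
  -- the point `(1, y₀)`
  have hpt : (yon S).map (resMap t (1 : 𝟙_ (Over (Spec (CommRingCat.of K))) ⟶ Γ)) ≫ b =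
      (yon S).map (resMap t y₀) ≫ c' := by
    apply Limits.pullback.hom_ext
    · rw [Category.assoc, Category.assoc, b1, c1]
      have h1 : (R t).map (1 : 𝟙_ (Over (Spec (CommRingCat.of K))) ⟶ Γ) ≫ orbR act a q y = y := by
        rw [map_orbR_unit, hom_one G hp, ac_one]
      exact congrArg (·.left) h1
    · rw [Category.assoc, Category.assoc, b2, c2, ← Functor.map_comp, ← Functor.map_comp]
      congr 1
      apply Over.OverMorphism.ext
      exact (Over.w (1 : 𝟙_ (Over (Spec (CommRingCat.of K))) ⟶ Γ)).trans (Over.w y₀).symm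
  obtain ⟨r₀, hr₀⟩ := (yon S).map_surjective (sq.lift _ _ hpt)
  have hr₁ : r₀ ≫ p₁ = resMap t 1 := by
    apply (yon S).map_injective
    rw [Functor.map_comp, hr₀, sq.lift_fst]
  have hr₂ : r₀ ≫ p₂ = resMap t y₀ := by
    apply (yon S).map_injective
    rw [Functor.map_comp, hr₀, sq.lift_snd]
  let z₀ : Q.left := r₀.left (IsLocalRing.closedPoint K : PrimeSpectrum K)
  have hz₁ : q₁.left z₀ = ev (1 : 𝟙_ (Over (Spec (CommRingCat.of K))) ⟶ Γ) :=
    (Scheme.Hom.comp_apply _ _ _).symm.trans (congrArg (fun f : res t (𝟙_ _) ⟶ res t Γ =>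
      f.left (IsLocalRing.closedPoint K : PrimeSpectrum K)) hr₁)
  have hz₂ : q₂.left z₀ = ev y₀ :=
    (Scheme.Hom.comp_apply _ _ _).symm.trans (congrArg (fun f : res t (𝟙_ _) ⟶ res t W =>
      f.left (IsLocalRing.closedPoint K : PrimeSpectrum K)) hr₂)
  -- a point of `Q` over the identity component and over `P`
  have hN : IsOpen (q₂.left '' (q₁.left ⁻¹' idc Γ)) := hop _ ((isOpen_idc Γ).preimage q₁.left.continuous)
  obtain ⟨w, ⟨z', hz', rfl⟩, hw⟩ := mem_closure_iff.1 hy₁ _ hN ⟨z₀, by
    rw [Set.mem_preimage, hz₁]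
    exact one_mem_idc Γ, hz₂⟩
  obtain ⟨z, -, hzg, hzP⟩ := ratDense Q Set.univ (q₁.left ⁻¹' idc Γ ∩ q₂.left ⁻¹' P) isClosed_univ
    (((isOpen_idc Γ).preimage q₁.left.continuous).inter (hP.preimage q₂.left.continuous)) ⟨z', trivial, hz', hw⟩
  have hg : ev (z ≫ q₁) ∈ idc Γ := by rw [ev_comp]; exact hzg
  have hwP : ev (z ≫ q₂) ∈ P := by rw [ev_comp]; exact hzP
  obtain ⟨b', hb'⟩ := (ev_mem_iff hi c (z ≫ q₂)).1 hwP
  have e1 : (R t).map (z ≫ q₂) ≫ c = ac act (hom a q (z ≫ q₁)) y := by
    rw [← map_orbR_unit, Functor.map_comp, Functor.map_comp, Category.assoc, Category.assoc, hrel]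
  rw [e1] at hb'
  obtain ⟨h, x, hhx⟩ := (hmem K _ _).1 ⟨b', hb'⟩
  obtain ⟨h', x', hy'⟩ := grp_mem act hp hq hj hi₀ y (z ≫ q₁) hg h x (Over.OverMorphism.ext hhx)
  obtain ⟨b'', hb''⟩ := (hmem K _ y.left).2 ⟨h', x', congrArg (·.left) hy'⟩
  exact hy₂ ((ev_mem_iff hi c y₀).2 ⟨b'', hb''⟩)

end K601.EnlClosed
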