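import Groth.Agent.AlgSp.K601.EnlGrp
import Groth.Agent.AlgSp.K607.Act
import Groth.Agent.AlgSp.K625.Prod
import Groth.Agent.AlgSp.K622.Basic
/-!
# Fibres of group algebraic spaces over field-valued points of the base, as group schemes
-/

set_option autoImplicit false
universe w v u
open CategoryTheory MonoidalCategory CartesianMonoidalCategory MonObj GrpObj AlgebraicGeometry
open Opposite
open AlgSp

namespace K601.EnlFib

section gen

variable {C : Type u} [Category.{v} C] [CartesianMonoidalCategory C] {X : C} (F : Cᵒᵖ ⥤ GrpCat.{w})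
  (α : (F ⋙ forget _).RepresentableBy X)

/-- The group structure of an object representing a presheaf of groups. -/
@[reducible] noncomputable def grpOf : GrpObj X := GrpObj.ofRepresentableBy X F α

theorem homEquiv_mul {T : C} (f₁ f₂ : T ⟶ X) :
    letI := grpOf F α
    (α.homEquiv (f₁ * f₂) : F.obj (op T)) = (α.homEquiv f₁ : F.obj (op T)) * (α.homEquiv f₂ : F.obj (op T)) := by
  let _ := grpOf F α
  let F' : Cᵒᵖ ⥤ MonCat.{w} := F ⋙ forget₂ GrpCat MonCat
  let β : (F' ⋙ forget _).RepresentableBy X := α
  change β.homEquiv' (lift f₁ f₂ ≫ β.homEquiv'.symm (β.homEquiv' (fst X X) * β.homEquiv' (snd X X))) =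
    β.homEquiv' f₁ * β.homEquiv' f₂
  simp only [β.homEquiv'_comp, Equiv.apply_symm_apply, map_mul]
  simp only [← β.homEquiv'_comp]
  simp

end gen

variable {S : Scheme.{u}} {K : Type u} [Field K] (t : Spec (CommRingCat.of K) ⟶ S)

/-- Restriction of scalars. -/
noncomputable abbrev res (V : Over (Spec (CommRingCat.of K))) : Over S := Over.mk (V.hom ≫ t)

noncomputable abbrev resMap {V W : Over (Spec (CommRingCat.of K))} (φ : V ⟶ W) : res t V ⟶ res t W :=
  Over.homMk φ.left (by
    change φ.left ≫ W.hom ≫ _ = V.hom ≫ _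
    rw [← Category.assoc, Over.w])

noncomputable abbrev resStr (V : Over (Spec (CommRingCat.of K))) : res t V ⟶ Over.mk t :=
  Over.homMk V.hom rfl

theorem base_ext {F : Sp S} (a b : F ⟶ (yon S).obj (Over.mk (𝟙 S))) : a = b :=
  (K625.Prod.isTerminalBase S).hom_ext a b

/-- A scheme over `S` as a sheaf over the terminal sheaf. -/
noncomputable abbrev ob (T : Over S) : Over ((yon S).obj (Over.mk (𝟙 S))) :=
  Over.mk ((yon S).map (K625.Prod.toBase T))

noncomputable abbrev obMap {T T' : Over S} (φ : T ⟶ T') : ob T ⟶ ob T' :=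
  Over.homMk ((yon S).map φ) (base_ext _ _)

/-- Points with values in a scheme of a sheaf over the terminal sheaf. -/
noncomputable def pt {T : Over S} {G : Over ((yon S).obj (Over.mk (𝟙 S)))} (x : (yon S).obj T ⟶ G.left) :
    ob T ⟶ G := Over.homMk x (base_ext _ _)

@[simp] theorem pt_left {T : Over S} {G : Over ((yon S).obj (Over.mk (𝟙 S)))}
    (x : (yon S).obj T ⟶ G.left) : (pt x).left = x := rfl

theorem pt_of_left {T : Over S} {G : Over ((yon S).obj (Over.mk (𝟙 S)))} (x : ob T ⟶ G) :
    pt x.left = x := rfl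

theorem obMap_pt {T T' : Over S} {G : Over ((yon S).obj (Over.mk (𝟙 S)))} (φ : T ⟶ T')
    (x : (yon S).obj T' ⟶ G.left) : obMap φ ≫ pt x = pt ((yon S).map φ ≫ x) := rfl

/-- Schemes over `K` as sheaves over the terminal sheaf over `S`. -/
noncomputable def R : Over (Spec (CommRingCat.of K)) ⥤ Over ((yon S).obj (Over.mk (𝟙 S))) where
  obj V := ob (res t V)
  map φ := obMap (resMap t φ)
  map_id V := by
    apply Over.OverMorphism.ext
    exact (yon _).map_id _
  map_comp f g := by
    apply Over.OverMorphism.ext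
    exact (yon _).map_comp (resMap t f) (resMap t g)

variable {t} (G : Over ((yon S).obj (Over.mk (𝟙 S)))) [GrpObj G] {T₀ : Over S}
  {a : (yon S).obj T₀ ⟶ G.left} {q : T₀ ⟶ Over.mk t}

/-- Morphisms to `T₀` over `K`. -/
noncomputable def toT (q : T₀ ⟶ Over.mk t) {V : Over (Spec (CommRingCat.of K))} (c : V ⟶ Over.mk q.left) :
    res t V ⟶ T₀ :=
  Over.homMk c.left (by
    have h1 := Over.w c
    have h2 := Over.w q
    change c.left ≫ q.left = V.hom at h1
    change q.left ≫ t = T₀.hom at h2
    change c.left ≫ T₀.hom = V.hom ≫ _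
    rw [← h2, ← h1, Category.assoc])

theorem toT_q {V : Over (Spec (CommRingCat.of K))} (c : V ⟶ Over.mk q.left) :
    toT q c ≫ q = resStr t V := by
  apply Over.OverMorphism.ext
  exact Over.w c

variable {G} in
/-- Points of the fibre. -/
noncomputable def hom (a : (yon S).obj T₀ ⟶ G.left) (q : T₀ ⟶ Over.mk t) {V : Over (Spec (CommRingCat.of K))}
    (c : V ⟶ Over.mk q.left) : (R t).obj V ⟶ G := pt ((yon _).map (toT q c) ≫ a)

section

variable (hp : IsPullback a ((yon S).map q) G.hom ((yon S).map (K625.Prod.toBase (Over.mk t))))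

include hp
omit [GrpObj G] in
theorem bijective_hom (V : Over (Spec (CommRingCat.of K))) :
    Function.Bijective (hom a q (V := V)) := by
  constructor
  · intro c d h
    have h1 : (yon _).map (toT q c) ≫ a = (yon _).map (toT q d) ≫ a := congrArg (·.left) h
    have h2 : (yon _).map (toT q c) ≫ (yon _).map q = (yon _).map (toT q d) ≫ (yon _).map q := by
      rw [← Functor.map_comp, ← Functor.map_comp, toT_q, toT_q]
    have h4 := (yon _).map_injective (hp.hom_ext h1 h2)
    apply Over.OverMorphism.ext
    exact congrArg (·.left) h4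
  · intro b
    obtain ⟨c, hc⟩ := (yon _).map_surjective
      (hp.lift b.left ((yon _).map (resStr t V)) (base_ext _ _))
    have hcq : c ≫ q = resStr t V := by
      apply (yon _).map_injective
      rw [Functor.map_comp, hc, hp.lift_snd]
    refine ⟨Over.homMk c.left (congrArg (·.left) hcq), ?_⟩
    apply Over.OverMorphism.ext
    change (yon _).map c ≫ a = b.left
    rw [hc, hp.lift_fst]

/-- The fibre is representable by a group scheme. -/
noncomputable def repBy : ((R t).op ⋙ yonedaGrpObj G ⋙ forget _).RepresentableBy (Over.mk q.left) where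
  homEquiv {V} := Equiv.ofBijective (hom a q (V := V)) (bijective_hom G hp V)
  homEquiv_comp {V W} f g := by
    apply Over.OverMorphism.ext
    change (yon _).map (toT q (f ≫ g)) ≫ a = (yon _).map (resMap t f) ≫ (yon _).map (toT q g) ≫ a
    rw [← Category.assoc, ← Functor.map_comp]
    rfl

/-- The group structure. -/
@[reducible]
noncomputable def grp : GrpObj (Over.mk q.left : Over (Spec (CommRingCat.of K))) :=
  grpOf ((R t).op ⋙ yonedaGrpObj G) (repBy G hp)

theorem hom_mul {V : Over (Spec (CommRingCat.of K))} (c d : V ⟶ Over.mk q.left) :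
    let _ := grp G hp
    hom a q (c * d) = hom a q c * hom a q d :=
  homEquiv_mul ((R t).op ⋙ yonedaGrpObj G) (repBy G hp) c d

theorem hom_one {V : Over (Spec (CommRingCat.of K))} :
    let _ := grp G hp
    hom a q (1 : V ⟶ Over.mk q.left) = 1 := by
  intro inst
  have h : hom a q ((1 : V ⟶ Over.mk q.left) * 1) = hom a q 1 * hom a q 1 := hom_mul G hp _ _
  rw [_root_.mul_one] at h
  exact left_eq_mul.1 h

theorem hom_inv {V : Over (Spec (CommRingCat.of K))} (c : V ⟶ Over.mk q.left) :
    let _ := grp G hp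
    hom a q c⁻¹ = (hom a q c)⁻¹ := by
  intro inst
  have h : hom a q (c⁻¹ * c) = hom a q c⁻¹ * hom a q c := hom_mul G hp _ _
  have h1 : hom a q (1 : V ⟶ Over.mk q.left) = 1 := hom_one G hp
  rw [inv_mul_cancel, h1] at h
  exact eq_inv_of_mul_eq_one_left h.symm

end

end K601.EnlFib
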