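import Groth.Agent.AlgSp.K601.EnlMain
/-!
# Enlarging a quasi-compact open subspace of a homogeneous space to one which is closed fibre by fibre
-/

set_option autoImplicit false
set_option backward.isDefEq.respectTransparency false
universe w v u
open CategoryTheory MonoidalCategory CartesianMonoidalCategory MonObj GrpObj AlgebraicGeometry
open Opposite
open AlgSp

namespace K601.EnlFin

open K622.Basic K626.GrpTrans K601.EnlGrp K601.EnlFib K601.EnlPts K601.EnlAct K601.EnlClosed K601.EnlFibC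
  K601.EnlMain

variable {S : Scheme.{u}} {G M : Over ((yon S).obj (Over.mk (𝟙 S)))} [GrpObj G] {act : GAction G M}

theorem compact_base (T : Over S) [CompactSpace T.left] : CompactSpace (Points ((yon S).obj T)) := by
  refine ⟨?_⟩
  have h : Set.range (Points.ofPt (𝟙 ((yon S).obj T))) = Set.univ :=
    Set.eq_univ_of_forall fun x => K608.Pts.ofPt_surjective_yon x
  rw [← h]
  exact isCompact_range (Points.continuous_ofPt _)

theorem exists_factor {X X' Y : Sp S} (hX : IsAlgSpace X) (hX' : IsAlgSpace X') (hY : IsAlgSpace Y) {j : X' ⟶ X}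
    (hj : RepWith @IsOpenImmersion j) (f : Y ⟶ X)
    (h : Set.range (Points.map f) ⊆ Set.range (Points.map j)) : ∃ g : Y ⟶ X', g ≫ j = f := by
  obtain ⟨g, hg⟩ := (Groth.Agent.S10194.result (X := ⟨X, hX⟩) (X' := ⟨X', hX'⟩) (Y := ⟨Y, hY⟩) ⟨j⟩ hj ⟨f⟩).2 h
  exact ⟨g.hom, congrArg (·.hom) hg⟩

omit [GrpObj G] in
theorem lift_left {T : Over ((yon S).obj (Over.mk (𝟙 S)))} (a : T ⟶ G) (b : T ⟶ M) :
    (lift a b).left ≫ (fst G M).left = a.left ∧ (lift a b).left ≫ (snd G M).left = b.left :=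
  ⟨congrArg (·.left) (lift_fst a b), congrArg (·.left) (lift_snd a b)⟩

theorem main [IsAffine S] [IsLocallyNoetherian S] {X₀ : Sp S} {i₀ : X₀ ⟶ M.left} (h : K622.AnDefs.Sit act i₀)
    (hfl : K632.FlatClos.FlatSp G.left) (hflat : K622.AnDefs.OrbFlat act) (hrep : FibRep G) :
    ∃ (X : Sp S) (i : X ⟶ M.left), K622.AnDefs.Sit act i ∧ K622.AnDefs.FibClosed i ∧
      ∃ a : X₀ ⟶ X, a ≫ i = i₀ := by
  have hG := h.algG
  have hM := h.algM
  have hX₀ : IsAlgSpace X₀ := K598.RepKit.isAlgSpace_of_repWith_isOpenImmersion h.op hM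
  -- `H₀`
  have hcS : CompactSpace (Points ((yon S).obj (Over.mk (𝟙 S)))) := by
    have : CompactSpace (Over.mk (𝟙 S)).left := inferInstanceAs (CompactSpace S)
    exact compact_base _
  let e : (yon S).obj (Over.mk (𝟙 S)) ⟶ G.left := η[G].left
  obtain ⟨V, hVo, hVc, hV⟩ := exists_compact_open hG (isCompact_range (Points.continuous_map e))
  obtain ⟨H₀, j, hj, hjr, hH₀⟩ := exists_open_sub hG hVo hVc
  have hHa : IsAlgSpace H₀ := K598.RepKit.isAlgSpace_of_repWith_isOpenImmersion hj hG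
  -- `H₀ × X₀ ⟶ M`
  have hA : IsAlgSpace (prd j i₀) :=
    K608.Comp.isAlgSpace_of_isPullback (IsPullback.of_hasPullback _ _) hHa hX₀ (IsAlgSpace.yon_obj _)
  have hfl' : LocP @Flat G.hom := (K632.FlatClos.flatSp_iff G.hom).1 hfl
  have h1 : LocP @Flat (alp act (j := j) (i₀ := i₀)) := locP_alp act hG hM K597.etLoc_flat hfl' hj h.op
  have h2 : LocP @LocallyOfFinitePresentation (alp act (j := j) (i₀ := i₀)) :=
    locP_alp act hG hM K597.etLoc_lfp (locP_lfp h.lftG) hj h.op
  have h3 : LocP @LocallyOfFiniteType (alp act (j := j) (i₀ := i₀)) :=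
    locP_alp act hG hM K597.etLoc_lft h.lftG hj h.op
  have hcA : CompactSpace (Points (prd j i₀)) := compactSpace_prd hH₀ h.qc
  obtain ⟨X, i, hi, hir, hXq⟩ := exists_open_sub hM (isOpen_range_map hA hM h1 h2)
    (isCompact_range (Points.continuous_map _))
  have hX : IsAlgSpace X := K598.RepKit.isAlgSpace_of_repWith_isOpenImmersion hi hM
  -- points of `X`
  have key : ∀ {T : Over S} (c : (yon S).obj T ⟶ prd j i₀),
      c ≫ alp act (j := j) (i₀ := i₀) = (ac act (pt ((c ≫ Limits.pullback.fst _ _) ≫ j))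
        (pt ((c ≫ Limits.pullback.snd _ _) ≫ i₀))).left := by
    intro T c
    change c ≫ inc j i₀ ≫ act.act.left = (lift (pt ((c ≫ Limits.pullback.fst _ _) ≫ j))
      (pt ((c ≫ Limits.pullback.snd _ _) ≫ i₀))).left ≫ act.act.left
    rw [← Category.assoc]
    congr 1
    apply (K608.Grp.isPullback_tensor G M).hom_ext
    · rw [(lift_left _ _).1, Category.assoc, inc_fst, ← Category.assoc]
      rfl
    · rw [(lift_left _ _).2, Category.assoc, inc_snd, ← Category.assoc]
      rfl
  have hmem : Mem act j i₀ i := by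
    intro K _ _ t m
    constructor
    · rintro ⟨b, rfl⟩
      obtain ⟨c, hc⟩ := exists_lift hA hM h3 (b ≫ i) (by
        rw [← hir]
        exact ⟨Points.mk (ofHom b), by
          change Points.mk ((ofHom b).map i) = _
          rw [map_ofHom]⟩)
      exact ⟨c ≫ Limits.pullback.fst _ _, c ≫ Limits.pullback.snd _ _, by rw [← hc, key]⟩
    · rintro ⟨y, x, rfl⟩
      let c : (yon S).obj (Over.mk t) ⟶ prd j i₀ := Limits.pullback.lift y x (base_ext _ _)
      have hc : (ac act (pt (y ≫ j)) (pt (x ≫ i₀))).left = c ≫ alp act (j := j) (i₀ := i₀) := by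
        rw [key, Limits.pullback.lift_fst, Limits.pullback.lift_snd]
      rw [hc]
      refine (K608.Pts.factors_iff_of_isOpenImmersion hi _).2 fun s => ?_
      rw [hir]
      exact ⟨Points.ofPt c s, rfl⟩
  refine ⟨X, i, ⟨hG, h.lftG, hM, h.lftM, h.sepM, h.hom, hi, hXq⟩,
    fibClosed act hG h.lftG hM h.lftM hrep hj h.op hi hmem hflat, ?_⟩
  refine exists_factor hM hX hX₀ hi i₀ ?_
  rw [hir]
  -- `i₀` factors through `H₀ × X₀`
  obtain ⟨y, hy⟩ := exists_factor hG hHa hX₀ hj ((i₀ ≫ M.hom) ≫ e) (by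
    rw [hjr]
    refine Set.Subset.trans ?_ hV
    rintro _ ⟨x, rfl⟩
    exact ⟨Points.map (i₀ ≫ M.hom) x, (Points.map_comp _ _ _).symm⟩)
  let c : X₀ ⟶ prd j i₀ := Limits.pullback.lift y (𝟙 _) (base_ext _ _)
  have hc : c ≫ alp act (j := j) (i₀ := i₀) = i₀ := by
    let T : Over ((yon S).obj (Over.mk (𝟙 S))) := Over.mk (i₀ ≫ M.hom)
    let x : T ⟶ M := Over.homMk i₀ rfl
    have h5 : (ac act (1 : T ⟶ G) x).left = i₀ := congrArg (·.left) (ac_one act x)
    refine Eq.trans ?_ h5
    change c ≫ inc j i₀ ≫ act.act.left = (lift (1 : T ⟶ G) x).left ≫ act.act.left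
    rw [← Category.assoc]
    congr 1
    apply (K608.Grp.isPullback_tensor G M).hom_ext
    · rw [(lift_left _ _).1, Category.assoc, inc_fst, ← Category.assoc, Limits.pullback.lift_fst, hy]
      rfl
    · rw [(lift_left _ _).2, Category.assoc, inc_snd, ← Category.assoc, Limits.pullback.lift_snd,
        Category.id_comp]
      rfl
  rintro _ ⟨x, rfl⟩
  exact ⟨Points.map c x, by rw [← Points.map_comp, hc]⟩

end K601.EnlFin
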