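import Groth.Agent.AlgSp.K626.GrpTrans
import Groth.Agent.AlgSp.K626.W5Rat
import Groth.Agent.Sga3C.LocConn
/-!
# Products of open subsets of a group scheme over an algebraically closed field
-/

set_option autoImplicit false
universe u v
open CategoryTheory MonoidalCategory CartesianMonoidalCategory MonObj GrpObj AlgebraicGeometry
open Topology TopologicalSpace

namespace K601.EnlGrp

open K626.GrpTrans
open Groth.Agent.Localalg

variable {K : Type u} [Field K]

/-- A rational point of a scheme over `K` as a morphism over `K`. -/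
noncomputable def rp (X : Over (Spec (CommRingCat.of K))) (q : Spec (CommRingCat.of K) ⟶ X.left)
    (hq : q ≫ X.hom = 𝟙 _) : 𝟙_ (Over (Spec (CommRingCat.of K))) ⟶ X :=
  Over.homMk q (by rw [hq]; rfl)

theorem ratDense [IsAlgClosed K] (X : Over (Spec (CommRingCat.of K))) [LocallyOfFiniteType X.hom] :
    RatDense X := by
  rintro C D hC hD ⟨x, hxC, hxD⟩
  let U : X.left.Opens := ⟨D, hD⟩
  obtain ⟨q, hq, hqC⟩ := K626.W5.exists_ratPt (U.ι ≫ X.hom) (U.ι ⁻¹' C) (hC.preimage U.ι.continuous)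
    ⟨⟨x, hxD⟩, hxC⟩
  refine ⟨rp X (q ≫ U.ι) (by rw [Category.assoc]; exact hq), ?_, ?_⟩
  · exact hqC _
  · change U.ι (q _) ∈ D
    have := (q (IsLocalRing.closedPoint K : PrimeSpectrum K)).2
    exact this

variable (G : Over (Spec (CommRingCat.of K))) [GrpObj G]

/-- The points in the same irreducible component as the unit. -/
def idc : Set G.left := {z | gen G z = gen G (ev (1 : 𝟙_ (Over (Spec (CommRingCat.of K))) ⟶ G))}

theorem ev_one : ev (1 : 𝟙_ (Over (Spec (CommRingCat.of K))) ⟶ G) = GrpSchComp2.one G := by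
  rw [Hom.one_def]
  have h : toUnit (𝟙_ (Over (Spec (CommRingCat.of K)))) = 𝟙 _ := toUnit_unique _ _
  rw [h, Category.id_comp]
  rfl

theorem idc_eq : idc G = connectedComponent (GrpSchComp2.one G) := by
  rw [GrpSchComp2.connectedComponent_one]
  ext z
  change gen G z = gen G _ ↔ _
  rw [ev_one]
  constructor
  · intro h
    have h1 : gen G (GrpSchComp2.one G) ⤳ z := h ▸ (gen_gen G).spec z
    exact h1.mem_closed (GrpSchComp2.isClosed_N G)
      (isIrreducible_irreducibleComponent.isGenericPoint_genericPoint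
        isClosed_irreducibleComponent).mem
  · intro h
    have h1 := GrpSchComp2.ξ_specializes (G := G) h
    have h2 := GrpSchComp2.ξ_specializes (G := G) (GrpSchComp2.one_mem_N G)
    exact ((gen_gen G).eq h1).symm.trans ((gen_gen G).eq h2)

theorem isOpen_idc [LocallyOfFiniteType G.hom] : IsOpen (idc G) := by
  have : IsLocallyNoetherian G.left := LocallyOfFiniteType.isLocallyNoetherian G.hom
  have := Groth.Agent.Sga3C.LocConn.locallyConnectedSpace_of_isLocallyNoetherian G.left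
  rw [idc_eq]
  exact isOpen_connectedComponent

theorem one_mem_idc : ev (1 : 𝟙_ (Over (Spec (CommRingCat.of K))) ⟶ G) ∈ idc G := rfl

variable {G}

theorem gen_bth (x y : 𝟙_ (Over (Spec (CommRingCat.of K))) ⟶ G) (z : G.left) :
    gen G (bth G x y z) = bth G x y (gen G z) := (gen_gen G).homeo _ _

theorem inv_mem_idc {g : 𝟙_ (Over (Spec (CommRingCat.of K))) ⟶ G} (hg : ev g ∈ idc G) :
    ev g⁻¹ ∈ idc G := by
  have h1 : bth G g 1 (gen G (ev g⁻¹)) = gen G (ev 1) := by
    rw [← gen_bth, bth_ev]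
    simp
  have h2 : bth G g 1 (gen G (ev (1 : 𝟙_ (Over (Spec (CommRingCat.of K))) ⟶ G))) = gen G (ev 1) := by
    rw [← gen_bth, bth_ev]
    simp only [_root_.mul_one]
    exact hg
  exact (bth G g 1).injective (h1.trans h2.symm)

theorem conj_mem_idc (h : 𝟙_ (Over (Spec (CommRingCat.of K))) ⟶ G)
    {g : 𝟙_ (Over (Spec (CommRingCat.of K))) ⟶ G} (hg : ev g ∈ idc G) :
    ev (h⁻¹ * g * h) ∈ idc G := by
  change gen G _ = _
  rw [← bth_ev, gen_bth, show gen G (ev g) = gen G (ev 1) from hg, ← gen_bth, bth_ev]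
  simp

/-- If `h ∈ U`, `1 ∈ V` (open subsets) and `g` lies in the identity component then `g⁻¹ h ∈ U V`. -/
theorem exists_mul (hR : RatDense G) {U V : Set G.left} (hU : IsOpen U) (hV : IsOpen V)
    (g h : 𝟙_ (Over (Spec (CommRingCat.of K))) ⟶ G) (hg : ev g ∈ idc G) (hh : ev h ∈ U)
    (h1 : ev (1 : 𝟙_ (Over (Spec (CommRingCat.of K))) ⟶ G) ∈ V) :
    ∃ u v : 𝟙_ (Over (Spec (CommRingCat.of K))) ⟶ G, ev u ∈ U ∧ ev v ∈ V ∧ g⁻¹ * h = u * v := by
  -- `φ z = z⁻¹ (g⁻¹ h)`
  let φ : G ⟶ G := ι[G] ≫ (bt G 1 (g⁻¹ * h)).hom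
  have hφ : ∀ z : 𝟙_ (Over (Spec (CommRingCat.of K))) ⟶ G, φ.left (ev z) = ev (z⁻¹ * (g⁻¹ * h)) := by
    intro z
    rw [← ev_comp]
    congr 1
    change z ≫ ι[G] ≫ _ = _
    rw [← Category.assoc, comp_bt_unit, _root_.one_mul]
    rfl
  have hW : IsOpen (U ∩ φ.left ⁻¹' V) := hU.inter (hV.preimage φ.left.continuous)
  have h2 : gen G (ev h) ∈ U := ((gen_gen G).spec _).mem_open hU hh
  have h3 : ev (g⁻¹ * h) ∈ φ.left ⁻¹' V := by
    rw [Set.mem_preimage, hφ]
    simpa using h1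
  have h4 : gen G (ev (g⁻¹ * h)) ∈ φ.left ⁻¹' V :=
    ((gen_gen G).spec _).mem_open (hV.preimage φ.left.continuous) h3
  have h5 : gen G (ev (g⁻¹ * h)) = gen G (ev h) := by
    have e : g⁻¹ * h = 1 * h * (h⁻¹ * g⁻¹ * h) := by group
    rw [e, ← bth_ev, gen_bth, bth_gen hR (conj_mem_idc h (inv_mem_idc hg))]
  rw [h5] at h4
  obtain ⟨u, -, hu, hu'⟩ := hR Set.univ _ isClosed_univ hW ⟨_, trivial, h2, h4⟩
  refine ⟨u, u⁻¹ * (g⁻¹ * h), hu, ?_, by group⟩
  rw [Set.mem_preimage, hφ] at hu'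
  exact hu'

end K601.EnlGrp
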