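import Groth.Agent.AlgSp.K601.EnlFibC
import Groth.Agent.AlgSp.K609.QC
import Groth.Agent.AlgSp.K608.Grp
import Groth.Agent.AlgSp.K596.Univ
import Groth.Agent.S10195
import Groth.Agent.S10194
/-!
# Quasi-compact open subspaces of homogeneous spaces are contained in ones which are closed fibre by fibre
-/

set_option autoImplicit false
set_option backward.isDefEq.respectTransparency false
universe w v u
open CategoryTheory MonoidalCategory CartesianMonoidalCategory MonObj GrpObj AlgebraicGeometry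
open Opposite
open AlgSp

namespace K601.EnlMain

open K622.Basic K626.GrpTrans K601.EnlGrp K601.EnlFib K601.EnlPts K601.EnlAct K601.EnlClosed K601.EnlFibC

variable {S : Scheme.{u}} {G M : Over ((yon S).obj (Over.mk (𝟙 S)))} [GrpObj G] (act : GAction G M)

/-- The isomorphism `(g, m) ↦ (g, g m)`. -/
noncomputable def shear : G ⊗ M ≅ G ⊗ M where
  hom := lift (fst G M) act.act
  inv := lift (fst G M) (ac act (fst G M)⁻¹ (snd G M))
  hom_inv_id := by
    have h : act.act = ac act (fst G M) (snd G M) := by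
      rw [ac, lift_fst_snd, Category.id_comp]
    rw [comp_lift, comp_ac, lift_fst, lift_snd]
    have h2 : lift (fst G M) act.act ≫ (fst G M)⁻¹ = (fst G M)⁻¹ := by
      rw [Hom.inv_def, ← Category.assoc, lift_fst]
    rw [h2, h, ← ac_mul, inv_mul_cancel, ac_one, lift_fst_snd]
  inv_hom_id := by
    have h : act.act = ac act (fst G M) (snd G M) := by
      rw [ac, lift_fst_snd, Category.id_comp]
    rw [comp_lift, lift_fst]
    have h3 : lift (fst G M) (ac act (fst G M)⁻¹ (snd G M)) ≫ act.act = snd G M := by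
      change ac act _ _ = _
      rw [← ac_mul, mul_inv_cancel, ac_one]
    rw [h3, lift_fst_snd]

theorem shear_snd : (shear act).hom ≫ snd G M = act.act := lift_snd _ _

theorem locP_act {P : MorphismProperty Scheme.{u}} [P.IsStableUnderBaseChange] (hP : K597.EtLoc P)
    (hG : IsAlgSpace G.left) (hM : IsAlgSpace M.left) (h : LocP P G.hom) : LocP P act.act.left := by
  have h1 : LocP P (snd G M).left := K597.locP_bc hP (K608.Grp.isPullback_tensor G M) hG.hasAtlas
    (IsAlgSpace.yon_obj _).hasAtlas hM.hasAtlas h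
  have h2 : act.act.left = (shear act).hom.left ≫ (snd G M).left := by
    rw [← shear_snd act]
    rfl
  rw [h2]
  have : IsIso (shear act).hom.left := inferInstance
  exact K597.locP_precomp (K598.RepKit.repWith_of_isIso _) h1

variable {H₀ X₀ : Sp S} (j : H₀ ⟶ G.left) (i₀ : X₀ ⟶ M.left)

/-- `H₀ × X₀`. -/
noncomputable abbrev prd : Sp S := Limits.pullback (j ≫ G.hom) (i₀ ≫ M.hom)

/-- The open immersion `H₀ × X₀ ⟶ G × M`. -/
noncomputable def inc : prd j i₀ ⟶ (G ⊗ M).left :=
  (K608.Grp.isPullback_tensor G M).lift (Limits.pullback.fst _ _ ≫ j) (Limits.pullback.snd _ _ ≫ i₀) (by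
    rw [Category.assoc, Category.assoc, Limits.pullback.condition])

omit [GrpObj G] in
theorem inc_fst : inc j i₀ ≫ (fst G M).left = Limits.pullback.fst _ _ ≫ j :=
  (K608.Grp.isPullback_tensor G M).lift_fst _ _ _

omit [GrpObj G] in
theorem inc_snd : inc j i₀ ≫ (snd G M).left = Limits.pullback.snd _ _ ≫ i₀ :=
  (K608.Grp.isPullback_tensor G M).lift_snd _ _ _

/-- The map `H₀ × X₀ ⟶ M`. -/
noncomputable def alp : prd j i₀ ⟶ M.left := inc j i₀ ≫ act.act.left

variable {j i₀}

theorem repWith_lift {P : MorphismProperty Scheme.{u}} [P.IsStableUnderBaseChange] [P.IsMultiplicative]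
    {T A A' B₀ B' D T' : Sp S} {pr₁ : T ⟶ A'} {pr₂ : T ⟶ B'} {x : A' ⟶ D} {y : B' ⟶ D}
    (sq : IsPullback pr₁ pr₂ x y) {f : A ⟶ A'} {g : B₀ ⟶ B'} {q₁ : T' ⟶ A} {q₂ : T' ⟶ B₀}
    (sq' : IsPullback q₁ q₂ (f ≫ x) (g ≫ y)) (hf : RepWith P f) (hg : RepWith P g) (l : T' ⟶ T)
    (l₁ : l ≫ pr₁ = q₁ ≫ f) (l₂ : l ≫ pr₂ = q₂ ≫ g) : RepWith P l := by
  let a₁ : T' ⟶ Limits.pullback x (g ≫ y) :=
    Limits.pullback.lift (q₁ ≫ f) q₂ (by rw [Category.assoc, sq'.w])
  let a₂ : Limits.pullback x (g ≫ y) ⟶ T :=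
    sq.lift (Limits.pullback.fst _ _) (Limits.pullback.snd _ _ ≫ g) (by
      rw [Category.assoc, Limits.pullback.condition])
  have e : l = a₁ ≫ a₂ := by
    apply sq.hom_ext
    · rw [l₁, Category.assoc, IsPullback.lift_fst, Limits.pullback.lift_fst]
    · rw [l₂, Category.assoc, IsPullback.lift_snd, ← Category.assoc, Limits.pullback.lift_snd]
  rw [e]
  refine K621.Base.repWith_comp ?_ ?_
  · have sq1 : IsPullback q₁ a₁ f (Limits.pullback.fst x (g ≫ y)) := by
      refine IsPullback.of_bot ?_ (Limits.pullback.lift_fst _ _ _).symm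
        (IsPullback.of_hasPullback x (g ≫ y))
      rw [Limits.pullback.lift_snd]
      exact sq'
    exact K598.RepKit.repWith_of_isPullback sq1 hf
  · have sq2 : IsPullback (Limits.pullback.snd x (g ≫ y)) a₂ g pr₂ := by
      refine IsPullback.of_bot ?_ (IsPullback.lift_snd _ _ _ _).symm sq.flip
      rw [IsPullback.lift_fst]
      exact (IsPullback.of_hasPullback x (g ≫ y)).flip
    exact K598.RepKit.repWith_of_isPullback sq2 hg

omit [GrpObj G] in
theorem repWith_inc {P : MorphismProperty Scheme.{u}} [P.IsStableUnderBaseChange] [P.IsMultiplicative]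
    (hj : RepWith P j) (hi₀ : RepWith P i₀) : RepWith P (inc j i₀) :=
  repWith_lift (K608.Grp.isPullback_tensor G M) (IsPullback.of_hasPullback _ _) hj hi₀ _ (inc_fst j i₀)
    (inc_snd j i₀)

omit [GrpObj G] in
theorem compactSpace_prd [IsAffine S] (hH : IsQuasiCompactSp H₀) (hX : IsQuasiCompactSp X₀) :
    CompactSpace (Points (prd j i₀)) := by
  obtain ⟨U, p, hU, -, hps⟩ := K609.QC.exists_affine_chart hH
  obtain ⟨V, q, hV, -, hqs⟩ := K609.QC.exists_affine_chart hX
  obtain ⟨W, a, b, sq⟩ := K621.Base.exists_pullback (IsAlgSpace.yon_obj (Over.mk (𝟙 S)))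
    (p ≫ j ≫ G.hom) (q ≫ i₀ ≫ M.hom)
  let l : (yon S).obj W ⟶ prd j i₀ := Limits.pullback.lift ((yon S).map a ≫ p) ((yon S).map b ≫ q) (by
    rw [Category.assoc, Category.assoc, sq.w])
  have hl : RepWith @Surjective l := repWith_lift (IsPullback.of_hasPullback (j ≫ G.hom) (i₀ ≫ M.hom)) sq hps hqs l
    (Limits.pullback.lift_fst _ _ _) (Limits.pullback.lift_snd _ _ _)
  obtain ⟨c₁, hc₁⟩ := (yon S).map_surjective (p ≫ j ≫ G.hom)
  obtain ⟨c₂, hc₂⟩ := (yon S).map_surjective (q ≫ i₀ ≫ M.hom)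
  rw [← hc₁, ← hc₂] at sq
  have sq' := isPullback_left sq
  have h1 : QuasiCompact c₂.left := by
    have : IsAffine (Over.mk (𝟙 S)).left := inferInstanceAs (IsAffine S)
    infer_instance
  have h2 : QuasiCompact a.left := MorphismProperty.of_isPullback sq'.flip h1
  have h3 : CompactSpace W.left := by
    have : CompactSpace U.left := inferInstance
    exact QuasiCompact.compactSpace_of_compactSpace a.left
  have h4 := K621.Base.ofPt_surjective hl
  refine ⟨?_⟩
  rw [← h4.range_eq]
  exact isCompact_range (Points.continuous_ofPt l)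

section open_

variable (hG : IsAlgSpace G.left) (hM : IsAlgSpace M.left)

include hG hM

theorem locP_alp {P : MorphismProperty Scheme.{u}} [P.IsStableUnderBaseChange] (hP : K597.EtLoc P)
    (h : LocP P G.hom) (hj : RepWith @IsOpenImmersion j) (hi₀ : RepWith @IsOpenImmersion i₀) :
    LocP P (alp act (j := j) (i₀ := i₀)) := by
  have h1 : RepWith @IsOpenImmersion (inc j i₀) := repWith_inc hj hi₀
  exact K597.locP_precomp (K598.RepKit.repWith_mono (fun _ _ f (hf : IsOpenImmersion f) => (inferInstance : Etale f)) h1)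
    (locP_act act hP hG hM h)

end open_

omit [GrpObj G] in
theorem locP_lfp [IsLocallyNoetherian S] (h : LocP @LocallyOfFiniteType G.hom) :
    LocP @LocallyOfFinitePresentation G.hom := by
  intro U V a b φ ha hb e
  have h1 : LocallyOfFiniteType φ.left := h a b φ ha hb e
  obtain ⟨b', rfl⟩ := (yon S).map_surjective b
  have h2 : Etale b'.left := (repWith_yon_map_iff _ _).1 hb
  have : IsLocallyNoetherian V.left := LocallyOfFiniteType.isLocallyNoetherian (Y := S) b'.left
  exact LocallyOfFinitePresentation.iff_locallyOfFiniteType.2 h1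

theorem isOpen_range_map {F F' : Sp S} (hF : IsAlgSpace F) (hF' : IsAlgSpace F') {f : F ⟶ F'}
    (h1 : LocP @Flat f) (h2 : LocP @LocallyOfFinitePresentation f) : IsOpen (Set.range (Points.map f)) := by
  obtain ⟨U, a, ha, has⟩ := hF.atlas
  have hr : Representable (a ≫ f) := hF'.representable_from_yon _
  have h3 : RepWith (@Flat ⊓ @LocallyOfFinitePresentation) (a ≫ f) := K598.RepKit.repWith_inf
    (K597.repWith_of_locP K597.etLoc_flat hF'.hasAtlas hr (K597.locP_precomp ha h1))
    (K597.repWith_of_locP K597.etLoc_lfp hF'.hasAtlas hr (K597.locP_precomp ha h2))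
  have h4 : IsOpenMap (Points.ofPt (a ≫ f)) := K608.OpenEmb.isOpenMap_ofPt_of_repWith (fun _ _ g hg => by
    have : Flat g := hg.1
    have : LocallyOfFinitePresentation g := hg.2
    exact g.isOpenMap) h3
  have h5 : Set.range (Points.map f) = Set.range (Points.ofPt (a ≫ f)) := by
    ext x
    constructor
    · rintro ⟨y, rfl⟩
      obtain ⟨z, rfl⟩ := K621.Base.ofPt_surjective has y
      exact ⟨z, rfl⟩
    · rintro ⟨z, rfl⟩
      exact ⟨Points.ofPt a z, rfl⟩
  rw [h5]
  exact h4.isOpen_range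

/-- A compact subset is contained in a compact open subset. -/
theorem exists_compact_open {F : Sp S} (hF : IsAlgSpace F) {C : Set (Points F)} (hC : IsCompact C) :
    ∃ V : Set (Points F), IsOpen V ∧ IsCompact V ∧ C ⊆ V := by
  refine hC.induction_on (p := fun C => ∃ V : Set (Points F), IsOpen V ∧ IsCompact V ∧ C ⊆ V)
    ⟨∅, isOpen_empty, isCompact_empty, le_rfl⟩ ?_ ?_ ?_
  · rintro s t hst ⟨V, h1, h2, h3⟩
    exact ⟨V, h1, h2, hst.trans h3⟩
  · rintro s t ⟨V, h1, h2, h3⟩ ⟨V', h1', h2', h3'⟩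
    exact ⟨V ∪ V', h1.union h1', h2.union h2', Set.union_subset_union h3 h3'⟩
  · intro x _
    obtain ⟨V, h1, h2, h3, -⟩ := K609.QC.exists_isOpen_isCompact_nhd hF x Set.univ isOpen_univ trivial
    exact ⟨V, mem_nhdsWithin_of_mem_nhds (h1.mem_nhds h3), V, h1, h2, le_rfl⟩

theorem exists_open_sub {F : Sp S} (hF : IsAlgSpace F) {V : Set (Points F)} (hV : IsOpen V) (hc : IsCompact V) :
    ∃ (X : Sp S) (w : X ⟶ F), RepWith @IsOpenImmersion w ∧ Set.range (Points.map w) = V ∧
      IsQuasiCompactSp X := by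
  obtain ⟨X', w, hw, hr⟩ := Groth.Agent.S10195.result ⟨F, hF⟩ V hV
  refine ⟨X'.obj, w.hom, hw, hr, ?_⟩
  rw [K609.QC.isQuasiCompactSp_iff X'.property]
  have he := K608.OpenEmb.isOpenEmbedding_of_repWith_isOpenImmersion hw
  refine ⟨?_⟩
  rw [he.isInducing.isCompact_iff, Set.image_univ, hr]
  exact hc

end K601.EnlMain
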