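import Groth.Agent.AlgSp.K601.EnlFib
import Groth.Agent.AlgSp.K597.LocP
import Groth.Agent.AlgSp.K597.EtLoc
import Groth.Agent.AlgSp.K608.Comp
import Groth.Agent.AlgSp.K608.Pts2
import Groth.Agent.AlgSp.K608.OpenEmb
import Groth.Agent.AlgSp.K621.Base
/-!
# Points of algebraic spaces with values in algebraically closed fields; group translations of points
-/

set_option autoImplicit false
set_option backward.isDefEq.respectTransparency false
universe w v u
open CategoryTheory MonoidalCategory CartesianMonoidalCategory MonObj GrpObj AlgebraicGeometry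
open Opposite
open AlgSp

namespace K601.EnlPts

open K622.Basic K626.GrpTrans K601.EnlGrp K601.EnlFib

variable {S : Scheme.{u}}

/-- A point of the base lifts along a morphism locally of finite type if it does so on topological points. -/
theorem exists_lift {A M : Sp S} (hA : IsAlgSpace A) (hM : IsAlgSpace M) {α : A ⟶ M}
    (hα : LocP @LocallyOfFiniteType α) {K : Type u} [Field K] [IsAlgClosed K] {t : Spec (CommRingCat.of K) ⟶ S}
    (m : (yon S).obj (Over.mk t) ⟶ M) (h : Points.mk (ofHom m) ∈ Set.range (Points.map α)) :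
    ∃ x : (yon S).obj (Over.mk t) ⟶ A, x ≫ α = m := by
  obtain ⟨z, hz⟩ := h
  have hP : IsAlgSpace (Limits.pullback α m) :=
    K608.Comp.isAlgSpace_of_isPullback (IsPullback.of_hasPullback α m) hA (IsAlgSpace.yon_obj _) hM
  obtain ⟨p, -, hp⟩ := K622.Basic.exists_of_isPullback (IsPullback.of_hasPullback α m) z
    (Points.mk (ofHom (𝟙 ((yon S).obj (Over.mk t))))) (by
      rw [hz]
      change _ = Points.mk ((ofHom (𝟙 _)).map m)
      rw [map_ofHom, Category.id_comp])
  obtain ⟨U, a, u₀, ha, -⟩ := K621.Base.exists_chart hP p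
  obtain ⟨b, hb⟩ := (yon S).map_surjective (a ≫ Limits.pullback.snd α m)
  have h1 : LocP @LocallyOfFiniteType (Limits.pullback.snd α m) :=
    K597.locP_bc K597.etLoc_lft (IsPullback.of_hasPullback α m) hA.hasAtlas hM.hasAtlas
      (IsAlgSpace.yon_obj _).hasAtlas hα
  have h2 : LocallyOfFiniteType b.left := h1 a (𝟙 _) b ha (repWith_id _ _) (by rw [hb, Category.comp_id])
  have : Nonempty U.left := ⟨u₀⟩
  obtain ⟨s, hs⟩ := K626.W5.exists_ratPt_of_nonempty b.left
  let σ : Over.mk t ⟶ U := Over.homMk s (by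
    rw [← Over.w b, ← Category.assoc, hs]
    exact Category.id_comp _)
  have hσ : σ ≫ b = 𝟙 _ := Over.OverMorphism.ext hs
  refine ⟨(yon S).map σ ≫ a ≫ Limits.pullback.fst α m, ?_⟩
  rw [Category.assoc, Category.assoc, Limits.pullback.condition, ← Category.assoc a, ← hb,
    ← Category.assoc, ← Functor.map_comp, hσ, CategoryTheory.Functor.map_id, Category.id_comp]

/-- Rational points of open subsets. -/
theorem ev_mem_iff' {K : Type u} [Field K] {t : Spec (CommRingCat.of K) ⟶ S} {F W : Sp S} {w : W ⟶ F}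
    (hw : RepWith @IsOpenImmersion w) {V : Over (Spec (CommRingCat.of K))} (f : (yon S).obj (res t V) ⟶ F)
    (c : 𝟙_ (Over (Spec (CommRingCat.of K))) ⟶ V) :
    Points.ofPt (T := res t V) f (ev c) ∈ Set.range (Points.map w) ↔
      ∃ b, b ≫ w = (yon S).map (resMap t c) ≫ f := by
  refine Iff.trans ?_ (K608.Pts.factors_iff_of_isOpenImmersion hw _).symm
  constructor
  · intro h s
    rw [K608.Pts.ofPt_yon_map_comp]
    have : s = (IsLocalRing.closedPoint K : PrimeSpectrum K) := Subsingleton.elim (α := PrimeSpectrum K) _ _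
    subst this
    exact h
  · intro h
    have h1 := h (IsLocalRing.closedPoint K : PrimeSpectrum K)
    rw [K608.Pts.ofPt_yon_map_comp] at h1
    exact h1

theorem ev_mem_iff {K : Type u} [Field K] {t : Spec (CommRingCat.of K) ⟶ S}
    {N : Over ((yon S).obj (Over.mk (𝟙 S)))} {W : Sp S} {w : W ⟶ N.left}
    (hw : RepWith @IsOpenImmersion w) {V : Over (Spec (CommRingCat.of K))} (f : (R t).obj V ⟶ N)
    (c : 𝟙_ (Over (Spec (CommRingCat.of K))) ⟶ V) :
    Points.ofPt (T := res t V) f.left (ev c) ∈ Set.range (Points.map w) ↔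
      ∃ b, b ≫ w = ((R t).map c ≫ f).left := ev_mem_iff' hw _ c

section act

variable {K : Type u} [Field K] {t : Spec (CommRingCat.of K) ⟶ S}
  {G M : Over ((yon S).obj (Over.mk (𝟙 S)))} [GrpObj G] (act : GAction G M)

/-- The action on points. -/
noncomputable abbrev ac {T : Over ((yon S).obj (Over.mk (𝟙 S)))} (g : T ⟶ G) (x : T ⟶ M) : T ⟶ M :=
  lift g x ≫ act.act

theorem comp_ac {T T' : Over ((yon S).obj (Over.mk (𝟙 S)))} (φ : T' ⟶ T) (g : T ⟶ G) (x : T ⟶ M) :
    φ ≫ ac act g x = ac act (φ ≫ g) (φ ≫ x) := by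
  simp only [ac, ← Category.assoc, comp_lift]

theorem ac_mul {T : Over ((yon S).obj (Over.mk (𝟙 S)))} (g h : T ⟶ G) (x : T ⟶ M) :
    ac act (g * h) x = ac act g (ac act h x) := K607.Act.act_mul act g h x

theorem ac_one {T : Over ((yon S).obj (Over.mk (𝟙 S)))} (x : T ⟶ M) : ac act 1 x = x :=
  K607.Act.act_one act x

end act

end K601.EnlPts
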