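import Groth.Agent.AlgSp.K601.EnlFin
import Groth.Agent.AlgSp.K624.AnBC3
import Groth.Agent.AlgSp.K612.NodeU
import Groth.Agent.S10120
/-!
# Node F: enlargement of an open subspace to one which is closed fibre by fibre

`nodeF : K612.NodeU.NodeF`.
-/

set_option autoImplicit false
set_option backward.isDefEq.respectTransparency false
universe u
open CategoryTheory CategoryTheory.Limits MonoidalCategory MonObj AlgebraicGeometry
open AlgSp K595.ChBase

namespace K601.EnlRep

open K601.EnlFibC

variable {S : Scheme.{u}} {G : Over ((yon S).obj (Over.mk (𝟙 S)))}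

/-- A scheme has schemes as fibres. -/
theorem fibRep_of_rep (h : G.left.obj.IsRepresentable) : FibRep G := by
  intro K _ _ t
  obtain ⟨Q, ⟨e⟩⟩ := K610.ZarGlue.isRepresentable_iff.1 h
  have sq := (IsPullback.of_hasPullback (K625.Prod.toBase Q) (K625.Prod.toBase (Over.mk t))).map (yon S)
  exact ⟨_, (yon S).map (pullback.fst (K625.Prod.toBase Q) (K625.Prod.toBase (Over.mk t))) ≫ e.hom,
    pullback.snd (K625.Prod.toBase Q) (K625.Prod.toBase (Over.mk t)),
    IsPullback.of_iso sq (Iso.refl _) e (Iso.refl _) (Iso.refl _) (by simp) (by simp)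
      (K601.EnlFib.base_ext _ _) (K601.EnlFib.base_ext _ _)⟩

/-- The fibres of a separated group algebraic space are schemes. -/
theorem fibRep_of_sep [GrpObj G] (hG : IsAlgSpace G.left) (hs : IsSeparatedSp G.left) : FibRep G := by
  intro K _ _ t
  have h1 : ((K624.GrpBC.F t).obj G).left.obj.IsRepresentable :=
    Groth.Agent.S10120.result K ((K624.GrpBC.F t).obj G) (isAlgSpace_R hG) (K624.AnBC.isSeparatedSp_R t hs)
  obtain ⟨T, ⟨e⟩⟩ := K610.ZarGlue.isRepresentable_iff.1 h1
  let E : (yon S).obj ((Over.map t).obj T) ≅ (L t).obj ((R t).obj G.left) := yonIso T ≪≫ (L t).mapIso e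
  obtain ⟨q, hq⟩ := (yon S).map_surjective (E.hom ≫ projHom (g := t) ((R t).obj G.left))
  refine ⟨_, E.hom ≫ (adj t).counit.app G.left, q, ?_⟩
  rw [hq]
  exact IsPullback.of_iso (K624.AnBC.isPullback_counit_yon t G.left).flip E.symm (Iso.refl _) (Iso.refl _) (Iso.refl _)
    (by simp [E]) (by simp [E]) (K601.EnlFib.base_ext _ _) (K601.EnlFib.base_ext _ _)

/-- Node F. -/
theorem nodeF : K612.NodeU.NodeF.{u} := by
  intro R₀ _ _ G M _ act X₀ i₀ hsit hfl hflat hrep
  refine K601.EnlFin.main hsit hfl hflat ?_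
  rcases hrep with h | h
  · exact fibRep_of_sep hsit.algG h
  · exact fibRep_of_rep h

end K601.EnlRep
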