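import Groth.Agent.S10011
import Groth.Agent.AlgSp.K597.Affine
import Groth.Agent.AlgSp.K597.LocP
import Groth.Agent.AlgSp.K597.EtLoc
import Groth.Agent.AlgSp.K595.DiagBasic
import Groth.Agent.AlgSp.K596.QC2

/-!
# A monomorphism into a limit of algebraic spaces is a monomorphism into a stage (S10012)
-/

set_option autoImplicit false
set_option backward.isDefEq.respectTransparency false
universe u

open CategoryTheory CategoryTheory.Limits AlgebraicGeometry Opposite
open AlgSp

namespace K601.EvMono

variable {S : Scheme.{u}}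

theorem isSeparatedMor_of_repWith_isAffineHom {F G : Sp S} {f : F ⟶ G} (hf : RepWith @IsAffineHom f) :
    IsSeparatedMor f := by
  refine (K595.DiagBasic.repWith_diagonal_iff @IsClosedImmersion hf.1).2 (K597.repWith_mono ?_ hf)
  intro X Y g hg
  have : IsAffineHom g := hg
  have h : IsSeparated g := inferInstance
  exact (isSeparated_iff g).1 h

theorem isSeparatedMor_of_isAffineMor {F G : Sp S} {f : F ⟶ G} (hf : IsAffineMor f) : IsSeparatedMor f :=
  isSeparatedMor_of_repWith_isAffineHom (K597.Affine.repWith_of_isAffineMor hf)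

section
variable {C : Type*} [Category C] [HasPullbacks C] {I : Type*} [Category I] {D : I ⥤ C} {Y : C}
  (z : ∀ i, Y ⟶ D.obj i) (hz : ∀ {i j : I} (φ : i ⟶ j), z i ≫ D.map φ = z j)

/-- The system of fibre squares `Y ×_{D_i} Y`. -/
noncomputable def sqDiag : I ⥤ C where
  obj i := pullback (z i) (z i)
  map {i j} φ := pullback.map (z i) (z i) (z j) (z j) (𝟙 _) (𝟙 _) (D.map φ) (by rw [hz, Category.id_comp])
    (by rw [hz, Category.id_comp])
  map_id i := by apply pullback.hom_ext <;> simp
  map_comp f g := by apply pullback.hom_ext <;> simp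

theorem sqDiag_map_fst {i j : I} (φ : i ⟶ j) :
    (sqDiag z hz).map φ ≫ pullback.fst (z j) (z j) = pullback.fst (z i) (z i) := by
  simp [sqDiag]

theorem sqDiag_map_snd {i j : I} (φ : i ⟶ j) :
    (sqDiag z hz).map φ ≫ pullback.snd (z j) (z j) = pullback.snd (z i) (z i) := by
  simp [sqDiag]

/-- first projection -/
noncomputable def sqFst : sqDiag z hz ⟶ (Functor.const I).obj Y where
  app i := pullback.fst (z i) (z i)
  naturality i j φ := by
    rw [sqDiag_map_fst]
    exact (Category.comp_id _).symm

/-- the diagonal cone -/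
noncomputable def sqCone : Cone (sqDiag z hz) where
  pt := Y
  π :=
    { app i := pullback.diagonal (z i)
      naturality i j φ := by
        change 𝟙 Y ≫ pullback.diagonal (z j) = pullback.diagonal (z i) ≫ pullback.map (z i) (z i) (z j) (z j)
          (𝟙 _) (𝟙 _) (D.map φ) (by rw [hz, Category.id_comp]) (by rw [hz, Category.id_comp])
        apply pullback.hom_ext <;> simp }

omit [HasPullbacks C] in
theorem fst_eq_of_isConnected [IsCofiltered I] {T : C} (a : I → (T ⟶ Y))
    (h : ∀ {i j : I} (_ : i ⟶ j), a i = a j) (i j : I) : a i = a j := by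
  rw [← h (IsCofiltered.minToLeft i j), h (IsCofiltered.minToRight i j)]

/-- The diagonal cone is a limit when the maps `z i` are jointly monic. -/
noncomputable def isLimitSqCone [IsCofiltered I]
    (hmono : ∀ {T : C} (a b : T ⟶ Y), (∀ i, a ≫ z i = b ≫ z i) → a = b) : IsLimit (sqCone z hz) := by
  have i₀ : I := IsCofiltered.nonempty.some
  have key : ∀ t : Cone (sqDiag z hz), ∀ i, (t.π.app i ≫ pullback.fst (z i) (z i) =
      t.π.app i₀ ≫ pullback.fst (z i₀) (z i₀)) ∧ (t.π.app i ≫ pullback.snd (z i) (z i) =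
      t.π.app i₀ ≫ pullback.snd (z i₀) (z i₀)) := fun t i =>
    ⟨fst_eq_of_isConnected (fun i => t.π.app i ≫ pullback.fst (z i) (z i)) (fun {i j} φ => by
      change t.π.app i ≫ pullback.fst (z i) (z i) = t.π.app j ≫ pullback.fst (z j) (z j)
      rw [← t.w φ, Category.assoc, sqDiag_map_fst]) i i₀,
    fst_eq_of_isConnected (fun i => t.π.app i ≫ pullback.snd (z i) (z i)) (fun {i j} φ => by
      change t.π.app i ≫ pullback.snd (z i) (z i) = t.π.app j ≫ pullback.snd (z j) (z j)
      rw [← t.w φ, Category.assoc, sqDiag_map_snd]) i i₀⟩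
  have key2 : ∀ t : Cone (sqDiag z hz), t.π.app i₀ ≫ pullback.fst (z i₀) (z i₀) =
      t.π.app i₀ ≫ pullback.snd (z i₀) (z i₀) := fun t => hmono _ _ fun i => by
    rw [← (key t i).1, ← (key t i).2, Category.assoc, Category.assoc, pullback.condition]
  refine
    { lift := fun t => t.π.app i₀ ≫ pullback.fst (z i₀) (z i₀)
      fac := fun t i => ?_
      uniq := fun t m hm => ?_ }
  · change (t.π.app i₀ ≫ pullback.fst (z i₀) (z i₀)) ≫ pullback.diagonal (z i) = t.π.app i
    apply pullback.hom_ext
    · rw [Category.assoc, pullback.diagonal_fst, Category.comp_id, (key t i).1]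
    · rw [Category.assoc, pullback.diagonal_snd, Category.comp_id, (key t i).2, key2]
  · have := hm i₀
    change m ≫ pullback.diagonal (z i₀) = _ at this
    rw [← this, Category.assoc, pullback.diagonal_fst, Category.comp_id]

end

theorem mono_of_isIso_diagonal {C : Type*} [Category C] [HasPullbacks C] {X Y : C} (f : X ⟶ Y)
    [IsIso (pullback.diagonal f)] : Mono f := by
  constructor
  intro Z a b h
  have h1 : pullback.fst f f = pullback.snd f f := by
    rw [← cancel_epi (pullback.diagonal f), pullback.diagonal_fst, pullback.diagonal_snd]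
  have h2 := pullback.lift_fst a b h
  rw [h1, pullback.lift_snd] at h2
  exact h2.symm

theorem isPullback_map_diag {C : Type*} [Category C] [HasPullbacks C] {X Y Z : C} (f : X ⟶ Y) (g : Y ⟶ Z)
    (h : X ⟶ Z) (e : f ≫ g = h) :
    IsPullback (pullback.fst f f ≫ f) (pullback.map f f h h (𝟙 _) (𝟙 _) g (by rw [e, Category.id_comp])
      (by rw [e, Category.id_comp])) (pullback.diagonal g)
      (pullback.map h h g g f f (𝟙 _) (by rw [e, Category.comp_id]) (by rw [e, Category.comp_id])) := by
  subst e
  exact pullback_map_diagonal_isPullback f f g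

section
variable [QuasiSeparatedSpace S] {I : Type u} [SmallCategory I] [IsCofiltered I]

theorem exists_mono (B : Space S) (D : I ⥤ Sp S) (hD : ∀ i, IsAlgSpace (D.obj i))
    (t : D ⟶ (Functor.const I).obj B.obj)
    (hDa : ∀ (i j : I) (φ : i ⟶ j), IsAffineMor (D.map φ))
    (c : Cone D) (hc : IsLimit c)
    (hqs : ∀ i, IsQuasiSeparatedSp (D.obj i))
    (Y : Space S) (hYqc : IsQuasiCompactSp Y.obj) (y : Y.obj ⟶ c.pt) [Mono y] (i₁ : I)
    (hYB : LocP @LocallyOfFiniteType (y ≫ c.π.app i₁ ≫ t.app i₁)) :
    ∃ i₀ : I, ∀ (i : I) (_ : i ⟶ i₀), Mono (y ≫ c.π.app i) := by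
  let z : ∀ i, Y.obj ⟶ D.obj i := fun i => y ≫ c.π.app i
  have hz : ∀ {i j : I} (φ : i ⟶ j), z i ≫ D.map φ = z j := fun {i j} φ => by
    change (y ≫ c.π.app i) ≫ D.map φ = y ≫ c.π.app j
    rw [Category.assoc, c.w]
  have hB : ∀ i, z i ≫ t.app i = y ≫ c.π.app i₁ ≫ t.app i₁ := by
    intro i
    have h1 : ∀ {i j : I} (_ : i ⟶ j), z i ≫ t.app i = z j ≫ t.app j := fun {i j} φ => by
      have h2 : D.map φ ≫ t.app j = t.app i := (t.naturality φ).trans (Category.comp_id _)
      calc z i ≫ t.app i = z i ≫ D.map φ ≫ t.app j := by rw [h2]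
        _ = (z i ≫ D.map φ) ≫ t.app j := (Category.assoc _ _ _).symm
        _ = z j ≫ t.app j := by rw [hz φ]
    have := fst_eq_of_isConnected (fun i => z i ≫ t.app i) (fun {i j} φ => h1 φ) i i₁
    exact this.trans (Category.assoc _ _ _)
  have hlft : ∀ i, LocP @LocallyOfFiniteType (z i) := fun i =>
    K597.locP_of_comp' K597.etLoc_lft (fun A B C u v h => locallyOfFiniteType_of_comp u v)
      Y.property.hasAtlas (hD i).hasAtlas B.property.hasAtlas (g := t.app i) (by rw [hB i]; exact hYB)
  have hsq : ∀ i, IsAlgSpace (pullback (z i) (z i)) := fun i =>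
    K613.Chart.isAlgSpace_pullback Y.property Y.property (hD i) _ _
  obtain ⟨i₀, hi₀⟩ := Groth.Agent.S10011.result S Y (sqDiag z hz) hsq (sqFst z hz)
    (fun i j φ => by
      have h1 : RepWith @IsClosedImmersion (pullback.diagonal (D.map φ)) :=
        isSeparatedMor_of_isAffineMor (hDa i j φ)
      exact K597.repWith_bc @IsClosedImmersion (isPullback_map_diag (z i) (D.map φ) (z j) (hz φ)) h1)
    (sqCone z hz) (isLimitSqCone z hz (fun a b h => by
      rw [← cancel_mono y]
      exact hc.hom_ext fun i => by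
        rw [Category.assoc, Category.assoc]; exact h i))
    (fun i => by
      have h1 := K596.QC2.isQuasiCompactMor_of_qc_of_qs Y.property (hD i) (z i) hYqc (hqs i)
      exact h1 Y.property hYqc (z i) _ _ (IsPullback.of_hasPullback _ _))
    (fun i => by
      have h1 := K597.locP_bc K597.etLoc_lft (IsPullback.of_hasPullback (z i) (z i)).flip Y.property.hasAtlas
        (hD i).hasAtlas Y.property.hasAtlas (hlft i)
      exact h1) i₁
    (by
      have e : (sqCone z hz).π.app i₁ ≫ (sqFst z hz).app i₁ = 𝟙 Y.obj := pullback.diagonal_fst _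
      rw [e]
      have h1 : IsEtaleMor (𝟙 Y.obj) := fun U φ hφ => by rw [Category.comp_id]; exact hφ
      exact K597.locP_mono (fun _ _ g hg => by
        have : Etale g := hg
        change LocallyOfFinitePresentation g
        infer_instance) (K597.locP_etale_of_isEtaleMor h1))
  refine ⟨i₀, fun i φ => ?_⟩
  have : IsIso (pullback.diagonal (z i)) := hi₀ i φ
  exact mono_of_isIso_diagonal (z i)

end

end K601.EvMono
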