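import Groth.Agent.S10733
import Groth.Agent.CurvSt.K902.SliceMor

/-!
# Weak Chow lemma over an affine scheme `V` over `S`
-/

set_option autoImplicit false
set_option backward.isDefEq.respectTransparency false
universe u

open CategoryTheory CategoryTheory.Limits AlgebraicGeometry Opposite
open AlgSp

namespace K601.RelChow

open K595 K595.ChBase K902.Slice

variable {S : Scheme.{u}}

/-- An algebraic space over `h_V` comes from an algebraic space over `V`. -/
theorem exists_slice {V : Over S} {X : Sp S} (hX : IsAlgSpace X) (p : X ⟶ (yon S).obj V) :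
    ∃ (X₀ : Sp V.left) (_ : IsAlgSpace X₀) (z₀ : X₀ ⟶ (yon V.left).obj (Over.mk (𝟙 V.left)))
      (e : (L V.hom).obj X₀ ≅ X) (j : (L V.hom).obj ((yon V.left).obj (Over.mk (𝟙 V.left))) ≅ (yon S).obj V),
      e.hom ≫ p = (L V.hom).map z₀ ≫ j.hom ∧
      ∀ (T₀ : Over V.left) (m : T₀ ⟶ Over.mk (𝟙 V.left)), yonHom (g := V.hom) T₀ ≫ (L V.hom).map ((yon V.left).map m) ≫
        j.hom = (yon S).map (Over.homMk T₀.hom rfl : (Over.map V.hom).obj T₀ ⟶ V) := by
  let V' : Over V.left := Over.mk (𝟙 V.left)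
  let eV : (Over.map V.hom).obj V' ≅ V := Over.isoMk (Iso.refl _) (by
    change 𝟙 _ ≫ V.hom = 𝟙 _ ≫ V.hom
    rfl)
  let j : (L V.hom).obj ((yon V.left).obj V') ≅ (yon S).obj V :=
    (asIso (yonHom (g := V.hom) V')).symm ≪≫ (yon S).mapIso eV
  obtain ⟨X₀, e, z₀, hz⟩ := exists_lift_obj (g := V.hom) (G := (yon V.left).obj V') (p ≫ j.inv)
  refine ⟨X₀, isAlgSpace_of_L (hX.of_iso e.symm), z₀, e, j, ?_, fun T₀ m => ?_⟩
  · rw [← hz, Category.assoc, Category.assoc, j.inv_hom_id, Category.comp_id]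
  · rw [← Category.assoc, ← yonHom_naturality, Category.assoc]
    change _ ≫ yonHom (g := V.hom) V' ≫ inv (yonHom (g := V.hom) V') ≫ (yon S).map eV.hom = _
    rw [IsIso.hom_inv_id_assoc, ← Functor.map_comp]
    congr 1
    apply Over.OverMorphism.ext
    change m.left ≫ 𝟙 _ = T₀.hom
    exact Over.w m

/-- Weak Chow lemma over an affine scheme over `S`. -/
theorem exists_relChow {V : Over S} (hV : IsAffine V.left) {X : Sp S} (hX : IsAlgSpace X) (p : X ⟶ (yon S).obj V)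
    (hsep : IsSeparatedMor p) (hft : IsFiniteTypeMor p) :
    ∃ (T : Over S) (g : (yon S).obj T ⟶ X) (t : T ⟶ V), g ≫ p = (yon S).map t ∧
      RelProj.IsHQuasiProjective t.left ∧ IsProperMor g ∧ IsSurjectiveMor g := by
  obtain ⟨X₀, hX₀, z₀, e, j, hj, hj'⟩ := exists_slice hX p
  have sq : IsPullback e.hom ((L V.hom).map z₀) p j.hom := IsPullback.of_horiz_isIso ⟨hj⟩
  have h1 : IsSeparatedMor z₀ := (isSeparatedMor_L_iff (g := V.hom) z₀).1
    (K595.DiagRel.isSeparatedMor_isStableUnderBaseChange.of_isPullback sq hsep)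
  have h2 : IsFiniteTypeMor z₀ := (isFiniteTypeMor_L_iff (g := V.hom) z₀).1
    ⟨K597.locP_bc K597.etLoc_lft sq hX.hasAtlas (IsAlgSpace.yon_obj V).hasAtlas
      (isAlgSpace_L (IsAlgSpace.yon_obj _)).hasAtlas hft.1, K596.QC.isQuasiCompactMor_of_isPullback sq hft.2⟩
  obtain ⟨T₀, g₀, hq, hp, hs⟩ := Groth.Agent.S10733.result (S := V.left) ⟨X₀, hX₀⟩ z₀ h1 h2
  let gT : (yon S).obj ((Over.map V.hom).obj T₀) ⟶ X := yonHom (g := V.hom) T₀ ≫ (L V.hom).map g₀ ≫ e.hom
  have sq2 : IsPullback (yonHom (g := V.hom) T₀) gT ((L V.hom).map g₀) e.inv := IsPullback.of_horiz_isIso ⟨by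
    change _ = (yonHom (g := V.hom) T₀ ≫ (L V.hom).map g₀ ≫ e.hom) ≫ e.inv
    rw [Category.assoc, Category.assoc, e.hom_inv_id, Category.comp_id]⟩
  refine ⟨(Over.map V.hom).obj T₀, gT, Over.homMk T₀.hom rfl, ?_, hq, ?_, ?_⟩
  · obtain ⟨m, hm⟩ := (yon V.left).map_surjective (g₀ ≫ z₀)
    rw [← hj' T₀ m, hm]
    change (yonHom (g := V.hom) T₀ ≫ (L V.hom).map g₀ ≫ e.hom) ≫ p = _
    rw [Category.assoc, Category.assoc, hj, Functor.map_comp, Category.assoc]
  · exact K597.Proper.isProperMor_of_isPullback (isAlgSpace_L (IsAlgSpace.yon_obj _)) (isAlgSpace_L hX₀) hX sq2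
      ((isProperMor_L_iff (g := V.hom) g₀).2 hp)
  · intro x
    obtain ⟨x₀, hx₀⟩ := lpt_surjective V.hom X₀ (Points.map e.inv x)
    obtain ⟨y₀, hy₀⟩ := hs x₀
    refine ⟨Points.map (inv (yonHom (g := V.hom) T₀)) (lpt V.hom _ y₀), ?_⟩
    change Points.map (yonHom (g := V.hom) T₀ ≫ (L V.hom).map g₀ ≫ e.hom) _ = x
    rw [← Points.map_comp, IsIso.inv_hom_id_assoc, Points.map_comp, map_lpt, hy₀, hx₀, ← Points.map_comp,
      e.inv_hom_id, Points.map_id]

end K601.RelChow
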