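import Groth.Agent.AlgSp.K601.RelAff
import Groth.Agent.AlgSp.K597.ProperSub
import Groth.Agent.AlgSp.K600.LimSpace
import Groth.Agent.AlgSp.K601.RelChow

/-!
# Relative limits of algebraic spaces: proper morphisms (S10023)
-/

set_option autoImplicit false
set_option backward.isDefEq.respectTransparency false
universe u

open CategoryTheory CategoryTheory.Limits AlgebraicGeometry Opposite
open AlgSp

namespace K601.RelProper

open K601.RelChart K601.RelDesc K601.RelRep K601.RelAff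

variable {S : Scheme.{u}}

/-- base change of a cover by a scheme -/
theorem exists_bc_cover {X XW : Sp S} {Z V₀ W : Over S} {p₀ : X ⟶ (yon S).obj V₀} {g : (yon S).obj Z ⟶ X} {m : Z ⟶ V₀}
    (hm : (yon S).map m = g ≫ p₀) {r : W ⟶ V₀} {ℓ : XW ⟶ X} {xW : XW ⟶ (yon S).obj W}
    (sq : IsPullback ℓ xW p₀ ((yon S).map r)) :
    ∃ t : (yon S).obj (pullback m r) ⟶ XW, t ≫ xW = (yon S).map (pullback.snd m r) ∧
      IsPullback ((yon S).map (pullback.fst m r)) t g ℓ := by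
  have h1 : IsPullback ((yon S).map (pullback.fst m r)) ((yon S).map (pullback.snd m r)) (g ≫ p₀)
      ((yon S).map r) := by
    rw [← hm]
    exact (IsPullback.of_hasPullback m r).map (yon S)
  have h2 : ((yon S).map (pullback.fst m r) ≫ g) ≫ p₀ = (yon S).map (pullback.snd m r) ≫ (yon S).map r := by
    rw [Category.assoc, h1.w]
  refine ⟨sq.lift _ _ h2, sq.lift_snd _ _ _, ?_⟩
  exact IsPullback.of_bot (by rw [sq.lift_snd]; exact h1) (sq.lift_fst _ _ _).symm sq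

theorem isProper_left_iff {Z W : Over S} (m : Z ⟶ W) : IsProperMor ((yon S).map m) ↔ IsProper m.left := by
  rw [K597.Proper.isProperMor_iff_repWith (IsAlgSpace.yon_obj W) (IsAlgSpace.representable_from_yon
    (IsAlgSpace.yon_obj W) _), repWith_yon_map_iff]

theorem quasiSeparatedSpace_left [QuasiSeparatedSpace S] {Z : Over S} (h : IsQuasiSeparatedSp ((yon S).obj Z)) :
    QuasiSeparatedSpace Z.left := by
  have h1 : QuasiCompact (pullback.diagonal Z.hom) := (repWith_diag_yon_iff @QuasiCompact Z).1 h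
  have : QuasiSeparated Z.hom := ⟨h1⟩
  exact quasiSeparatedSpace_of_quasiSeparated Z.hom

section main

variable [QuasiSeparatedSpace S] {I : Type u} [SmallCategory I] [IsCofiltered I] {D : I ⥤ Sp S}
  (hD : ∀ i, IsAlgSpace (D.obj i))
  (hDa : ∀ (i j : I) (φ : i ⟶ j), IsAffineMor (D.map φ)) {c : Cone D} (hc : IsLimit c)
  {i₀ : I} {X₀ Y₀ : Sp S} (hX₀ : IsAlgSpace X₀) (hY₀ : IsAlgSpace Y₀) (f₀ : X₀ ⟶ Y₀) (b₀ : Y₀ ⟶ D.obj i₀)
  (hXqc : IsQuasiCompactSp X₀) (hXqs : IsQuasiSeparatedSp X₀) (hYqc : IsQuasiCompactSp Y₀)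
  (hYqs : IsQuasiSeparatedSp Y₀)
  {X Y : Sp S} (hXa : IsAlgSpace X) (hYa : IsAlgSpace Y)
  {f : X ⟶ Y} {pY : Y ⟶ Y₀} {qY : Y ⟶ c.pt} (hY : IsPullback pY qY b₀ (c.π.app i₀)) {pX : X ⟶ X₀}
  (hX : IsPullback pX f f₀ pY)
  (hcov : ∀ {V : Over S}, IsAffine V.left → ∀ v : (yon S).obj V ⟶ Y₀, IsAlgSpace (pullback f₀ v) →
    IsQuasiCompactSp (pullback f₀ v) → IsQuasiSeparatedSp (pullback f₀ v) →
    ∃ (Z : Over S) (g : (yon S).obj Z ⟶ pullback f₀ v), IsProperMor g ∧ IsSurjectiveMor g)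

include hD hDa hc hX₀ hY₀ hXqc hXqs hYqc hYqs hY hX hcov hXa hYa in
theorem exists_ev_proper (h₀ : LocP @LocallyOfFiniteType f₀) (hf : IsProperMor f) :
    ∃ (i : I) (φ : i ⟶ i₀), Ev IsProperMor D φ f₀ b₀ := by
  obtain ⟨V₀, v, hV₀, hv, hvs⟩ := K609.QC.exists_affine_chart hYqc
  -- `X₀' = X₀ ×_{Y₀} V₀`
  let X₀' : Sp S := pullback f₀ v
  have sq₀ : IsPullback (pullback.fst f₀ v) (pullback.snd f₀ v) f₀ v := IsPullback.of_hasPullback f₀ v
  have hX₀' : IsAlgSpace X₀' := K613.Chart.isAlgSpace_pullback hX₀ (IsAlgSpace.yon_obj V₀) hY₀ f₀ v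
  have hX₀'c : IsQuasiCompactSp X₀' := K596.QC2.isQuasiCompactMor_of_qc_of_qs hX₀ hY₀ f₀ hXqc hYqs
    (IsAlgSpace.yon_obj V₀) (K596.QC.isQuasiCompactSp_yon V₀) v _ _ sq₀
  have hqcc := quasiCompact_comp_stable.{u}
  have hX₀'s : IsQuasiSeparatedSp X₀' := K596.QC2.repWith_diag_of_isPullback hXqs (isQuasiSeparatedSp_yon hV₀) sq₀
  obtain ⟨Z, g, hg, hgs⟩ := hcov hV₀ v hX₀' hX₀'c hX₀'s
  obtain ⟨m, hm⟩ := (yon S).map_surjective (g ≫ pullback.snd f₀ v)
  have hft₀ : LocP @LocallyOfFiniteType (pullback.snd f₀ v) :=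
    K597.locP_bc K597.etLoc_lft sq₀ hX₀.hasAtlas hY₀.hasAtlas (IsAlgSpace.yon_obj V₀).hasAtlas h₀
  have hmft : LocallyOfFiniteType m.left := by
    have h1 : LocP @LocallyOfFiniteType ((yon S).map m) := by
      rw [hm]
      exact K597.locP_comp K597.etLoc_lft (IsAlgSpace.yon_obj Z).hasAtlas hX₀'.hasAtlas
        (IsAlgSpace.yon_obj V₀).hasAtlas hg.2.1.1 hft₀
    exact (repWith_yon_map_iff _ _).1 (K597.repWith_of_locP K597.etLoc_lft (IsAlgSpace.yon_obj V₀).hasAtlas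
      (IsAlgSpace.representable_from_yon (IsAlgSpace.yon_obj V₀) _) h1)
  have hZc : CompactSpace Z.left := by
    have h1 : IsQuasiCompactSp ((yon S).obj Z) := hg.2.1.2 hX₀' hX₀'c (𝟙 _) (𝟙 _) g
      (IsPullback.of_horiz_isIso ⟨by simp⟩)
    exact K596.QC.compactSpace_of_isQuasiCompactSp h1
  have hZs : QuasiSeparatedSpace Z.left := by
    refine quasiSeparatedSpace_left (repWith_diag_of_diagonal (f := g) hX₀'s (K597.repWith_mono ?_ hg.1))
    intro A B g hg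
    have : IsClosedImmersion g := hg
    change QuasiCompact g
    infer_instance
  obtain ⟨i, φ, hi⟩ := exists_stageN (N := StDesc.QCQS) (fun f _ h => h.of_isIso f) StDesc.stageDescQ_proper hDa hc i₀
    ⟨hZc, hZs⟩ hV₀ (v ≫ b₀) m hmft (fun V a b sq => by
      obtain ⟨w, hw, -⟩ := exists_chart_target hY sq
      have s1 : IsPullback (pullback.fst f w) (pullback.snd f w) f w := IsPullback.of_hasPullback f w
      have hXV : IsAlgSpace (pullback f w) := K613.Chart.isAlgSpace_pullback hXa (IsAlgSpace.yon_obj V) hYa f w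
      have hp : IsProperMor (pullback.snd f w) :=
        K597.Proper.isProperMor_of_isPullback hXa hYa (IsAlgSpace.yon_obj V) s1 hf
      have s2 := s1.paste_horiz hX
      rw [hw.w] at s2
      have e2 : (pullback.fst f w ≫ pX) ≫ f₀ = (pullback.snd f w ≫ (yon S).map b) ≫ v := by
        rw [s2.w, Category.assoc]
      have s3 : IsPullback (sq₀.lift _ _ e2) (pullback.snd f w) (pullback.snd f₀ v) ((yon S).map b) :=
        IsPullback.of_right (by rw [sq₀.lift_fst]; exact s2) (sq₀.lift_snd _ _ _) sq₀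
      obtain ⟨t, ht, s4⟩ := exists_bc_cover hm s3
      rw [← isProper_left_iff, ← ht]
      exact K597.ProperSub.isProperMor_comp (IsAlgSpace.yon_obj _) hXV (IsAlgSpace.yon_obj V)
        (K597.Proper.isProperMor_of_isPullback (IsAlgSpace.yon_obj Z) hX₀' hXV s4 hg) hp)
  refine ⟨i, φ, fun j ψ Xj Yj fj pYj qYj h1 pXj h2 => ?_⟩
  have hYj : IsAlgSpace Yj := isAlgSpace_target hY₀ hD h1
  have hXj : IsAlgSpace Xj := isAlgSpace_source hX₀ hY₀ hD h1 h2
  obtain ⟨W, r, e, sq, -⟩ := hDa _ _ (ψ ≫ φ) hV₀ (v ≫ b₀)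
  obtain ⟨w, hw, -⟩ := exists_chart_target h1 sq
  have s1 : IsPullback (pullback.fst fj w) (pullback.snd fj w) fj w := IsPullback.of_hasPullback fj w
  have hXW : IsAlgSpace (pullback fj w) := K613.Chart.isAlgSpace_pullback hXj (IsAlgSpace.yon_obj W) hYj fj w
  have s2 := s1.paste_horiz h2
  rw [hw.w] at s2
  have e2 : (pullback.fst fj w ≫ pXj) ≫ f₀ = (pullback.snd fj w ≫ (yon S).map r) ≫ v := by
    rw [s2.w, Category.assoc]
  have s3 : IsPullback (sq₀.lift _ _ e2) (pullback.snd fj w) (pullback.snd f₀ v) ((yon S).map r) :=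
    IsPullback.of_right (by rw [sq₀.lift_fst]; exact s2) (sq₀.lift_snd _ _ _) sq₀
  obtain ⟨t, ht, s4⟩ := exists_bc_cover hm s3
  have ht1 : IsProperMor t := K597.Proper.isProperMor_of_isPullback (IsAlgSpace.yon_obj Z) hX₀' hXW s4 hg
  have ht2 : Function.Surjective (Points.map t) := fun x => by
    obtain ⟨z, hz⟩ := hgs (Points.map (sq₀.lift _ _ e2) x)
    obtain ⟨y, -, hy⟩ := K596.Pts.exists_of_isPullback s4 z x hz
    exact ⟨y, hy⟩
  have hx : IsProperMor (pullback.snd fj w) := by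
    refine K597.ProperSub.isProperMor_of_surjective (Z := ⟨_, IsAlgSpace.yon_obj (pullback m r)⟩) (W := ⟨_, hXW⟩)
      (B := ⟨_, IsAlgSpace.yon_obj W⟩) ⟨t⟩ ⟨pullback.snd fj w⟩ ht2 ht1.2.2 ?_ ?_
    · exact K597.locP_bc K597.etLoc_lft s3 hX₀'.hasAtlas (IsAlgSpace.yon_obj V₀).hasAtlas
        (IsAlgSpace.yon_obj W).hasAtlas hft₀
    · change IsProperMor (t ≫ pullback.snd fj w)
      rw [ht, isProper_left_iff]
      exact hi j ψ W e r sq
  exact K597.Proper.isProperMor_of_cover hXj hYj (K597.repWith_bc' _ hw hv) (K597.repWith_bc' _ hw hvs) s1 hx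

end main

section main

variable [QuasiSeparatedSpace S] {I : Type u} [SmallCategory I] [IsCofiltered I] {D : I ⥤ Sp S}
  (hD : ∀ i, IsAlgSpace (D.obj i))
  (hDa : ∀ (i j : I) (φ : i ⟶ j), IsAffineMor (D.map φ)) {c : Cone D} (hc : IsLimit c)
  {i₀ : I} {X₀ Y₀ : Sp S} (hX₀ : IsAlgSpace X₀) (hY₀ : IsAlgSpace Y₀) (f₀ : X₀ ⟶ Y₀) (b₀ : Y₀ ⟶ D.obj i₀)
  (hXqc : IsQuasiCompactSp X₀) (hXqs : IsQuasiSeparatedSp X₀) (hYqc : IsQuasiCompactSp Y₀)
  (hYqs : IsQuasiSeparatedSp Y₀)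
  {X Y : Sp S}
  {f : X ⟶ Y} {pY : Y ⟶ Y₀} {qY : Y ⟶ c.pt} (hY : IsPullback pY qY b₀ (c.π.app i₀)) {pX : X ⟶ X₀}
  (hX : IsPullback pX f f₀ pY)

include hDa hc hY in
omit [QuasiSeparatedSpace S] in
theorem isAffineMor_pY : IsAffineMor pY := isAffineMor_bc hY.flip (K600.LimAff.isAffineMor_π hDa hc i₀)

include hD hDa hc hX₀ hY₀ hXqc hXqs hYqc hYqs hY hX in
/-- the case of a separated morphism `f₀` -/
theorem exists_ev_proper_of_separated (h₀ : LocP @LocallyOfFiniteType f₀) (hs : IsSeparatedMor f₀)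
    (hf : IsProperMor f) : ∃ (i : I) (φ : i ⟶ i₀), Ev IsProperMor D φ f₀ b₀ := by
  have hpY := isAffineMor_pY hDa hc b₀ hY
  have hpX : IsAffineMor pX := isAffineMor_bc hX.flip hpY
  refine exists_ev_proper hD hDa hc hX₀ hY₀ f₀ b₀ hXqc hXqs hYqc hYqs
    (K600.LimSpace.isAlgSpace_of_isAffineMor hpX hX₀) (K600.LimSpace.isAlgSpace_of_isAffineMor hpY hY₀) hY hX
    (fun {V} hV v h1 h2 h3 => ?_) h₀ hf
  have sq := IsPullback.of_hasPullback f₀ v
  obtain ⟨T, g, -, -, -, hg, hgs⟩ := RelChow.exists_relChow hV h1 (pullback.snd f₀ v)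
    (K595.DiagRel.isSeparatedMor_isStableUnderBaseChange.of_isPullback sq hs)
    ⟨K597.locP_bc K597.etLoc_lft sq hX₀.hasAtlas hY₀.hasAtlas (IsAlgSpace.yon_obj V).hasAtlas h₀,
      K596.QC2.isQuasiCompactMor_of_qc_of_qs h1 (IsAlgSpace.yon_obj V) _ h2 (isQuasiSeparatedSp_yon hV)⟩
  exact ⟨T, g, hg, hgs⟩

include hD hDa hc hX₀ hY₀ hXqc hXqs hYqc hYqs hY hX in
theorem exists_ev_proper' (h₀ : LocP @LocallyOfFiniteType f₀) (hf : IsProperMor f) :
    ∃ (i : I) (φ : i ⟶ i₀), Ev IsProperMor D φ f₀ b₀ := by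
  obtain ⟨i, φ, h⟩ := exists_ev_separated hDa hc hX₀ hY₀ f₀ b₀ hXqc hXqs hYqs hY hX hf.1
  -- stage `i`
  have sY : IsPullback (pullback.fst b₀ (D.map φ)) (pullback.snd b₀ (D.map φ)) b₀ (D.map φ) :=
    IsPullback.of_hasPullback _ _
  have sX : IsPullback (pullback.fst f₀ (pullback.fst b₀ (D.map φ)))
      (pullback.snd f₀ (pullback.fst b₀ (D.map φ))) f₀ (pullback.fst b₀ (D.map φ)) :=
    IsPullback.of_hasPullback _ _
  have hYi : IsAlgSpace (pullback b₀ (D.map φ)) := isAlgSpace_target hY₀ hD sY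
  have hXi : IsAlgSpace (pullback f₀ (pullback.fst b₀ (D.map φ))) := isAlgSpace_source hX₀ hY₀ hD sY sX
  have hfi : IsSeparatedMor (pullback.snd f₀ (pullback.fst b₀ (D.map φ))) :=
    h i (𝟙 i) _ _ _ _ _ (by rw [Category.id_comp]; exact sY) _ sX
  have hY' : IsPullback pY qY b₀ (c.π.app i ≫ D.map φ) := by rw [c.w]; exact hY
  obtain ⟨p', hp', hp⟩ := exists_restart_target hY' sY
  obtain ⟨p'', hp''⟩ := exists_restart_source hX sX hp
  have hYa : IsAffineMor (pullback.fst b₀ (D.map φ)) := isAffineMor_bc sY.flip (hDa _ _ φ)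
  have hXa : IsAffineMor (pullback.fst f₀ (pullback.fst b₀ (D.map φ))) := isAffineMor_bc sX.flip hYa
  obtain ⟨j, χ, hj⟩ := exists_ev_proper_of_separated hD hDa hc hXi hYi (pullback.snd f₀ (pullback.fst b₀ (D.map φ)))
    (pullback.snd b₀ (D.map φ)) (isQuasiCompactSp_of_affine hXa hXqc) (isQuasiSeparatedSp_of_affine hXa hXqs)
    (isQuasiCompactSp_of_affine hYa hYqc) (isQuasiSeparatedSp_of_affine hYa hYqs) hp' hp''
    (K597.locP_bc K597.etLoc_lft sX hX₀.hasAtlas hY₀.hasAtlas hYi.hasAtlas h₀) hfi hf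
  exact ⟨j, χ ≫ φ, Ev.restart sY sX hj⟩

end main

end K601.RelProper
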