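import Groth.Agent.AlgSp.K601.PDSheaf
import Groth.Agent.AlgSp.K601.RelProper

/-!
# Degree zero proper base change for etale algebraic spaces over algebraic spaces
-/

set_option autoImplicit false
set_option backward.isDefEq.respectTransparency false
universe u

open CategoryTheory CategoryTheory.Limits AlgebraicGeometry Opposite
open AlgSp

namespace K601.PD

open K635.EtTop

variable {S : Scheme.{u}}

/-- `a` and `b` agree over the part `V ⟶ W` of the base. -/
def AgreeOver {Z W V U : Sp S} (g : Z ⟶ W) (a b : Z ⟶ U) (j : V ⟶ W) : Prop :=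
  ∀ {T : Sp S} (t : T ⟶ Z) (x : T ⟶ V), t ≫ g = x ≫ j → t ≫ a = t ≫ b

theorem AgreeOver.precomp {Z W V V' U : Sp S} {g : Z ⟶ W} {a b : Z ⟶ U} {j : V ⟶ W} (h : AgreeOver g a b j)
    (k : V' ⟶ V) : AgreeOver g a b (k ≫ j) := fun t x hx => h t (x ≫ k) (by rw [hx, Category.assoc])

theorem isClosedMap_of_univ {F G : Sp S} (hG : IsAlgSpace G) {f : F ⟶ G} (h : IsUnivClosedMor f) :
    IsClosedMap (Points.map f) := h hG (𝟙 G) (𝟙 F) f (IsPullback.of_vert_isIso ⟨by rw [Category.comp_id, Category.id_comp]⟩).flip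

/-- **Spreading out of equality**: two maps into an etale space which agree over a part of the base agree over an open
neighbourhood, when the source is universally closed over the base. -/
theorem spread {Z W U X P : Sp S} (hZ : IsAlgSpace Z) (hW : IsAlgSpace W) (hU : IsAlgSpace U) (hX : IsAlgSpace X)
    {g : Z ⟶ W} (hg : IsUnivClosedMor g) {u : U ⟶ X} (hu : IsEtaleMor u) {a b : Z ⟶ U} (w : a ≫ u = b ≫ u)
    {l : P ⟶ W} (h : AgreeOver g a b l) :
    ∃ (W' : Sp S) (j : W' ⟶ W) (m : P ⟶ W'), RepWith @IsOpenImmersion j ∧ m ≫ j = l ∧ AgreeOver g a b j := by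
  let A : Set (Points Z) := {x | EqAt a b x}
  have hA : IsOpen A := isOpen_eqAt hZ hU hX hu a b w
  let C : Set (Points W) := Points.map g '' Aᶜ
  have hC : IsClosed C := isClosedMap_of_univ hW hg _ hA.isClosed_compl
  have hj := K610.Sub.repWith_openPred (X := W) hC.isOpen_compl
  have hr := K610.Sub.range_openPred (X := W) Cᶜ
  obtain ⟨m, hm⟩ := exists_lift_of_range hj l (fun x => by
    rw [hr]
    rintro ⟨z, hz, hzx⟩
    obtain ⟨y, hy1, hy2⟩ := K616.Refine.exists_point_of_isPullback (IsPullback.of_hasPullback g l) z x hzx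
    refine hz ⟨_, pullback.fst g l, y, hy1, h _ _ pullback.condition⟩)
  refine ⟨_, _, m, hj, hm, fun {T} t x hx => ?_⟩
  refine eq_of_points hU hX hu _ _ (by rw [Category.assoc, Category.assoc, w]) fun τ => ?_
  rw [eqAt_comp_iff]
  by_contra hc
  have h1 : Points.map g (Points.map t τ) ∈ C := ⟨_, hc, rfl⟩
  have h2 : Points.map g (Points.map t τ) ∈ Cᶜ := by
    rw [← hr, ← Points.map_comp, hx, Points.map_comp]
    exact ⟨_, rfl⟩
  exact h2 h1

/-- A section of `u : U ⟶ X` over `X ×_Y W`. -/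
structure Sec {X Y U W : Sp S} (f : X ⟶ Y) (u : U ⟶ X) (e : W ⟶ Y) where
  /-- the map -/
  s : pullback f e ⟶ U
  s_u : s ≫ u = pullback.fst f e

namespace Sec

variable {X Y U W : Sp S} {f : X ⟶ Y} {u : U ⟶ X} {e : W ⟶ Y}

/-- evaluation of a section -/
noncomputable def ev (σ : Sec f u e) {T : Sp S} (x : T ⟶ X) (w : T ⟶ W) (h : x ≫ f = w ≫ e) : T ⟶ U :=
  pullback.lift x w h ≫ σ.s

@[reassoc (attr := simp)]
theorem ev_u (σ : Sec f u e) {T : Sp S} (x : T ⟶ X) (w : T ⟶ W) (h : x ≫ f = w ≫ e) : σ.ev x w h ≫ u = x := by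
  rw [ev, Category.assoc, σ.s_u, pullback.lift_fst]

theorem comp_ev (σ : Sec f u e) {T T' : Sp S} (t : T' ⟶ T) (x : T ⟶ X) (w : T ⟶ W) (h : x ≫ f = w ≫ e) :
    t ≫ σ.ev x w h = σ.ev (t ≫ x) (t ≫ w) (by rw [Category.assoc, h, Category.assoc]) := by
  rw [ev, ev, ← Category.assoc]
  congr 1
  apply pullback.hom_ext
  · rw [Category.assoc, pullback.lift_fst, pullback.lift_fst]
  · rw [Category.assoc, pullback.lift_snd, pullback.lift_snd]

theorem ev_congr (σ : Sec f u e) {T : Sp S} {x x' : T ⟶ X} {w w' : T ⟶ W} (hx : x = x') (hw : w = w')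
    (h : x ≫ f = w ≫ e) (h' : x' ≫ f = w' ≫ e) : σ.ev x w h = σ.ev x' w' h' := by
  subst hx hw; rfl

theorem comp_s (σ : Sec f u e) {T : Sp S} (t : T ⟶ pullback f e) :
    t ≫ σ.s = σ.ev (t ≫ pullback.fst f e) (t ≫ pullback.snd f e) (by
      rw [Category.assoc, pullback.condition, Category.assoc]) := by
  rw [ev]
  congr 1
  apply pullback.hom_ext
  · rw [pullback.lift_fst]
  · rw [pullback.lift_snd]

/-- restriction of a section -/
noncomputable def res (σ : Sec f u e) {W' : Sp S} (j : W' ⟶ W) : Sec f u (j ≫ e) where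
  s := σ.ev (pullback.fst f (j ≫ e)) (pullback.snd f (j ≫ e) ≫ j) (by rw [pullback.condition, Category.assoc])
  s_u := σ.ev_u _ _ _

theorem res_ev (σ : Sec f u e) {W' : Sp S} (j : W' ⟶ W) {T : Sp S} (x : T ⟶ X) (w : T ⟶ W') (h : x ≫ f = w ≫ j ≫ e) :
    (σ.res j).ev x w h = σ.ev x (w ≫ j) (by rw [h, Category.assoc]) := by
  rw [ev, res, comp_ev]
  apply ev_congr
  · rw [pullback.lift_fst]
  · rw [pullback.lift_snd_assoc]

end Sec

/-- **Degree zero proper base change for etale algebraic spaces**: a section of `U` over the geometric fibre of a proper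
morphism extends to an etale neighbourhood. -/
theorem exists_ext_sp {Y : Over S} (hY : IsAffine Y.left) {X : Sp S} (hX : IsAlgSpace X) {f : X ⟶ (yon S).obj Y}
    (hf : IsProperMor f) {U : Sp S} (hU : IsAlgSpace U) {u : U ⟶ X} (hu : IsEtaleMor u) {Ω : Type u} [Field Ω]
    [IsSepClosed Ω] (ξ : Spec (.of Ω) ⟶ Y.left)
    (σ₀ : Sec f u ((yon S).map (Over.homMk ξ rfl : ptOv Y ξ ⟶ Y))) :
    ∃ (W : Sp S) (e : W ⟶ (yon S).obj Y) (l : (yon S).obj (ptOv Y ξ) ⟶ W)
      (hl : l ≫ e = (yon S).map (Over.homMk ξ rfl : ptOv Y ξ ⟶ Y)) (σ : Sec f u e), IsAlgSpace W ∧ IsEtaleMor e ∧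
      ∀ {T : Sp S} (x : T ⟶ X) (z : T ⟶ (yon S).obj (ptOv Y ξ)) (h : x ≫ f = z ≫ (yon S).map (Over.homMk ξ rfl)),
        σ.ev x (z ≫ l) (by rw [Category.assoc, hl, h]) = σ₀.ev x z h := by
  have hYs := IsAlgSpace.yon_obj (S := S) Y
  obtain ⟨T', g, t, hgt, -, hg, hgs⟩ := K601.RelChow.exists_relChow hY hX f hf.1 hf.2.1
  have hT' := IsAlgSpace.yon_obj (S := S) T'
  have ht : IsProper t.left := (K601.RelProper.isProper_left_iff t).1 (by
    rw [← hgt]
    exact K597.ProperSub.isProperMor_comp hT' hX hYs hg hf)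
  -- base change of `U`
  let U' : Sp S := pullback u g
  have hU' : IsAlgSpace U' := K613.Chart.isAlgSpace_pullback hU hT' hX u g
  have hu' : IsEtaleMor (pullback.snd u g) :=
    K610.EtaleMor.isEtaleMor_baseChange hU hU' hT' (IsPullback.of_hasPullback u g).flip hu
  -- the fibre
  let ξ' : ptOv Y ξ ⟶ Y := Over.homMk ξ rfl
  have sqZ := IsPullback.of_hasPullback t ξ'
  have hxz : ((yon S).map (pullback.fst t ξ') ≫ g) ≫ f = (yon S).map (pullback.snd t ξ') ≫ (yon S).map ξ' := by
    rw [Category.assoc, hgt, ← Functor.map_comp, ← Functor.map_comp, pullback.condition]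
  let s₀ : (yon S).obj (pullback t ξ') ⟶ U' := pullback.lift (σ₀.ev _ _ hxz) ((yon S).map (pullback.fst t ξ'))
    (by rw [σ₀.ev_u])
  obtain ⟨W, e, l, hl, XW, a, b, sq, t', het, ht'u, ht's⟩ := exists_ext hU' hu' t ht ξ _ _ sqZ s₀
    (pullback.lift_snd _ _ _)
  have hW := IsAlgSpace.yon_obj (S := S) W
  have hXW := IsAlgSpace.yon_obj (S := S) XW
  obtain ⟨b'', hb''⟩ : ∃ b'' : (yon S).obj XW ⟶ U, b'' = t' ≫ pullback.fst u g := ⟨_, rfl⟩
  have hb''u : b'' ≫ u = (yon S).map a ≫ g := by
    rw [hb'', Category.assoc, pullback.condition, ← Category.assoc, ht'u]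
  -- values on the fibre
  have hval : ∀ {T : Sp S} (τ : T ⟶ (yon S).obj XW) (z : T ⟶ (yon S).obj (ptOv Y ξ))
      (h : τ ≫ (yon S).map b = z ≫ (yon S).map l), τ ≫ b'' = σ₀.ev (τ ≫ (yon S).map a ≫ g) z (by
        rw [Category.assoc, Category.assoc, hgt, ← Functor.map_comp, sq.w, Functor.map_comp, ← Category.assoc, h,
          Category.assoc, ← Functor.map_comp, hl]) := by
    intro T τ z h
    have sqy := sq.map (yon S)
    have sqZy := sqZ.map (yon S)
    have hz : (τ ≫ (yon S).map a) ≫ (yon S).map t = z ≫ (yon S).map ξ' := by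
      rw [Category.assoc, sqy.w, ← Category.assoc, h, Category.assoc, ← Functor.map_comp, hl]
    have e1 : τ = sqZy.lift _ _ hz ≫ (yon S).map (sq.lift (pullback.fst t ξ') (pullback.snd t ξ' ≫ l)
        (by rw [sqZ.w, Category.assoc, hl])) := by
      apply sqy.hom_ext
      · rw [Category.assoc, ← Functor.map_comp, sq.lift_fst, sqZy.lift_fst]
      · rw [Category.assoc, ← Functor.map_comp, sq.lift_snd, Functor.map_comp, ← Category.assoc, sqZy.lift_snd, h]
    have e2 : τ ≫ b'' = sqZy.lift _ _ hz ≫ s₀ ≫ pullback.fst u g := by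
      rw [← ht's, hb'']
      conv_lhs => rw [e1]
      simp only [Category.assoc]
    rw [e2, pullback.lift_fst, Sec.comp_ev]
    apply Sec.ev_congr
    · rw [← Category.assoc, sqZy.lift_fst, Category.assoc]
    · rw [sqZy.lift_snd]
  -- the cover of `X ×_Y W`
  have hbe : (yon S).map a ≫ (yon S).map t = (yon S).map b ≫ (yon S).map e := (sq.map (yon S)).w
  have hkw : ((yon S).map a ≫ g) ≫ f = (yon S).map b ≫ (yon S).map e := by rw [Category.assoc, hgt, hbe]
  have key : ∀ {W' : Sp S} (hW' : IsAlgSpace W') (j : W' ⟶ (yon S).obj W) (e₁ : W' ⟶ (yon S).obj Y)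
      (he₁ : j ≫ (yon S).map e = e₁) {A : Sp S} (q : A ⟶ (yon S).obj XW)
      (q' : A ⟶ W') (sqA : IsPullback q q' ((yon S).map b) j) (k : A ⟶ pullback f e₁),
      k ≫ pullback.fst _ _ = q ≫ (yon S).map a ≫ g → k ≫ pullback.snd _ _ = q' →
      IsProperMor k ∧ Function.Surjective (Points.map k) := by
    intro W' hW' j e₁ he₁ A q q' sqA k hk1 hk2
    have o1 : IsPullback (q ≫ (yon S).map a) q' (g ≫ f) e₁ := by
      rw [hgt, ← he₁]
      exact sqA.paste_horiz (sq.map (yon S))
    have o2 : IsPullback (q ≫ (yon S).map a) k g (pullback.fst f e₁) := by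
      refine IsPullback.flip (IsPullback.of_right (h₁₂ := pullback.snd f e₁) (h₂₂ := f) ?_
        (by rw [hk1, Category.assoc]) (IsPullback.of_hasPullback f e₁).flip)
      rw [hk2]
      exact o1.flip
    exact ⟨K597.Proper.isProperMor_of_isPullback hT' hX (K613.Chart.isAlgSpace_pullback hX hW' hYs _ _) o2 hg,
      K596.Pts.surjective_of_isPullback o2 hgs⟩
  obtain ⟨k, hk1, hk2⟩ : ∃ k : (yon S).obj XW ⟶ pullback f ((yon S).map e),
      k ≫ pullback.fst _ _ = (yon S).map a ≫ g ∧ k ≫ pullback.snd _ _ = (yon S).map b :=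
    ⟨pullback.lift _ _ hkw, pullback.lift_fst _ _ _, pullback.lift_snd _ _ _⟩
  obtain ⟨hkp, hks⟩ := key hW (𝟙 _) _ (Category.id_comp _) (𝟙 _) ((yon S).map b)
    (IsPullback.of_horiz_isIso ⟨by rw [Category.comp_id, Category.id_comp]⟩) k
    (by rw [hk1, Category.id_comp]) hk2
  have hPW : IsAlgSpace (pullback f ((yon S).map e)) := K613.Chart.isAlgSpace_pullback hX hW hYs _ _
  have hbp : IsProperMor ((yon S).map b) := K597.Proper.isProperMor_of_isPullback hT' hYs hW (sq.map (yon S))
    ((K601.RelProper.isProper_left_iff t).2 ht)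
  have hZ : IsAlgSpace (pullback k k) := K613.Chart.isAlgSpace_pullback hXW hXW hPW _ _
  have hfp : IsProperMor (pullback.fst k k) :=
    K597.Proper.isProperMor_of_isPullback hXW hPW hXW (IsPullback.of_hasPullback k k).flip hkp
  have hZW : IsProperMor (pullback.fst k k ≫ (yon S).map b) :=
    K597.ProperSub.isProperMor_comp hZ hXW hW hfp hbp
  have hkb : pullback.snd k k ≫ (yon S).map b = pullback.fst k k ≫ (yon S).map b := by
    rw [← hk2, ← Category.assoc, ← Category.assoc, pullback.condition]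
  have hka : pullback.snd k k ≫ (yon S).map a ≫ g = pullback.fst k k ≫ (yon S).map a ≫ g := by
    rw [← hk1, ← Category.assoc, ← Category.assoc, pullback.condition]
  obtain ⟨W', j, m, hj, hm, hag⟩ := spread (a := pullback.fst k k ≫ b'') (b := pullback.snd k k ≫ b'')
    (l := (yon S).map l) hZ hW hU hX hZW.2.2 hu (by
      rw [Category.assoc, Category.assoc, hb''u, hka]) (by
      intro R τ z h
      rw [← Category.assoc, ← Category.assoc, hval (τ ≫ pullback.fst k k) z (by rw [Category.assoc, h]),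
        hval (τ ≫ pullback.snd k k) z (by rw [Category.assoc, hkb, h])]
      apply Sec.ev_congr
      · rw [Category.assoc, Category.assoc, hka]
      · rfl)
  have hjm : Mono j := K610.Factor.mono_of_isOpenImmersion hj
  have hW' : IsAlgSpace W' := K610.Sub.isAlgSpace_of_mono (j := j) (hj := hj.1) hW
  -- descent over `W'`
  have hwA : (pullback.fst ((yon S).map b) j ≫ (yon S).map a ≫ g) ≫ f =
      pullback.snd ((yon S).map b) j ≫ j ≫ (yon S).map e := by
    rw [Category.assoc, hkw, pullback.condition_assoc]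
  obtain ⟨k', hk'1, hk'2⟩ : ∃ k' : pullback ((yon S).map b) j ⟶ pullback f (j ≫ (yon S).map e),
      k' ≫ pullback.fst _ _ = pullback.fst ((yon S).map b) j ≫ (yon S).map a ≫ g ∧
      k' ≫ pullback.snd _ _ = pullback.snd ((yon S).map b) j :=
    ⟨pullback.lift _ _ hwA, pullback.lift_fst _ _ _, pullback.lift_snd _ _ _⟩
  obtain ⟨hk'p, hk's⟩ := key hW' j _ rfl _ _ (IsPullback.of_hasPullback ((yon S).map b) j) k' hk'1 hk'2
  have hPW' : IsAlgSpace (pullback f (j ≫ (yon S).map e)) := K613.Chart.isAlgSpace_pullback hX hW' hYs _ _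
  have hA : IsAlgSpace (pullback ((yon S).map b) j) := K613.Chart.isAlgSpace_pullback hXW hW' hW _ _
  have hpair : ∀ {R : Sp S} (p q : R ⟶ (yon S).obj XW) (x : R ⟶ W'), p ≫ k = q ≫ k →
      p ≫ (yon S).map b = x ≫ j → p ≫ b'' = q ≫ b'' := by
    intro R p q x hpq hx
    have := hag (pullback.lift p q hpq) x (by rw [← Category.assoc, pullback.lift_fst, hx])
    rwa [← Category.assoc, ← Category.assoc, pullback.lift_fst, pullback.lift_snd] at this
  obtain ⟨m', hm'1, hm'2⟩ := desc (v := u) (t := pullback.fst f (j ≫ (yon S).map e)) hPW' hU hX hu hA k' hk'p.2.2 hk's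
    (pullback.fst ((yon S).map b) j ≫ b'') (by rw [Category.assoc, hb''u, hk'1]) (by
      intro R p q hpq
      rw [← Category.assoc, ← Category.assoc]
      refine hpair _ _ (p ≫ pullback.snd _ _) ?_ (by rw [Category.assoc, pullback.condition, Category.assoc])
      apply pullback.hom_ext
      · have h1 := congrArg (· ≫ pullback.fst f (j ≫ (yon S).map e)) hpq
        simp only [Category.assoc, hk'1] at h1
        simp only [Category.assoc, hk1, h1]
      · have h1 := congrArg (· ≫ pullback.snd f (j ≫ (yon S).map e)) hpq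
        simp only [Category.assoc, hk'2] at h1
        simp only [Category.assoc, hk2, pullback.condition]
        rw [← Category.assoc, h1, Category.assoc])
  have hee : IsEtaleMor ((yon S).map e) := (isEtaleMor_yon_map_iff e).2 het
  refine ⟨W', j ≫ (yon S).map e, m, by rw [← Category.assoc, hm, ← Functor.map_comp, hl], ⟨m', hm'1⟩, hW', ?_, ?_⟩
  · intro V φ hφ
    rw [← Category.assoc]
    exact hee _ (K610.EtaleMor.comp_etale hφ (K610.OpenImm.repWith_etale_of_open hj))
  · intro T x z h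
    have hm2 : m ≫ j ≫ (yon S).map e = (yon S).map ξ' := by rw [← Category.assoc, hm, ← Functor.map_comp, hl]
    refine eq_of_cover hU hX hu _ _ (by rw [Sec.ev_u, Sec.ev_u]) (pullback.fst x g)
      (K596.Pts.surjective_of_isPullback (IsPullback.of_hasPullback x g).flip hgs) ?_
    have hα : pullback.snd x g ≫ (yon S).map t = (pullback.fst x g ≫ z ≫ (yon S).map l) ≫ (yon S).map e := by
      rw [← hgt, ← Category.assoc, ← pullback.condition, Category.assoc, h, Category.assoc, Category.assoc,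
        ← Functor.map_comp, hl]
    obtain ⟨α, hα1, hα2⟩ : ∃ α : pullback x g ⟶ (yon S).obj XW, α ≫ (yon S).map a = pullback.snd x g ∧
        α ≫ (yon S).map b = pullback.fst x g ≫ z ≫ (yon S).map l :=
      ⟨(sq.map (yon S)).lift _ _ hα, (sq.map (yon S)).lift_fst _ _ _, (sq.map (yon S)).lift_snd _ _ _⟩
    obtain ⟨β, hβ1, hβ2⟩ : ∃ β : pullback x g ⟶ pullback ((yon S).map b) j,
        β ≫ pullback.fst _ _ = α ∧ β ≫ pullback.snd _ _ = pullback.fst x g ≫ z ≫ m :=
      ⟨pullback.lift α (pullback.fst x g ≫ z ≫ m) (by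
        rw [hα2, Category.assoc, Category.assoc, hm]), pullback.lift_fst _ _ _, pullback.lift_snd _ _ _⟩
    have e1 : pullback.fst x g ≫ (Sec.mk m' hm'1 : Sec f u (j ≫ (yon S).map e)).ev x (z ≫ m)
        (by rw [Category.assoc, hm2, h]) = β ≫ k' ≫ m' := by
      rw [Sec.comp_ev, Sec.ev, ← Category.assoc β k' m']
      congr 1
      apply pullback.hom_ext
      · rw [pullback.lift_fst, Category.assoc, hk'1, ← Category.assoc, hβ1, ← Category.assoc, hα1,
          pullback.condition]
      · rw [pullback.lift_snd, Category.assoc, hk'2, hβ2]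
    rw [e1, hm'2, ← Category.assoc, hβ1, hval α (pullback.fst x g ≫ z) (by rw [hα2, Category.assoc]),
      Sec.comp_ev]
    apply Sec.ev_congr
    · rw [← Category.assoc, hα1, pullback.condition]
    · rfl

end K601.PD
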