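import Groth.Agent.AlgSp.K601.PDExt
import Groth.Agent.AlgSp.K642.EtCov
import Groth.Agent.AlgSp.K594.Atlas

/-!
# Descent data on etale spaces: local existence of compatible sections
-/

set_option autoImplicit false
set_option backward.isDefEq.respectTransparency false
universe u

open CategoryTheory CategoryTheory.Limits AlgebraicGeometry Opposite
open AlgSp

namespace K601.PD

open K635.EtTop

variable {S : Scheme.{u}}

/-- A descent datum on `u : U ⟶ X` relative to `f : X ⟶ Y`, as a transport of points. -/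
structure DD {X Y U : Sp S} (f : X ⟶ Y) (u : U ⟶ X) where
  /-- transport of the point `p` of `U` to the point `x` of `X` -/
  tr : ∀ {T : Sp S} (p : T ⟶ U) (x : T ⟶ X), p ≫ u ≫ f = x ≫ f → (T ⟶ U)
  tr_u : ∀ {T : Sp S} (p : T ⟶ U) (x : T ⟶ X) (h : p ≫ u ≫ f = x ≫ f), tr p x h ≫ u = x
  comp_tr : ∀ {T T' : Sp S} (t : T' ⟶ T) (p : T ⟶ U) (x : T ⟶ X) (h : p ≫ u ≫ f = x ≫ f)
    (h' : (t ≫ p) ≫ u ≫ f = (t ≫ x) ≫ f), t ≫ tr p x h = tr (t ≫ p) (t ≫ x) h'
  tr_id : ∀ {T : Sp S} (p : T ⟶ U) (h : p ≫ u ≫ f = (p ≫ u) ≫ f), tr p (p ≫ u) h = p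
  tr_tr : ∀ {T : Sp S} (p : T ⟶ U) (x x' : T ⟶ X) (h : p ≫ u ≫ f = x ≫ f) (h' : tr p x h ≫ u ≫ f = x' ≫ f)
    (h'' : p ≫ u ≫ f = x' ≫ f), tr (tr p x h) x' h' = tr p x' h''

namespace DD

variable {X Y U : Sp S} {f : X ⟶ Y} {u : U ⟶ X}

theorem congr (D : DD f u) {T : Sp S} {p p' : T ⟶ U} {x x' : T ⟶ X} (hp : p = p') (hx : x = x')
    (h : p ≫ u ≫ f = x ≫ f) (h' : p' ≫ u ≫ f = x' ≫ f) : D.tr p x h = D.tr p' x' h' := by
  subst hp hx; rfl

theorem tr_eq_self (D : DD f u) {T : Sp S} {p : T ⟶ U} {x : T ⟶ X} (hx : p ≫ u = x)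
    (h : p ≫ u ≫ f = x ≫ f) : D.tr p x h = p := by
  subst hx; exact D.tr_id _ _

theorem tr_w (D : DD f u) {T : Sp S} (p : T ⟶ U) (x : T ⟶ X) (h : p ≫ u ≫ f = x ≫ f) :
    D.tr p x h ≫ u ≫ f = x ≫ f := by rw [← Category.assoc, D.tr_u]

/-- compatible sections -/
def Compat (D : DD f u) {W : Sp S} {e : W ⟶ Y} (σ : Sec f u e) : Prop :=
  ∀ {T : Sp S} (x x' : T ⟶ X) (w : T ⟶ W) (h : x ≫ f = w ≫ e) (h' : x' ≫ f = w ≫ e)
    (h'' : σ.ev x w h ≫ u ≫ f = x' ≫ f), D.tr (σ.ev x w h) x' h'' = σ.ev x' w h'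

theorem Compat.res {D : DD f u} {W : Sp S} {e : W ⟶ Y} {σ : Sec f u e} (hσ : D.Compat σ) {W' : Sp S} (j : W' ⟶ W) :
    D.Compat (σ.res j) := by
  intro T x x' w h h' h''
  refine (D.congr (Sec.res_ev _ _ _ _ _) rfl _ (by rw [← Category.assoc, Sec.ev_u, h, h'])).trans ?_
  rw [Sec.res_ev]
  exact hσ _ _ _ _ _ _

end DD

variable {X Y U : Sp S} {f : X ⟶ Y} {u : U ⟶ X}

theorem isEtaleMor_comp' {A B C : Sp S} {a : A ⟶ B} {b : B ⟶ C} (ha : IsEtaleMor a) (hb : IsEtaleMor b) :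
    IsEtaleMor (a ≫ b) := fun V φ hφ => by
  rw [← Category.assoc]
  exact hb _ (ha _ hφ)

theorem exists_chart_pt {G : Sp S} (hG : IsAlgSpace G) {Ω : Type u} [Field Ω] [IsSepClosed Ω]
    {w : Spec (.of Ω) ⟶ S} (P : (yon S).obj (Over.mk w) ⟶ G) :
    ∃ (V : Over S) (c : (yon S).obj V ⟶ G) (ξ : Spec (.of Ω) ⟶ V.left) (hξ : ξ ≫ V.hom = w), IsAffine V.left ∧
      RepWith @Etale c ∧ (yon S).map (Over.homMk ξ hξ : Over.mk w ⟶ V) ≫ c = P := by
  obtain ⟨ι, W, g, V, c, h, -, hg, hs, hc, hw⟩ := K635.Glue.exists_cover_chart hG P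
  obtain ⟨i, v, hv⟩ := hs (default : ↥(Spec (CommRingCat.of Ω)))
  have := hg i
  obtain ⟨m, hm, -⟩ := Scheme.exists_fac_of_etale_of_isSepClosed (g i).left (𝟙 _) v hv
  have hmw : m ≫ (W i).hom = w := by
    rw [← Over.w (g i), ← Category.assoc, hm, Category.id_comp]
    rfl
  refine ⟨V i, c i, m ≫ (h i).left, by rw [Category.assoc, Over.w, hmw], (hc i).1, (hc i).2, ?_⟩
  let m' : Over.mk w ⟶ W i := Over.homMk m hmw
  have e1 : m' ≫ g i = 𝟙 _ := Over.OverMorphism.ext hm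
  have e2 : (Over.homMk (m ≫ (h i).left) (by rw [Category.assoc, Over.w, hmw]; rfl) : Over.mk w ⟶ V i) = m' ≫ h i :=
    Over.OverMorphism.ext rfl
  rw [e2, Functor.map_comp, Category.assoc, ← hw, ← Category.assoc, ← Functor.map_comp, e1,
    CategoryTheory.Functor.map_id, Category.id_comp]

/-- **Local existence of compatible sections** through a geometric point. -/
theorem exists_local (hX : IsAlgSpace X) (hY : IsAlgSpace Y) (hf : IsProperMor f) (hU : IsAlgSpace U)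
    (hu : IsEtaleMor u) (D : DD f u) {Ω : Type u} [Field Ω] [IsSepClosed Ω] (w : Spec (.of Ω) ⟶ S)
    (P : (yon S).obj (Over.mk w) ⟶ U) :
    ∃ (W : Sp S) (e : W ⟶ Y) (m : (yon S).obj (Over.mk w) ⟶ W) (hm : m ≫ e = P ≫ u ≫ f) (σ : Sec f u e),
      IsAlgSpace W ∧ IsEtaleMor e ∧ D.Compat σ ∧ σ.ev (P ≫ u) m (by rw [Category.assoc, hm]) = P := by
  obtain ⟨V, c, ξ, rfl, hV, hc, hP⟩ := exists_chart_pt hY (P ≫ u ≫ f)
  have hVs := IsAlgSpace.yon_obj (S := S) V
  let pt := (yon S).obj (ptOv V ξ)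
  let ξ' : pt ⟶ (yon S).obj V := (yon S).map (Over.homMk ξ rfl)
  have hξc : ξ' ≫ c = P ≫ u ≫ f := hP
  -- base change to the chart
  have hXV : IsAlgSpace (pullback f c) := K613.Chart.isAlgSpace_pullback hX hVs hY f c
  have hfV : IsProperMor (pullback.snd f c) :=
    K597.Proper.isProperMor_of_isPullback hX hY hVs (IsPullback.of_hasPullback f c) hf
  have hUV : IsAlgSpace (pullback u (pullback.fst f c)) := K613.Chart.isAlgSpace_pullback hU hXV hX _ _
  have huV : IsEtaleMor (pullback.snd u (pullback.fst f c)) :=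
    K610.EtaleMor.isEtaleMor_baseChange hU hUV hXV (IsPullback.of_hasPullback u (pullback.fst f c)).flip hu
  -- the section over the fibre
  have hw0 : (pullback.snd (pullback.snd f c) ξ' ≫ P) ≫ u ≫ f =
      (pullback.fst (pullback.snd f c) ξ' ≫ pullback.fst f c) ≫ f := by
    rw [Category.assoc, ← hξc, Category.assoc, pullback.condition (f := f) (g := c), ← Category.assoc,
      ← pullback.condition, Category.assoc]
  let σ₀ : Sec (pullback.snd f c) (pullback.snd u (pullback.fst f c)) ξ' :=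
    ⟨pullback.lift (D.tr _ _ hw0) (pullback.fst _ _) (D.tr_u _ _ _), pullback.lift_snd _ _ _⟩
  have hσ₀ : ∀ {T : Sp S} (x : T ⟶ pullback f c) (z : T ⟶ pt) (h : x ≫ pullback.snd f c = z ≫ ξ')
      (h' : (z ≫ P) ≫ u ≫ f = (x ≫ pullback.fst f c) ≫ f),
      σ₀.ev x z h ≫ pullback.fst _ _ = D.tr (z ≫ P) (x ≫ pullback.fst f c) h' := by
    intro T x z h h'
    rw [Sec.ev, Category.assoc]
    change _ ≫ pullback.lift _ _ _ ≫ _ = _
    rw [pullback.lift_fst, D.comp_tr _ _ _ _ (by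
      rw [← Category.assoc (pullback.lift x z h), pullback.lift_snd, ← Category.assoc (pullback.lift x z h),
        pullback.lift_fst, h'])]
    apply D.congr
    · rw [← Category.assoc, pullback.lift_snd]
    · rw [← Category.assoc, pullback.lift_fst]
  obtain ⟨W, e, l, hl, σ, hW, he, hσ⟩ := exists_ext_sp hV hXV hfV hUV huV ξ σ₀
  -- the section over `W`
  have hwW : (pullback.fst f (e ≫ c)) ≫ f = (pullback.snd f (e ≫ c) ≫ e) ≫ c := by
    rw [pullback.condition, Category.assoc]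
  let σ₁ : Sec f u (e ≫ c) := ⟨σ.ev (pullback.lift _ _ hwW) (pullback.snd f (e ≫ c)) (pullback.lift_snd _ _ _) ≫
    pullback.fst _ _, by
    rw [Category.assoc, pullback.condition, ← Category.assoc, Sec.ev_u, pullback.lift_fst]⟩
  have hσ₁ : ∀ {T : Sp S} (x : T ⟶ X) (z : T ⟶ pt) (h : x ≫ f = (z ≫ l) ≫ e ≫ c)
      (h' : (z ≫ P) ≫ u ≫ f = x ≫ f), σ₁.ev x (z ≫ l) h = D.tr (z ≫ P) x h' := by
    intro T x z h h'
    have hx : x ≫ f = (z ≫ ξ') ≫ c := by rw [h, Category.assoc, ← Category.assoc l, hl, Category.assoc]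
    rw [Sec.ev]
    change _ ≫ _ ≫ _ = _
    rw [← Category.assoc, Sec.comp_ev]
    have h1 := hσ (pullback.lift x (z ≫ ξ') hx) z (pullback.lift_snd _ _ _)
    have h2 := congrArg (fun t => t ≫ pullback.fst u (pullback.fst f c)) h1
    refine Eq.trans ?_ (h2.trans ((hσ₀ _ _ _ (by rw [pullback.lift_fst, h'])).trans
      (D.congr rfl (pullback.lift_fst _ _ _) _ _)))
    congr 1
    apply Sec.ev_congr
    · apply pullback.hom_ext
      · rw [Category.assoc, pullback.lift_fst, pullback.lift_fst, pullback.lift_fst]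
      · rw [Category.assoc, pullback.lift_snd, pullback.lift_snd, ← Category.assoc, pullback.lift_snd,
          Category.assoc, hl]
    · rw [pullback.lift_snd]
  have hlE : l ≫ e ≫ c = P ≫ u ≫ f := by rw [← Category.assoc, hl, ← hξc]
  have hEe : IsEtaleMor (e ≫ c) := isEtaleMor_comp' he fun V φ hφ => K610.EtaleMor.comp_etale hφ hc
  clear_value σ₁
  clear hσ σ hwW hσ₀ σ₀ hw0
  generalize e ≫ c = E at *
  -- the equality to be spread out
  have hXW : IsAlgSpace (pullback f E) := K613.Chart.isAlgSpace_pullback hX hW hY f E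
  have hq : IsProperMor (pullback.snd f E) :=
    K597.Proper.isProperMor_of_isPullback hX hY hW (IsPullback.of_hasPullback f E) hf
  obtain ⟨q, hqdef⟩ : ∃ q, q = pullback.snd f E := ⟨_, rfl⟩
  rw [← hqdef] at hq
  have hZ : IsAlgSpace (pullback q q) := K613.Chart.isAlgSpace_pullback hXW hXW hW _ _
  have hg : IsProperMor (pullback.fst q q ≫ q) := K597.ProperSub.isProperMor_comp hZ hXW hW
    (K597.Proper.isProperMor_of_isPullback hXW hW hXW (IsPullback.of_hasPullback q q).flip hq) hq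
  have hqE : pullback.fst f E ≫ f = q ≫ E := by rw [hqdef, pullback.condition]
  have hw1 : (pullback.fst q q ≫ σ₁.s) ≫ u ≫ f = (pullback.snd q q ≫ pullback.fst f E) ≫ f := by
    rw [Category.assoc, ← Category.assoc σ₁.s, σ₁.s_u, Category.assoc, hqE, pullback.condition_assoc]
  have hτ : ∀ {T : Sp S} (τ : T ⟶ pullback f E) (z : T ⟶ pt) (h : τ ≫ q = z ≫ l)
      (h' : (z ≫ P) ≫ u ≫ f = (τ ≫ pullback.fst f E) ≫ f), τ ≫ σ₁.s = D.tr (z ≫ P) (τ ≫ pullback.fst f E) h' := by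
    intro T τ z h h'
    rw [Sec.comp_s, ← hσ₁ _ _ (by rw [Category.assoc, hqE, ← Category.assoc, h]) h']
    exact Sec.ev_congr _ rfl (by rw [← hqdef, h]) _ _
  obtain ⟨W', j, m', hj, hm', hag⟩ := spread (a := D.tr _ _ hw1) (b := pullback.snd q q ≫ σ₁.s) (l := l) hZ hW hU hX
    hg.2.2 hu (by rw [D.tr_u, Category.assoc, σ₁.s_u]) (by
      intro T τ z h
      have h1 : (z ≫ P) ≫ u ≫ f = ((τ ≫ pullback.fst q q) ≫ pullback.fst f E) ≫ f := by
        rw [Category.assoc, ← hlE, ← Category.assoc, ← h]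
        simp only [Category.assoc, hqE]
      have h2 : (z ≫ P) ≫ u ≫ f = ((τ ≫ pullback.snd q q) ≫ pullback.fst f E) ≫ f := by
        rw [h1]
        simp only [Category.assoc, hqE, pullback.condition_assoc]
      have h3 := hτ (τ ≫ pullback.fst q q) z (by rw [Category.assoc, h]) h1
      have h4 := hτ (τ ≫ pullback.snd q q) z (by rw [Category.assoc, ← pullback.condition, h]) h2
      rw [← Category.assoc, h4, D.comp_tr _ _ _ _ (by
        rw [Category.assoc, Category.assoc, Category.assoc, ← Category.assoc σ₁.s, σ₁.s_u]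
        simp only [Category.assoc, hqE, pullback.condition_assoc])]
      refine (D.congr ((Category.assoc _ _ _).symm.trans h3) (Category.assoc _ _ _).symm _ (by
        rw [D.tr_w, h1.symm.trans h2])).trans ?_
      exact D.tr_tr _ _ _ _ _ _)
  have hjm : Mono j := K610.Factor.mono_of_isOpenImmersion hj
  have hW' : IsAlgSpace W' := K610.Sub.isAlgSpace_of_mono (j := j) (hj := hj.1) hW
  refine ⟨W', j ≫ E, m', by rw [← Category.assoc, hm', hlE], σ₁.res j, hW',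
    isEtaleMor_comp' (fun V φ hφ => K610.EtaleMor.comp_etale hφ (K610.OpenImm.repWith_etale_of_open hj)) hEe, ?_, ?_⟩
  · intro T x x' w h h' h''
    obtain ⟨t₁, ht1, ht2⟩ : ∃ t₁ : T ⟶ pullback f E, t₁ ≫ pullback.fst f E = x ∧ t₁ ≫ q = w ≫ j :=
      ⟨pullback.lift x (w ≫ j) (by rw [h, Category.assoc]), pullback.lift_fst _ _ _, by
        rw [hqdef, pullback.lift_snd]⟩
    obtain ⟨t₂, ht3, ht4⟩ : ∃ t₂ : T ⟶ pullback f E, t₂ ≫ pullback.fst f E = x' ∧ t₂ ≫ q = w ≫ j :=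
      ⟨pullback.lift x' (w ≫ j) (by rw [h', Category.assoc]), pullback.lift_fst _ _ _, by
        rw [hqdef, pullback.lift_snd]⟩
    obtain ⟨τ, hτ1, hτ2⟩ : ∃ τ : T ⟶ pullback q q, τ ≫ pullback.fst q q = t₁ ∧ τ ≫ pullback.snd q q = t₂ :=
      ⟨pullback.lift t₁ t₂ (by rw [ht2, ht4]), pullback.lift_fst _ _ _, pullback.lift_snd _ _ _⟩
    have h1 := hag τ w (by rw [← Category.assoc, hτ1, ht2])
    have e1 : (σ₁.res j).ev x w h = τ ≫ pullback.fst q q ≫ σ₁.s := by
      rw [Sec.res_ev, ← Category.assoc τ, hτ1, Sec.comp_s]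
      exact Sec.ev_congr _ ht1.symm (by rw [← hqdef, ht2]) _ _
    have e2 : (σ₁.res j).ev x' w h' = τ ≫ pullback.snd q q ≫ σ₁.s := by
      rw [Sec.res_ev, ← Category.assoc τ, hτ2, Sec.comp_s]
      exact Sec.ev_congr _ ht3.symm (by rw [← hqdef, ht4]) _ _
    have e3 : τ ≫ pullback.snd q q ≫ pullback.fst f E = x' := by rw [← Category.assoc, hτ2, ht3]
    rw [e2, ← h1, D.comp_tr _ _ _ _ (by rw [← e1, e3, h''])]
    exact D.congr e1 e3.symm _ _
  · rw [Sec.res_ev]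
    refine (Sec.ev_congr (w' := 𝟙 _ ≫ l) σ₁ rfl (by rw [hm', Category.id_comp]) _ (by
      rw [Category.id_comp, hlE, Category.assoc])).trans ?_
    rw [hσ₁ _ _ _ (by rw [Category.id_comp, Category.assoc])]
    rw [D.tr_eq_self (by rw [Category.id_comp]), Category.id_comp]

end K601.PD
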