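import Groth.Agent.AlgSp.K601.PDQuot

/-!
# Effective descent of etale algebraic spaces along proper surjective morphisms
-/

set_option autoImplicit false
set_option backward.isDefEq.respectTransparency false
universe u

open CategoryTheory CategoryTheory.Limits AlgebraicGeometry Opposite
open AlgSp

namespace K601.PD

open K635.EtTop K594.Cover

variable {S : Scheme.{u}} {X Y U : Sp S} {f : X ⟶ Y} {u : U ⟶ X}

/-- a scheme version of `exists_local` -/
theorem exists_local_scheme (hX : IsAlgSpace X) (hY : IsAlgSpace Y) (hf : IsProperMor f) (hU : IsAlgSpace U)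
    (hu : IsEtaleMor u) (D : DD f u) {Ω : Type u} [Field Ω] [IsSepClosed Ω] (w : Spec (.of Ω) ⟶ S)
    (P : (yon S).obj (Over.mk w) ⟶ U) :
    ∃ (V : Over S) (e : (yon S).obj V ⟶ Y) (m : Over.mk w ⟶ V) (hm : (yon S).map m ≫ e = P ≫ u ≫ f)
      (σ : Sec f u e), RepWith @Etale e ∧ D.Compat σ ∧
        σ.ev (P ≫ u) ((yon S).map m) (by rw [Category.assoc, hm]) = P := by
  obtain ⟨W, e, m, hm, σ, hW, he, hσ, hv⟩ := exists_local hX hY hf hU hu D w P
  obtain ⟨V, c, ξ, hξ, -, hc, hP⟩ := exists_chart_pt hW m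
  refine ⟨V, c ≫ e, Over.homMk ξ hξ, by rw [← Category.assoc, hP, hm], σ.res c, he c hc, hσ.res c, ?_⟩
  rw [Sec.res_ev]
  exact (Sec.ev_congr _ rfl hP _ _).trans hv

theorem isEmpty_points_of_sig {ι : Type u} {V : ι → Over S} {i j : ι} (hij : i ≠ j) {T : Sp S}
    (a : T ⟶ (yon S).obj (V i)) (b : T ⟶ (yon S).obj (V j))
    (h : a ≫ (yon S).map (sigι V i) = b ≫ (yon S).map (sigι V j)) (x : Points T) : False := by
  obtain ⟨Ω, _, _, w, g, -⟩ := exists_geom x
  obtain ⟨a', ha'⟩ := (yon S).map_surjective (g ≫ a)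
  obtain ⟨b', hb'⟩ := (yon S).map_surjective (g ≫ b)
  have h1 : a' ≫ sigι V i = b' ≫ sigι V j := (yon S).map_injective (by
    rw [Functor.map_comp, Functor.map_comp, ha', hb', Category.assoc, Category.assoc, h])
  exact (sig_disj V hij a' b' h1).false (default : ↥(Spec (CommRingCat.of Ω)))

theorem mono_yon_sigι {ι : Type u} (V : ι → Over S) (i : ι) : Mono ((yon S).map (sigι V i)) := by
  have h : Mono ((Over.forget S).map (sigι V i)) := inferInstanceAs (Mono (Sigma.ι (fun i => (V i).left) i))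
  have := (Over.forget S).mono_of_mono_map h
  infer_instance

theorem jls_sig {ι : Type u} (V : ι → Over S) :
    K642.Glue.JLS (J := AlgSp.J S) (fun i => (yon S).obj (V i)) (fun i => (yon S).map (sigι V i)) := by
  refine K642.EtCov.jls_of_repWith_etale _ (fun i => (repWith_yon_map_iff _ _).2
    (inferInstanceAs (Etale (Sigma.ι (fun i => (V i).left) i)))) fun x => ?_
  obtain ⟨y, rfl⟩ := K616.Refine.exists_ofPt_of_yon x
  obtain ⟨i, v, hv⟩ := sig_surj V y
  exact ⟨i, v, by rw [← Category.comp_id ((yon S).map (sigι V i)), K616.Refine.ofPt_comp, hv]⟩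

/-- glueing of sections over a disjoint union -/
theorem exists_sec_sig (hX : IsAlgSpace X) (hU : IsAlgSpace U) (hu : IsEtaleMor u) {ι : Type u} {V : ι → Over S}
    {q : (yon S).obj (sig V) ⟶ Y} (σ : ∀ i, Sec f u ((yon S).map (sigι V i) ≫ q)) :
    ∃ τ : Sec f u q, ∀ (i : ι) {T : Sp S} (x : T ⟶ X) (w : T ⟶ (yon S).obj (V i))
      (h : x ≫ f = w ≫ (yon S).map (sigι V i) ≫ q),
      τ.ev x (w ≫ (yon S).map (sigι V i)) (by rw [h, Category.assoc]) = (σ i).ev x w h := by
  have hj := jls_sig V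
  let p : ∀ i, pullback f ((yon S).map (sigι V i) ≫ q) ⟶ pullback f q := fun i =>
    pullback.lift (pullback.fst _ _) (pullback.snd _ _ ≫ (yon S).map (sigι V i)) (by
      rw [pullback.condition, Category.assoc])
  have hp1 : ∀ i, p i ≫ pullback.fst _ _ = pullback.fst _ _ := fun i => pullback.lift_fst _ _ _
  have hp2 : ∀ i, p i ≫ pullback.snd _ _ = pullback.snd _ _ ≫ (yon S).map (sigι V i) := fun i =>
    pullback.lift_snd _ _ _
  have sq : ∀ i, IsPullback (pullback.snd f ((yon S).map (sigι V i) ≫ q)) (p i) ((yon S).map (sigι V i))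
      (pullback.snd f q) := fun i => by
    refine IsPullback.of_bot (v₂₁ := pullback.fst f q) (v₂₂ := q) (h₃₁ := f) ?_ (hp2 i).symm
      (IsPullback.of_hasPullback f q).flip
    rw [hp1]
    exact (IsPullback.of_hasPullback f ((yon S).map (sigι V i) ≫ q)).flip
  have hj' := hj.baseChange (pullback.snd f q) _ p sq
  obtain ⟨s, hs, -⟩ := hj'.exists_hom_of_isPullback (fun i => (σ i).s) (fun i j => pullback (p i) (p j))
    (fun i j => pullback.fst _ _) (fun i j => pullback.snd _ _) (fun i j => IsPullback.of_hasPullback _ _) (by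
      intro i j
      by_cases hij : i = j
      · subst hij
        have := mono_yon_sigι V i
        have hm : Mono (p i) := MorphismProperty.of_isPullback (P := MorphismProperty.monomorphisms (Sp S)) (sq i) this
        rw [(cancel_mono (p i)).1 pullback.condition]
      · refine eq_of_points hU hX hu _ _ ?_ fun x => ?_
        · rw [Category.assoc, Category.assoc, (σ i).s_u, (σ j).s_u, ← hp1, ← hp1, ← Category.assoc,
            pullback.condition, Category.assoc]
        · refine (isEmpty_points_of_sig hij (pullback.fst (p i) (p j) ≫ pullback.snd _ _)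
            (pullback.snd (p i) (p j) ≫ pullback.snd _ _) ?_ x).elim
          rw [Category.assoc, Category.assoc, ← hp2, ← hp2, ← Category.assoc, pullback.condition, Category.assoc])
  refine ⟨⟨s, hj'.hom_ext fun i => by rw [← Category.assoc, hs, (σ i).s_u, hp1]⟩, fun i T x w h => ?_⟩
  rw [Sec.ev, Sec.ev]
  change _ ≫ s = _
  rw [← hs i, ← Category.assoc (pullback.lift x w h)]
  congr 1
  apply pullback.hom_ext
  · rw [pullback.lift_fst, Category.assoc, hp1, pullback.lift_fst]
  · rw [pullback.lift_snd, Category.assoc, hp2, ← Category.assoc, pullback.lift_snd]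

/-- glueing of sections over a disjoint union -/
theorem exists_sec_sig' (hX : IsAlgSpace X) (hU : IsAlgSpace U) (hu : IsEtaleMor u) {ι : Type u} {V : ι → Over S}
    {q : (yon S).obj (sig V) ⟶ Y} {e : ∀ i, (yon S).obj (V i) ⟶ Y} (hq : ∀ i, (yon S).map (sigι V i) ≫ q = e i)
    (σ : ∀ i, Sec f u (e i)) :
    ∃ τ : Sec f u q, ∀ (i : ι) {T : Sp S} (x : T ⟶ X) (w : T ⟶ (yon S).obj (V i)) (h : x ≫ f = w ≫ e i),
      τ.ev x (w ≫ (yon S).map (sigι V i)) (by rw [h, Category.assoc, hq]) = (σ i).ev x w h := by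
  obtain rfl : (fun i => (yon S).map (sigι V i) ≫ q) = e := funext hq
  exact exists_sec_sig hX hU hu σ

/-- Two maps out of `T` agree if they agree on the parts of `T` over the members of a disjoint union. -/
theorem hom_ext_sig {ι : Type u} {V : ι → Over S} {T G : Sp S} (w : T ⟶ (yon S).obj (sig V)) {a b : T ⟶ G}
    (h : ∀ (i : ι) {T' : Sp S} (t : T' ⟶ T) (w' : T' ⟶ (yon S).obj (V i)),
      t ≫ w = w' ≫ (yon S).map (sigι V i) → t ≫ a = t ≫ b) : a = b := by
  have hj := (jls_sig V).baseChange w _ (fun i => pullback.snd ((yon S).map (sigι V i)) w)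
    (fun i => IsPullback.of_hasPullback _ _)
  exact hj.hom_ext fun i => h i _ _ pullback.condition.symm

/-- A surjective compatible section exists. -/
theorem exists_global (hX : IsAlgSpace X) (hY : IsAlgSpace Y) (hf : IsProperMor f) (hU : IsAlgSpace U)
    (hu : IsEtaleMor u) (D : DD f u) :
    ∃ (W : Sp S) (e : W ⟶ Y) (σ : Sec f u e), IsAlgSpace W ∧ IsEtaleMor e ∧ D.Compat σ ∧
      Function.Surjective (Points.map σ.s) := by
  obtain ⟨C, a, ha, has⟩ := hU.atlas
  have h1 : ∀ c : C.left, ∃ (Ω : Type u) (_ : Field Ω) (_ : IsSepClosed Ω) (w : Spec (.of Ω) ⟶ S)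
      (P : (yon S).obj (Over.mk w) ⟶ U), ∀ z, Points.map P z = Points.ofPt a c := fun c => exists_geom _
  choose Ω i1 i2 w P hP using h1
  choose V e m hm σ he hσ hv using fun c => exists_local_scheme hX hY hf hU hu D (w c) (P c)
  obtain ⟨q, hq⟩ := K594.Atlas.exists_sigma_map (U := V) e
  have hqE : RepWith @Etale q := K594.Atlas.repWith_sig @Etale q fun c => by rw [hq]; exact he c
  obtain ⟨τ, hτ⟩ := exists_sec_sig' hX hU hu hq σ
  refine ⟨(yon S).obj (sig V), q, τ, IsAlgSpace.yon_obj _, fun V φ hφ => K610.EtaleMor.comp_etale hφ hqE, ?_, ?_⟩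
  · intro T x x' w h h' h''
    refine hom_ext_sig w fun c T' t w' hw' => ?_
    have k1 : (t ≫ x) ≫ f = w' ≫ e c := by
      rw [Category.assoc, h, ← Category.assoc, hw', Category.assoc, hq]
    have k2 : (t ≫ x') ≫ f = w' ≫ e c := by
      rw [Category.assoc, h', ← Category.assoc, hw', Category.assoc, hq]
    have e1 : t ≫ τ.ev x w h = (σ c).ev (t ≫ x) w' k1 := by
      rw [Sec.comp_ev, ← hτ]
      exact Sec.ev_congr _ rfl hw' _ _
    have e2 : t ≫ τ.ev x' w h' = (σ c).ev (t ≫ x') w' k2 := by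
      rw [Sec.comp_ev, ← hτ]
      exact Sec.ev_congr _ rfl hw' _ _
    rw [e2, D.comp_tr _ _ _ _ (by rw [Category.assoc, h'', Category.assoc]),
      ← hσ c (t ≫ x) (t ≫ x') w' k1 k2 (by rw [Sec.ev_u_assoc, k1, k2])]
    exact D.congr e1 rfl _ _
  · intro y
    obtain ⟨c, rfl⟩ := K616.Refine.ofPt_surjective a has y
    obtain ⟨z⟩ := nonempty_points (w c)
    have h1 : (P c ≫ u) ≫ f = ((yon S).map (m c) ≫ (yon S).map (sigι V c)) ≫ q := by
      rw [Category.assoc, Category.assoc, hq, hm]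
    refine ⟨Points.map (pullback.lift _ _ h1) z, ?_⟩
    rw [← Points.map_comp, ← hP c z]
    congr 1
    exact (hτ c _ _ _).trans (hv c)

/-- **Effective descent of etale algebraic spaces along proper surjective morphisms.** -/
theorem main (hX : IsAlgSpace X) (hY : IsAlgSpace Y) (hf : IsProperMor f) (hU : IsAlgSpace U)
    (hu : IsEtaleMor u) (D : DD f u) :
    ∃ (V : Sp S) (v : V ⟶ Y) (g : U ⟶ V), IsAlgSpace V ∧ IsEtaleMor v ∧ IsPullback g u v f ∧
      ∀ {T : Sp S} (p : T ⟶ U) (x : T ⟶ X) (h : p ≫ u ≫ f = x ≫ f), D.tr p x h ≫ g = p ≫ g := by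
  obtain ⟨W, e, σ, hW, he, hσ, hs⟩ := exists_global hX hY hf hU hu D
  exact exists_quot hX hY hf.2.2 hU hu hW he D σ hσ hs

end K601.PD
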