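import Groth.Agent.AlgSp.K616.Refine
import Groth.Agent.AlgSp.K599.FTMono

/-!
# Geometric points
-/

set_option autoImplicit false
set_option backward.isDefEq.respectTransparency false
universe u

open CategoryTheory CategoryTheory.Limits AlgebraicGeometry Opposite
open AlgSp

namespace K601.PD

variable {S : Scheme.{u}}

/-- Every point is the image of a geometric point. -/
theorem exists_geom {F : Sp S} (x : Points F) : ∃ (Ω : Type u) (_ : Field Ω) (_ : IsSepClosed Ω)
    (w : Spec (.of Ω) ⟶ S) (g : (yon S).obj (Over.mk w) ⟶ F),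
      ∀ z : Points ((yon S).obj (Over.mk w)), Points.map g z = x := by
  induction x using Points.ind with
  | h q =>
  let a : Over.mk (Spec.map (CommRingCat.ofHom (algebraMap q.K (AlgebraicClosure q.K))) ≫ q.str) ⟶ q.pt :=
    Over.homMk (Spec.map (CommRingCat.ofHom (algebraMap q.K (AlgebraicClosure q.K)))) rfl
  refine ⟨AlgebraicClosure q.K, inferInstance, inferInstance, _, (yon S).map a ≫ q.toHom, fun z => ?_⟩
  rw [Points.map_comp]
  obtain ⟨t, ht⟩ := K616.Refine.exists_ofPt_of_yon (Points.map ((yon S).map a) z)
  rw [← ht, Points.map_ofPt, Category.id_comp]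
  exact Points.ofPt_toHom q _

theorem nonempty_points {Ω : Type u} [Field Ω] (w : Spec (.of Ω) ⟶ S) :
    Nonempty (Points ((yon S).obj (Over.mk w))) := ⟨(K599.FTMono.unique_points_yon w).some.default⟩

end K601.PD
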