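import Groth.Agent.AlgSp.K601.RelChart
import Groth.Agent.AlgSp.K601.EvMono
import Groth.Agent.AlgSp.K597.UnivInj
import Groth.Agent.AlgSp.K613.Mono
import Groth.Agent.UnramA.LfpOfComp

/-!
# Descent of properties of morphisms of algebraic spaces to a stage of a cofiltered limit
-/

set_option autoImplicit false
set_option backward.isDefEq.respectTransparency false
universe u

open CategoryTheory CategoryTheory.Limits AlgebraicGeometry Opposite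
open AlgSp

namespace K601.RelDesc

open K601.RelChart

variable {S : Scheme.{u}} {I : Type u} [SmallCategory I] {D : I ⥤ Sp S}

/-- All base changes of `f₀` along `D_j ⟶ D_{i₀}`, for `j` mapping to `i`, have `T`. -/
def Ev (T : MorphismProperty (Sp S)) (D : I ⥤ Sp S) {i₀ i : I} (φ : i ⟶ i₀) {X₀ Y₀ : Sp S} (f₀ : X₀ ⟶ Y₀)
    (b₀ : Y₀ ⟶ D.obj i₀) : Prop :=
  ∀ (j : I) (ψ : j ⟶ i) (Xj Yj : Sp S) (fj : Xj ⟶ Yj) (pYj : Yj ⟶ Y₀) (qYj : Yj ⟶ D.obj j)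
    (_ : IsPullback pYj qYj b₀ (D.map (ψ ≫ φ))) (pXj : Xj ⟶ X₀) (_ : IsPullback pXj fj f₀ pYj), T fj

theorem Ev.mono {T : MorphismProperty (Sp S)} {i₀ i j : I} {φ : i ⟶ i₀} {X₀ Y₀ : Sp S} {f₀ : X₀ ⟶ Y₀}
    {b₀ : Y₀ ⟶ D.obj i₀} (h : Ev T D φ f₀ b₀) (ψ : j ⟶ i) : Ev T D (ψ ≫ φ) f₀ b₀ :=
  fun k χ Xj Yj fj pYj qYj h1 pXj h2 => h k (χ ≫ ψ) Xj Yj fj pYj qYj (by rwa [Category.assoc]) pXj h2

theorem Ev.inf {T T' : MorphismProperty (Sp S)} {i₀ i : I} {φ : i ⟶ i₀} {X₀ Y₀ : Sp S} {f₀ : X₀ ⟶ Y₀}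
    {b₀ : Y₀ ⟶ D.obj i₀} (h : Ev T D φ f₀ b₀) (h' : Ev T' D φ f₀ b₀) : Ev (T ⊓ T') D φ f₀ b₀ :=
  fun k χ Xj Yj fj pYj qYj h1 pXj h2 => ⟨h k χ Xj Yj fj pYj qYj h1 pXj h2, h' k χ Xj Yj fj pYj qYj h1 pXj h2⟩

/-- Two eventual statements hold simultaneously. -/
theorem exists_common [IsCofiltered I] {i₀ : I} {A B : ∀ i : I, (i ⟶ i₀) → Prop}
    (hA : ∀ {i j : I} (φ : i ⟶ i₀) (ψ : j ⟶ i), A i φ → A j (ψ ≫ φ))
    (hB : ∀ {i j : I} (φ : i ⟶ i₀) (ψ : j ⟶ i), B i φ → B j (ψ ≫ φ))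
    (h : ∃ (i : I) (φ : i ⟶ i₀), A i φ) (h' : ∃ (i : I) (φ : i ⟶ i₀), B i φ) :
    ∃ (i : I) (φ : i ⟶ i₀), A i φ ∧ B i φ := by
  obtain ⟨i, φ, hi⟩ := h
  obtain ⟨j, ψ, hj⟩ := h'
  obtain ⟨k, a, b, e⟩ := IsCofiltered.cospan φ ψ
  exact ⟨k, a ≫ φ, hA φ a hi, by rw [e]; exact hB ψ b hj⟩

section main

variable [IsCofiltered I] (hDa : ∀ (i j : I) (φ : i ⟶ j), IsAffineMor (D.map φ)) {c : Cone D} (hc : IsLimit c)
  {i₀ : I} {X₀ Y₀ : Sp S} (hX₀ : IsAlgSpace X₀) (hY₀ : IsAlgSpace Y₀) (f₀ : X₀ ⟶ Y₀) (b₀ : Y₀ ⟶ D.obj i₀)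
  (hXqc : IsQuasiCompactSp X₀) (hYqc : IsQuasiCompactSp Y₀) (hYqs : IsQuasiSeparatedSp Y₀)
  {X Y : Sp S} {f : X ⟶ Y} {pY : Y ⟶ Y₀} {qY : Y ⟶ c.pt} (hY : IsPullback pY qY b₀ (c.π.app i₀)) {pX : X ⟶ X₀}
  (hX : IsPullback pX f f₀ pY)

include hDa hc hX₀ hY₀ hXqc hYqc hYqs hY hX in
theorem exists_ev [QuasiSeparatedSpace S] {T T₀ : MorphismProperty (Sp S)} {P Q : MorphismProperty Scheme.{u}}
    [P.IsStableUnderBaseChange] [Q.IsStableUnderBaseChange] (hT : ChartDet T P) (hT₀ : ChartDet T₀ Q)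
    (hPQ : StDesc.StageDesc Q P) (h₀ : T₀ f₀) (hf : T f) : ∃ (i : I) (φ : i ⟶ i₀), Ev T D φ f₀ b₀ := by
  obtain ⟨U₀, V₀, v, g, hU₀, hV₀, hv, hvs, H⟩ := exists_chart hX₀ hY₀ f₀ hXqc hYqc hYqs
  obtain ⟨i, φ, hi⟩ := exists_stage hPQ hDa hc i₀ hU₀ hV₀ (v ≫ b₀) g (hT₀.down f₀ v g h₀ hv H) (fun V a b sq => by
    obtain ⟨w, hw, -⟩ := exists_chart_target hY sq
    exact hT.down f w _ hf (K597.repWith_bc' _ hw hv) (H.bc hX hw (IsPullback.of_hasPullback g b)))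
  refine ⟨i, φ, fun j ψ Xj Yj fj pYj qYj h1 pXj h2 => ?_⟩
  obtain ⟨W, r, e, sq, -⟩ := hDa _ _ (ψ ≫ φ) hV₀ (v ≫ b₀)
  obtain ⟨w, hw, -⟩ := exists_chart_target h1 sq
  exact hT.up fj w _ (hi j ψ W e r sq) (K597.repWith_bc' _ hw hv) (K597.repWith_bc' _ hw hvs)
    (H.bc h2 hw (IsPullback.of_hasPullback g r))

end main

section diag

variable {B B' X₀ Y₀ X' Y' : Sp S} {b₀ : Y₀ ⟶ B} {β : B' ⟶ B} {p : Y' ⟶ Y₀} {q : Y' ⟶ B'}
  (h : IsPullback p q b₀ β) {f₀ : X₀ ⟶ Y₀} {px : X' ⟶ X₀} {f' : X' ⟶ Y'} (sq : IsPullback px f' f₀ p)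

/-- the map on self fibre products -/
noncomputable def dmap {X₀ Y₀ X' Y' : Sp S} {p : Y' ⟶ Y₀} {f₀ : X₀ ⟶ Y₀} {px : X' ⟶ X₀} {f' : X' ⟶ Y'}
    (w : px ≫ f₀ = f' ≫ p) : pullback f' f' ⟶ pullback f₀ f₀ :=
  pullback.map f' f' f₀ f₀ px px p w.symm w.symm

include sq in
theorem isPullback_dmap_fst : IsPullback (dmap sq.w) (pullback.fst f' f') (pullback.fst f₀ f₀) px := by
  have h1 : IsPullback (dmap sq.w ≫ pullback.snd f₀ f₀) (pullback.fst f' f') f₀ (px ≫ f₀) := by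
    have e : dmap sq.w ≫ pullback.snd f₀ f₀ = pullback.snd f' f' ≫ px := pullback.lift_snd _ _ _
    rw [e, sq.w]
    exact (IsPullback.of_hasPullback f' f').flip.paste_horiz sq
  exact IsPullback.of_right h1 (pullback.lift_fst _ _ _) (IsPullback.of_hasPullback f₀ f₀).flip

include sq in
theorem isPullback_dmap : IsPullback (dmap sq.w) (pullback.fst f' f' ≫ f') (pullback.fst f₀ f₀ ≫ f₀) p :=
  (isPullback_dmap_fst sq).paste_vert sq

include h sq in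
theorem isPullback_dmap_base : IsPullback (dmap sq.w) ((pullback.fst f' f' ≫ f') ≫ q)
    ((pullback.fst f₀ f₀ ≫ f₀) ≫ b₀) β :=
  (isPullback_dmap sq).paste_vert h

include sq in
theorem isPullback_diagonal : IsPullback px (pullback.diagonal f') (pullback.diagonal f₀) (dmap sq.w) := by
  have h1 : IsPullback px (pullback.diagonal f' ≫ pullback.fst f' f') (pullback.diagonal f₀ ≫ pullback.fst f₀ f₀)
      px := by
    rw [pullback.diagonal_fst, pullback.diagonal_fst]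
    exact IsPullback.of_id_snd
  refine IsPullback.of_bot h1 ?_ (isPullback_dmap_fst sq)
  apply pullback.hom_ext
  · rw [Category.assoc, Category.assoc, pullback.diagonal_fst]
    have e : dmap sq.w ≫ pullback.fst f₀ f₀ = pullback.fst f' f' ≫ px := pullback.lift_fst _ _ _
    rw [e, ← Category.assoc, pullback.diagonal_fst, Category.id_comp, Category.comp_id]
  · rw [Category.assoc, Category.assoc, pullback.diagonal_snd]
    have e : dmap sq.w ≫ pullback.snd f₀ f₀ = pullback.snd f' f' ≫ px := pullback.lift_snd _ _ _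
    rw [e, ← Category.assoc, pullback.diagonal_snd, Category.id_comp, Category.comp_id]

end diag

section locP

theorem locP_id_etale (X : Sp S) : LocP @Etale (𝟙 X) :=
  K597.locP_etale_of_isEtaleMor (fun U φ hφ => by rw [Category.comp_id]; exact hφ)

theorem locP_id_lfp (X : Sp S) : LocP @LocallyOfFinitePresentation (𝟙 X) :=
  K597.locP_mono (fun _ _ g hg => by
    have : Etale g := hg
    change LocallyOfFinitePresentation g
    infer_instance) (locP_id_etale X)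

/-- the diagonal of a morphism locally of finite type is locally of finite presentation -/
theorem locP_lfp_diagonal {X Y : Sp S} (hX : IsAlgSpace X) (hY : IsAlgSpace Y) {f : X ⟶ Y}
    (hf : LocP @LocallyOfFiniteType f) : LocP @LocallyOfFinitePresentation (pullback.diagonal f) := by
  have hP : IsAlgSpace (pullback f f) := K613.Chart.isAlgSpace_pullback hX hX hY f f
  refine K597.locP_of_comp K597.etLoc_lfp (Q := @LocallyOfFiniteType)
    (fun A B C u v h h' => Groth.Agent.UnramA.LfpOfComp.lfp_of_comp u v h h') hX.hasAtlas hP.hasAtlas hX.hasAtlas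
    (g := pullback.fst f f) ?_ ?_
  · rw [pullback.diagonal_fst]
    exact locP_id_lfp X
  · exact K597.locP_bc K597.etLoc_lft (IsPullback.of_hasPullback f f).flip hX.hasAtlas hY.hasAtlas hX.hasAtlas hf

theorem isEtaleMor_diagonal {X Y : Sp S} (hX : IsAlgSpace X) (hY : IsAlgSpace Y) {f : X ⟶ Y}
    (hf : LocP @Etale f) : IsEtaleMor (pullback.diagonal f) := by
  have hP : IsAlgSpace (pullback f f) := K613.Chart.isAlgSpace_pullback hX hX hY f f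
  refine K597.isEtaleMor_of_locP_etale K597.etLoc_etale hP ?_
  refine K597.locP_of_comp K597.etLoc_etale (Q := @Etale)
    (fun A B C u v h h' => K597.etLoc_etale.cancel u v h' h) hX.hasAtlas hP.hasAtlas hX.hasAtlas
    (g := pullback.fst f f) ?_ ?_
  · rw [pullback.diagonal_fst]
    exact locP_id_etale X
  · exact K597.locP_bc K597.etLoc_etale (IsPullback.of_hasPullback f f).flip hX.hasAtlas hY.hasAtlas hX.hasAtlas hf

/-- An etale morphism surjective on points is surjective etale locally. -/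
theorem fSurj_of_etale_surjective {X Y : Sp S} (hX : IsAlgSpace X) {f : X ⟶ Y} (hf : IsEtaleMor f)
    (hs : IsSurjectiveMor f) : K613.Cover.FSurj f := by
  obtain ⟨U, a, ha, has⟩ := hX.atlas
  have h1 : RepWith @Etale (a ≫ f) := hf a ha
  have h2 : RepWith @Surjective (a ≫ f) := (K596.Pts.repWith_surjective_iff h1.1).2 (by
    intro y
    obtain ⟨x, rfl⟩ := hs y
    obtain ⟨z, rfl⟩ := K596.Pts.surjective_of_repWith has x
    exact ⟨z, Points.map_comp _ _ _⟩)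
  exact (K613.Cover.ESurj.of_repWith h1 h2).fSurj.of_comp

/-- An etale, surjective and universally injective morphism of algebraic spaces is an isomorphism. -/
theorem isIso_of_etale {X Y : Sp S} (hX : IsAlgSpace X) (hY : IsAlgSpace Y) {f : X ⟶ Y} (hf : LocP @Etale f)
    (hs : IsSurjectiveMor f) (hd : IsSurjectiveMor (pullback.diagonal f)) : IsIso f := by
  have h1 := fSurj_of_etale_surjective hX (isEtaleMor_diagonal hX hY hf) hd
  have h2 : IsIso (pullback.diagonal f) := h1.isIso_of_mono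
  have h3 : Mono f := EvMono.mono_of_isIso_diagonal f
  exact (fSurj_of_etale_surjective hX (K597.isEtaleMor_of_locP_etale K597.etLoc_etale hY hf) hs).isIso_of_mono

end locP

section main

variable [QuasiSeparatedSpace S] [IsCofiltered I] (hDa : ∀ (i j : I) (φ : i ⟶ j), IsAffineMor (D.map φ))
  {c : Cone D} (hc : IsLimit c)
  {i₀ : I} {X₀ Y₀ : Sp S} (hX₀ : IsAlgSpace X₀) (hY₀ : IsAlgSpace Y₀) (f₀ : X₀ ⟶ Y₀) (b₀ : Y₀ ⟶ D.obj i₀)
  (hXqc : IsQuasiCompactSp X₀) (hXqs : IsQuasiSeparatedSp X₀) (hYqc : IsQuasiCompactSp Y₀)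
  (hYqs : IsQuasiSeparatedSp Y₀)
  {X Y : Sp S} {f : X ⟶ Y} {pY : Y ⟶ Y₀} {qY : Y ⟶ c.pt} (hY : IsPullback pY qY b₀ (c.π.app i₀)) {pX : X ⟶ X₀}
  (hX : IsPullback pX f f₀ pY)

include hX₀ hY₀ hXqc hYqs in
theorem isQuasiCompactSp_pullback : IsQuasiCompactSp (pullback f₀ f₀) :=
  K596.QC2.isQuasiCompactMor_of_qc_of_qs hX₀ hY₀ f₀ hXqc hYqs hX₀ hXqc f₀ _ _ (IsPullback.of_hasPullback f₀ f₀)

omit [QuasiSeparatedSpace S] in
include hXqs in
theorem isQuasiSeparatedSp_pullback : IsQuasiSeparatedSp (pullback f₀ f₀) :=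
  K596.QC2.repWith_diag_of_isPullback hXqs hXqs (IsPullback.of_hasPullback f₀ f₀)

include hDa hc hX₀ hY₀ hXqc hXqs hYqs hY hX in
/-- the same for a property of the diagonal -/
theorem exists_ev_diagonal {T T₀ : MorphismProperty (Sp S)} {P Q : MorphismProperty Scheme.{u}}
    [P.IsStableUnderBaseChange] [Q.IsStableUnderBaseChange] (hT : ChartDet T P) (hT₀ : ChartDet T₀ Q)
    (hPQ : StDesc.StageDesc Q P) (h₀ : T₀ (pullback.diagonal f₀)) (hf : T (pullback.diagonal f)) :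
    ∃ (i : I) (φ : i ⟶ i₀), Ev T D φ (pullback.diagonal f₀) ((pullback.fst f₀ f₀ ≫ f₀) ≫ b₀) :=
  exists_ev hDa hc hX₀ (K613.Chart.isAlgSpace_pullback hX₀ hX₀ hY₀ f₀ f₀) _ _ hXqc
    (isQuasiCompactSp_pullback hX₀ hY₀ f₀ hXqc hYqs) (isQuasiSeparatedSp_pullback f₀ hXqs)
    (isPullback_dmap_base hY hX) (isPullback_diagonal hX) hT hT₀ hPQ h₀ hf

omit [QuasiSeparatedSpace S] [IsCofiltered I] in
/-- from the diagonal to the morphism -/
theorem ev_of_diagonal {T : MorphismProperty (Sp S)} {i : I} {φ : i ⟶ i₀}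
    (h : Ev T D φ (pullback.diagonal f₀) ((pullback.fst f₀ f₀ ≫ f₀) ≫ b₀)) :
    Ev (fun _ _ g => T (pullback.diagonal g)) D φ f₀ b₀ :=
  fun j ψ _ _ _ _ _ h1 _ h2 => h j ψ _ _ _ _ _ (isPullback_dmap_base h1 h2) _ (isPullback_diagonal h2)

include hDa hc hX₀ hY₀ hXqc hYqc hYqs hY hX in
theorem exists_ev_locP {P : MorphismProperty Scheme.{u}} [P.IsStableUnderBaseChange] (hP : K597.EtLoc P)
    (hPQ : StDesc.StageDesc @LocallyOfFinitePresentation P) (h₀ : LocP @LocallyOfFinitePresentation f₀)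
    (hf : LocP P f) : ∃ (i : I) (φ : i ⟶ i₀), Ev (LocP P) D φ f₀ b₀ :=
  exists_ev hDa hc hX₀ hY₀ f₀ b₀ hXqc hYqc hYqs hY hX (chartDet_locP hP) (chartDet_locP K597.etLoc_lfp) hPQ h₀ hf

include hDa hc hX₀ hY₀ hXqc hYqc hYqs hY hX in
theorem exists_ev_surjective (h₀ : LocP @LocallyOfFinitePresentation f₀)
    (hf : IsSurjectiveMor f) : ∃ (i : I) (φ : i ⟶ i₀), Ev IsSurjectiveMor D φ f₀ b₀ :=
  exists_ev hDa hc hX₀ hY₀ f₀ b₀ hXqc hYqc hYqs hY hX chartDet_surjective (chartDet_locP K597.etLoc_lfp)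
    StDesc.stageDesc_surjective h₀ hf

include hDa hc hX₀ hY₀ hXqc hXqs hYqs hY hX in
theorem exists_ev_diagonal_surjective (h₀ : LocP @LocallyOfFiniteType f₀)
    (hf : IsSurjectiveMor (pullback.diagonal f)) :
    ∃ (i : I) (φ : i ⟶ i₀), Ev (fun _ _ g => IsSurjectiveMor (pullback.diagonal g)) D φ f₀ b₀ := by
  obtain ⟨i, φ, h⟩ := exists_ev_diagonal hDa hc hX₀ hY₀ f₀ b₀ hXqc hXqs hYqs hY hX chartDet_surjective
    (chartDet_locP K597.etLoc_lfp) StDesc.stageDesc_surjective (locP_lfp_diagonal hX₀ hY₀ h₀) hf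
  exact ⟨i, φ, ev_of_diagonal f₀ b₀ h⟩

include hDa hc hX₀ hY₀ hXqc hXqs hYqs hY hX in
theorem exists_ev_univInj (h₀ : LocP @LocallyOfFiniteType f₀)
    (hf : IsUnivInjectiveMor f) :
    ∃ (i : I) (φ : i ⟶ i₀), Ev IsUnivInjectiveMor D φ f₀ b₀ := by
  obtain ⟨i, φ, h⟩ := exists_ev_diagonal_surjective hDa hc hX₀ hY₀ f₀ b₀ hXqc hXqs hYqs hY hX h₀
    (K597.UnivInj.surjective_diagonal_of_univInj hf)
  exact ⟨i, φ, fun j ψ _ _ _ _ _ h1 _ h2 => K597.UnivInj.univInj_of_surjective_diagonal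
    (h j ψ _ _ _ _ _ h1 _ h2)⟩

section alg

variable (hD : ∀ i, IsAlgSpace (D.obj i))

omit [QuasiSeparatedSpace S] [IsCofiltered I] in
include hD hY₀ in
theorem isAlgSpace_target {i j : I} {φ : j ⟶ i} {b₀ : Y₀ ⟶ D.obj i} {Yj : Sp S} {pYj : Yj ⟶ Y₀}
    {qYj : Yj ⟶ D.obj j} (h : IsPullback pYj qYj b₀ (D.map φ)) : IsAlgSpace Yj :=
  K613.Chart.isAlgSpace_of_isPullback (hD i).diag hY₀ (hD j) h

omit [QuasiSeparatedSpace S] [IsCofiltered I] in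
include hD hX₀ hY₀ in
theorem isAlgSpace_source {i j : I} {φ : j ⟶ i} {b₀ : Y₀ ⟶ D.obj i} {Yj : Sp S} {pYj : Yj ⟶ Y₀}
    {qYj : Yj ⟶ D.obj j} (h : IsPullback pYj qYj b₀ (D.map φ)) {f₀ : X₀ ⟶ Y₀} {Xj : Sp S} {fj : Xj ⟶ Yj}
    {pXj : Xj ⟶ X₀} (h' : IsPullback pXj fj f₀ pYj) : IsAlgSpace Xj :=
  K613.Chart.isAlgSpace_of_isPullback hY₀.diag hX₀ (isAlgSpace_target hY₀ hD h) h'

omit [QuasiSeparatedSpace S] in
theorem isEtaleMor_of_isIso {X Y : Sp S} (f : X ⟶ Y) [IsIso f] : IsEtaleMor f := fun _ _ hφ =>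
  MorphismProperty.RespectsIso.postcomp _ _ _ hφ

omit [QuasiSeparatedSpace S] in
theorem isSurjectiveMor_of_isIso {X Y : Sp S} (f : X ⟶ Y) [IsIso f] : IsSurjectiveMor f := fun y =>
  ⟨Points.map (inv f) y, by rw [← Points.map_comp, IsIso.inv_hom_id, Points.map_id]⟩

include hDa hc hX₀ hY₀ hXqc hXqs hYqc hYqs hY hX hD in
theorem exists_ev_isIso [IsIso f] (h₀ : LocP @LocallyOfFinitePresentation f₀) :
    ∃ (i : I) (φ : i ⟶ i₀), Ev (fun _ _ g => IsIso g) D φ f₀ b₀ := by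
  have h1 := exists_ev_locP hDa hc hX₀ hY₀ f₀ b₀ hXqc hYqc hYqs hY hX K597.etLoc_etale
    StDesc.stageDesc_etale h₀ (K597.locP_etale_of_isEtaleMor (isEtaleMor_of_isIso f))
  have h2 := exists_ev_surjective hDa hc hX₀ hY₀ f₀ b₀ hXqc hYqc hYqs hY hX h₀ (isSurjectiveMor_of_isIso f)
  have h3 := exists_ev_diagonal_surjective hDa hc hX₀ hY₀ f₀ b₀ hXqc hXqs hYqs hY hX
    (K597.locP_mono (fun _ _ g hg => by
      have : LocallyOfFinitePresentation g := hg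
      change LocallyOfFiniteType g
      infer_instance) h₀) (isSurjectiveMor_of_isIso (pullback.diagonal f))
  obtain ⟨i, φ, ⟨h1, h2⟩, h3⟩ := exists_common
    (A := fun i φ => Ev (LocP @Etale) D φ f₀ b₀ ∧ Ev IsSurjectiveMor D φ f₀ b₀)
    (B := fun i φ => Ev (fun _ _ g => IsSurjectiveMor (pullback.diagonal g)) D φ f₀ b₀)
    (fun φ ψ h => ⟨h.1.mono ψ, h.2.mono ψ⟩) (fun φ ψ h => h.mono ψ)
    (exists_common (A := fun i φ => Ev (LocP @Etale) D φ f₀ b₀) (B := fun i φ => Ev IsSurjectiveMor D φ f₀ b₀)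
      (fun φ ψ h => h.mono ψ) (fun φ ψ h => h.mono ψ) h1 h2) h3
  exact ⟨i, φ, fun j ψ Xj Yj fj _ _ s1 _ s2 =>
    isIso_of_etale (isAlgSpace_source hX₀ hY₀ hD s1 s2) (isAlgSpace_target hY₀ hD s1)
      (h1 j ψ _ _ _ _ _ s1 _ s2) (h2 j ψ _ _ _ _ _ s1 _ s2) (h3 j ψ _ _ _ _ _ s1 _ s2)⟩

include hDa hc hX₀ hY₀ hXqc hXqs hYqs hY hX hD in
theorem exists_ev_mono [Mono f] (h₀ : LocP @LocallyOfFiniteType f₀) :
    ∃ (i : I) (φ : i ⟶ i₀), Ev (fun _ _ g => Mono g) D φ f₀ b₀ := by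
  have : IsIso (pullback.diagonal f) := inferInstance
  obtain ⟨i, φ, h⟩ := exists_ev_isIso (X₀ := X₀) (Y₀ := pullback f₀ f₀) hDa hc hX₀
    (K613.Chart.isAlgSpace_pullback hX₀ hX₀ hY₀ f₀ f₀) (pullback.diagonal f₀) ((pullback.fst f₀ f₀ ≫ f₀) ≫ b₀) hXqc
    hXqs (isQuasiCompactSp_pullback hX₀ hY₀ f₀ hXqc hYqs) (isQuasiSeparatedSp_pullback f₀ hXqs)
    (isPullback_dmap_base hY hX) (isPullback_diagonal hX) hD (locP_lfp_diagonal hX₀ hY₀ h₀)
  refine ⟨i, φ, fun j ψ Xj Yj fj _ _ s1 _ s2 => ?_⟩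
  have : IsIso (pullback.diagonal fj) := ev_of_diagonal (T := fun _ _ g => IsIso g) f₀ b₀ h j ψ _ _ _ _ _ s1 _ s2
  exact EvMono.mono_of_isIso_diagonal fj

end alg

end main

end K601.RelDesc
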