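import Groth.Agent.AlgSp.K601.StageRel
import Groth.Agent.AlgSp.K607.SpKer
import Groth.Agent.AlgSp.K610.Coeq
import Groth.Agent.AlgSp.K594.Bootstrap
import Groth.Agent.AlgSp.K596.QC2

/-!
# Quotients by etale equivalence relations of algebraic spaces: charts, quasi-compactness, quasi-separatedness,
base change
-/

set_option autoImplicit false
set_option backward.isDefEq.respectTransparency false
universe u

open CategoryTheory CategoryTheory.Limits AlgebraicGeometry Opposite
open AlgSp

namespace K601.StageQuot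

variable {S : Scheme.{u}}

theorem locP_etale_lft {X Y : Sp S} {f : X ⟶ Y} (h : LocP @Etale f) : LocP @LocallyOfFiniteType f :=
  K597.locP_mono (fun _ _ g hg => by
    have : Etale g := hg
    change LocallyOfFiniteType g
    infer_instance) h

theorem locP_etale_lfp {X Y : Sp S} {f : X ⟶ Y} (h : LocP @Etale f) : LocP @LocallyOfFinitePresentation f :=
  K597.locP_mono (fun _ _ g hg => by
    have : Etale g := hg
    change LocallyOfFinitePresentation g
    infer_instance) h

/-- The projections of the kernel pair of a chart are surjective. -/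
theorem surjective_of_kernelPair {F : Sp S} {V R : Over S} {p : (yon S).obj V ⟶ F} {s t : R ⟶ V}
    (h : IsPullback ((yon S).map t) ((yon S).map s) p p) : Surjective s.left := by
  obtain ⟨e, he⟩ := (yon S).map_surjective (h.lift (𝟙 _) (𝟙 _) rfl)
  have h1 : e ≫ s = 𝟙 V := (yon S).map_injective (by
    rw [Functor.map_comp, he, h.lift_snd]
    exact ((yon S).map_id V).symm)
  have h2 : e.left ≫ s.left = 𝟙 V.left := congrArg CommaMorphism.left h1
  refine ⟨fun x => ⟨e.left x, ?_⟩⟩
  rw [← Scheme.Hom.comp_apply, h2]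
  rfl

/-- A locally surjective map from an algebraic space with etale kernel pair: the target is an algebraic space and the
charts of the source are charts of the target. -/
theorem chart_of_kernelPair {F U R : Sp S} (hU : IsAlgSpace U) (hR : IsAlgSpace R) {q : U ⟶ F}
    [Sheaf.IsLocallySurjective q] {s t : R ⟶ U} (h : IsPullback t s q q) (hs : LocP @Etale s) (ht : LocP @Etale t)
    {V : Over S} {a : (yon S).obj V ⟶ U} (ha : RepWith @Etale a) (has : RepWith @Surjective a) :
    IsAlgSpace F ∧ RepWith @Etale (a ≫ q) ∧ RepWith @Surjective (a ≫ q) := by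
  obtain ⟨R', s', t', h', hs1, ht1⟩ := K607.SpKer.exists_kernelPair hU hR h ha (locP_etale_lft hs)
  have : Sheaf.IsLocallySurjective a := K594.Basic.isLocallySurjective_of_etale a ha has
  exact K594.Bootstrap.isAlgSpace_of_kernelPair (a ≫ q) h' (hs1 _ K597.etLoc_etale hs) (ht1 _ K597.etLoc_etale ht)
    (surjective_of_kernelPair h')

/-- Quasi-separatedness of the target of an etale surjective map with quasi-compact kernel pair. -/
theorem isQuasiSeparatedSp_of_kernelPair [QuasiSeparatedSpace S] {F U R : Sp S} (hU : IsAlgSpace U)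
    (hR : IsAlgSpace R) {q : U ⟶ F} [Sheaf.IsLocallySurjective q] {s t : R ⟶ U} (h : IsPullback t s q q)
    (hs : LocP @Etale s) (ht : LocP @Etale t) (hUc : IsQuasiCompactSp U) (hUs : IsQuasiSeparatedSp U)
    (hRc : IsQuasiCompactSp R) : IsQuasiSeparatedSp F := by
  obtain ⟨V, a, hV, ha, has⟩ := K600.LimAff.exists_affine_chart hUc
  obtain ⟨hF, h1, h2⟩ := chart_of_kernelPair hU hR h hs ht ha has
  obtain ⟨R', s', t', h', -, -⟩ := K607.SpKer.exists_kernelPair hU hR h ha (locP_etale_lft hs)
  have hVA := IsAlgSpace.yon_obj V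
  have hVc : IsQuasiCompactSp ((yon S).obj V) := K596.QC.isQuasiCompactSp_yon V
  -- the fibre products
  have k1 := IsPullback.of_hasPullback a t
  have A1 : IsAlgSpace (pullback a t) := K613.Chart.isAlgSpace_pullback hVA hR hU a t
  have c1 : IsQuasiCompactSp (pullback a t) :=
    K596.QC2.isQuasiCompactMor_of_qc_of_qs hVA hU a hVc hUs hR hRc t _ _ k1
  have k2 := IsPullback.of_hasPullback (pullback.snd a t ≫ s) a
  have A2 : IsAlgSpace (pullback (pullback.snd a t ≫ s) a) := K613.Chart.isAlgSpace_pullback A1 hVA hU _ _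
  have c2 : IsQuasiCompactSp (pullback (pullback.snd a t ≫ s) a) :=
    K596.QC2.isQuasiCompactMor_of_qc_of_qs A1 hU _ c1 hUs hVA hVc a _ _ k2
  have k3 : IsPullback (pullback.fst a t) (pullback.snd a t ≫ s) (a ≫ q) q :=
    (k1.flip.paste_horiz h.flip).flip
  have k4 := k2.paste_horiz k3
  have c3 : IsQuasiCompactSp ((yon S).obj R') :=
    K596.QC2.isQuasiCompactSp_of_iso (IsAlgSpace.yon_obj R') (k4.isoIsPullback _ _ h') c2
  have : CompactSpace R'.left := K596.QC.compactSpace_of_isQuasiCompactSp c3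
  have : QuasiCompact t'.left := inferInstance
  exact K609.Sep.isQuasiSeparatedSp_of_chart hF h1 h2 h'

theorem isQuasiCompactSp_of_kernelPair {F U R : Sp S} (hU : IsAlgSpace U)
    (hR : IsAlgSpace R) {q : U ⟶ F} [Sheaf.IsLocallySurjective q] {s t : R ⟶ U} (h : IsPullback t s q q)
    (hs : LocP @Etale s) (ht : LocP @Etale t) (hUc : IsQuasiCompactSp U) : IsQuasiCompactSp F := by
  obtain ⟨V, a, hV, ha, has⟩ := K600.LimAff.exists_affine_chart hUc
  obtain ⟨hF, h1, h2⟩ := chart_of_kernelPair hU hR h hs ht ha has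
  exact ⟨V, a ≫ q, h1, h2, (inferInstance : CompactSpace V.left)⟩

/-- etale quotient maps are fppf locally surjective. -/
theorem fSurj_of_kernelPair {F U R : Sp S} (hU : IsAlgSpace U) (hR : IsAlgSpace R) {q : U ⟶ F}
    [Sheaf.IsLocallySurjective q] {s t : R ⟶ U} (h : IsPullback t s q q) (hs : LocP @Etale s) (ht : LocP @Etale t) :
    K613.Cover.FSurj q := by
  obtain ⟨V, a, ha, has⟩ := hU.atlas
  obtain ⟨hF, h1, h2⟩ := chart_of_kernelPair hU hR h hs ht ha has
  exact K613.Cover.FSurj.of_comp (K613.Cover.ESurj.of_repWith h1 h2).fSurj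

/-- A property local on the source for the etale topology passes from `U ⟶ B` to `U/R ⟶ B`. -/
theorem locP_of_kernelPair {P : MorphismProperty Scheme.{u}} [P.IsStableUnderBaseChange] (hP : K597.EtLoc P)
    {F U R B : Sp S} (hU : IsAlgSpace U) (hR : IsAlgSpace R)
    (hB : IsAlgSpace B) {q : U ⟶ F} [Sheaf.IsLocallySurjective q] {s t : R ⟶ U} (h : IsPullback t s q q)
    (hs : LocP @Etale s) (ht : LocP @Etale t) {x : F ⟶ B} (hx : LocP P (q ≫ x)) : LocP P x := by
  obtain ⟨V, a, ha, has⟩ := hU.atlas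
  obtain ⟨hF, h1, h2⟩ := chart_of_kernelPair hU hR h hs ht ha has
  refine K597.locP_of_source hP (IsAlgSpace.yon_obj V).hasAtlas hB.hasAtlas h1 h2 ?_
  rw [Category.assoc]
  exact K597.locP_precomp ha hx

/-- Base change of a quotient is the quotient. -/
theorem exists_isPullback {B B' X U R U' R' X₀ : Sp S} {β : B' ⟶ B} {x₀ : X₀ ⟶ B} {q : U ⟶ X₀} {u : U ⟶ B}
    (hq : q ≫ x₀ = u) {s t : R ⟶ U} (sqK : IsPullback t s q q) (hqF : K613.Cover.FSurj q) {f : X ⟶ B'}
    {p : U' ⟶ X} {s' t' : R' ⟶ U'} (sqK' : IsPullback t' s' p p) (hp : K613.Cover.FSurj p) {qU : U' ⟶ U}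
    {u' : U' ⟶ B'} (hpf : p ≫ f = u') (sqU : IsPullback qU u' u β) {qR : R' ⟶ R} (sqR : IsPullback qR s' s qU)
    (ct : t' ≫ qU = qR ≫ t) : ∃ g : X ⟶ X₀, IsPullback g f x₀ β := by
  have sqF := IsPullback.of_hasPullback x₀ β
  let q' : U' ⟶ pullback x₀ β := pullback.lift (qU ≫ q) u' (by rw [Category.assoc, hq, sqU.w])
  have hq1 : q' ≫ pullback.fst x₀ β = qU ≫ q := pullback.lift_fst _ _ _
  have hq2 : q' ≫ pullback.snd x₀ β = u' := pullback.lift_snd _ _ _
  have sqQ : IsPullback qU q' q (pullback.fst x₀ β) := by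
    refine IsPullback.of_bot (v₂₁ := pullback.snd x₀ β) (v₂₂ := x₀) (h₃₁ := β) ?_ hq1.symm sqF
    rw [hq2, hq]
    exact sqU
  have hst : s' ≫ u' = t' ≫ u' := by rw [← hpf, ← Category.assoc, ← Category.assoc, sqK'.w]
  have sqK2 : IsPullback t' s' q' q' := by
    have h1 : IsPullback (qR ≫ t) s' q (qU ≫ q) := sqR.paste_horiz sqK
    rw [← ct, ← hq1] at h1
    refine IsPullback.of_right h1 ?_ sqQ
    apply pullback.hom_ext
    · rw [Category.assoc, Category.assoc, hq1, ← Category.assoc, ct, Category.assoc, sqK.w, ← Category.assoc,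
        sqR.w, Category.assoc]
    · rw [Category.assoc, Category.assoc, hq2, hst]
  obtain ⟨e, he⟩ := K610.Coeq.exists_iso hp (hqF.of_isPullback sqQ) sqK' sqK2
  have := hp.epi
  have he' : p ≫ e.inv = q' := by rw [← he, Category.assoc, e.hom_inv_id, Category.comp_id]
  refine ⟨e.inv ≫ pullback.fst x₀ β, sqF.of_iso e (Iso.refl _) (Iso.refl _) (Iso.refl _) ?_ ?_ ?_ ?_⟩
  · rw [Iso.refl_hom, Category.comp_id, ← Category.assoc, e.hom_inv_id, Category.id_comp]
  · rw [Iso.refl_hom, Category.comp_id]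
    rw [← cancel_epi e.inv, ← Category.assoc, e.inv_hom_id, Category.id_comp, ← cancel_epi p, hpf,
      ← Category.assoc, he', hq2]
  · simp
  · simp

end K601.StageQuot
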