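import Groth.Agent.AlgSp.K601.PDLoc
import Groth.Agent.AlgSp.K601.StageQuot
import Groth.Agent.AlgSp.K601.RelDesc

/-!
# Effectivity of descent data on etale spaces which have enough compatible sections
-/

set_option autoImplicit false
set_option backward.isDefEq.respectTransparency false
universe u

open CategoryTheory CategoryTheory.Limits AlgebraicGeometry Opposite
open AlgSp

namespace K601.PD

open K635.EtTop

variable {S : Scheme.{u}} {X Y U W : Sp S} {f : X ⟶ Y} {u : U ⟶ X} {e : W ⟶ Y}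

/-- `w` and `w'` give the same section. -/
def SameSec (σ : Sec f u e) {T : Sp S} (w w' : T ⟶ W) : Prop :=
  ∀ {T' : Sp S} (t : T' ⟶ T) (x : T' ⟶ X) (h : x ≫ f = (t ≫ w) ≫ e) (h' : x ≫ f = (t ≫ w') ≫ e),
    σ.ev x (t ≫ w) h = σ.ev x (t ≫ w') h'

/-- The locus where two values of the parameter give the same section. -/
theorem exists_rel (hX : IsAlgSpace X) (hY : IsAlgSpace Y) (hf : IsUnivClosedMor f) (hU : IsAlgSpace U)
    (hu : IsEtaleMor u) (hW : IsAlgSpace W) (σ : Sec f u e) :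
    ∃ (R : Sp S) (i : R ⟶ pullback e e), RepWith @IsOpenImmersion i ∧
      ∀ {T : Sp S} (w w' : T ⟶ W) (hw : w ≫ e = w' ≫ e),
        (∃ r : T ⟶ R, r ≫ i = pullback.lift w w' hw) ↔ SameSec σ w w' := by
  have hW₂ : IsAlgSpace (pullback e e) := K613.Chart.isAlgSpace_pullback hW hW hY _ _
  obtain ⟨E, hE⟩ : ∃ E : pullback e e ⟶ Y, E = pullback.fst e e ≫ e := ⟨_, rfl⟩
  obtain ⟨q, hq⟩ : ∃ q, q = pullback.snd f E := ⟨_, rfl⟩
  have hZ : IsAlgSpace (pullback f E) := K613.Chart.isAlgSpace_pullback hX hW₂ hY _ _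
  have hqc : IsUnivClosedMor q := by
    rw [hq]
    exact K596.ClosedQC.isUnivClosedMor_of_isPullback (IsPullback.of_hasPullback f E) hf
  have h1 : pullback.fst f E ≫ f = (q ≫ pullback.fst e e) ≫ e := by
    rw [hq, pullback.condition, hE, Category.assoc]
  have h2 : pullback.fst f E ≫ f = (q ≫ pullback.snd e e) ≫ e := by
    rw [h1, Category.assoc, Category.assoc, pullback.condition]
  obtain ⟨a, ha⟩ : ∃ a, a = σ.ev _ _ h1 := ⟨_, rfl⟩
  obtain ⟨b, hb⟩ : ∃ b, b = σ.ev _ _ h2 := ⟨_, rfl⟩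
  have hab : a ≫ u = b ≫ u := by rw [ha, hb, Sec.ev_u, Sec.ev_u]
  let A : Set (Points (pullback f E)) := {x | EqAt a b x}
  have hA : IsOpen A := isOpen_eqAt hZ hU hX hu a b hab
  let C : Set (Points (pullback e e)) := Points.map q '' Aᶜ
  have hC : IsClosed C := isClosedMap_of_univ hW₂ hqc _ hA.isClosed_compl
  have hj := K610.Sub.repWith_openPred (X := pullback e e) hC.isOpen_compl
  have hr := K610.Sub.range_openPred (X := pullback e e) Cᶜ
  refine ⟨_, _, hj, fun {T} w w' hw => ⟨?_, fun h => ?_⟩⟩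
  · rintro ⟨r, hr'⟩ T' t x h h'
    obtain ⟨τ, hτ1, hτ2⟩ : ∃ τ : T' ⟶ pullback f E, τ ≫ pullback.fst f E = x ∧
        τ ≫ q = t ≫ pullback.lift w w' hw :=
      ⟨pullback.lift x (t ≫ pullback.lift w w' hw) (by
        rw [hE, Category.assoc, pullback.lift_fst_assoc, h, Category.assoc]), pullback.lift_fst _ _ _, by
        rw [hq, pullback.lift_snd]⟩
    have e1 : σ.ev x (t ≫ w) h = τ ≫ a := by
      rw [ha, Sec.comp_ev]
      exact Sec.ev_congr _ hτ1.symm (by rw [← Category.assoc, hτ2, Category.assoc, pullback.lift_fst]) _ _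
    have e2 : σ.ev x (t ≫ w') h' = τ ≫ b := by
      rw [hb, Sec.comp_ev]
      exact Sec.ev_congr _ hτ1.symm (by rw [← Category.assoc, hτ2, Category.assoc, pullback.lift_snd]) _ _
    rw [e1, e2]
    refine eq_of_points hU hX hu _ _ (by rw [Category.assoc, Category.assoc, hab]) fun z => ?_
    rw [eqAt_comp_iff]
    by_contra hc
    have h3 : Points.map q (Points.map τ z) ∈ C := ⟨_, hc, rfl⟩
    have h4 : Points.map q (Points.map τ z) ∈ Cᶜ := by
      rw [← hr, ← Points.map_comp, hτ2, ← hr', Points.map_comp, Points.map_comp]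
      exact ⟨_, rfl⟩
    exact h4 h3
  · refine exists_lift_of_range hj _ fun x => ?_
    rw [hr]
    rintro ⟨z, hz, hzx⟩
    obtain ⟨y, hy1, hy2⟩ := K616.Refine.exists_point_of_isPullback
      (IsPullback.of_hasPullback q (pullback.lift w w' hw)) z x hzx
    refine hz ⟨_, pullback.fst _ _, y, hy1, ?_⟩
    have hc := pullback.condition (f := q) (g := pullback.lift w w' hw)
    have hc1 : pullback.fst q (pullback.lift w w' hw) ≫ q ≫ pullback.fst e e = pullback.snd _ _ ≫ w := by
      rw [← Category.assoc, hc, Category.assoc, pullback.lift_fst]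
    have hc2 : pullback.fst q (pullback.lift w w' hw) ≫ q ≫ pullback.snd e e = pullback.snd _ _ ≫ w' := by
      rw [← Category.assoc, hc, Category.assoc, pullback.lift_snd]
    rw [ha, hb, Sec.comp_ev, Sec.comp_ev]
    exact (Sec.ev_congr _ rfl hc1 _ _).trans ((h (pullback.snd _ _) _ (by
      rw [← hc1, Category.assoc, h1]; simp only [Category.assoc]) (by
      rw [← hc2, Category.assoc, h2]; simp only [Category.assoc])).trans (Sec.ev_congr _ rfl hc2 _ _).symm)

theorem SameSec.comp {σ : Sec f u e} {T T' : Sp S} {w w' : T ⟶ W} (h : SameSec σ w w') (t : T' ⟶ T) :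
    SameSec σ (t ≫ w) (t ≫ w') := by
  intro T'' t' x h1 h2
  exact (Sec.ev_congr σ rfl (Category.assoc t' t w).symm h1 (by rw [h1]; simp only [Category.assoc])).trans
    ((h (t' ≫ t) x _ _).trans (Sec.ev_congr σ rfl (Category.assoc t' t w') (by rw [h2]; simp only [Category.assoc]) h2))

theorem sameSec_of_eq {D : DD f u} {σ : Sec f u e} (hσ : D.Compat σ) {T : Sp S} {w w' : T ⟶ W} (x : T ⟶ X)
    (h : x ≫ f = w ≫ e) (h' : x ≫ f = w' ≫ e) (heq : σ.ev x w h = σ.ev x w' h') : SameSec σ w w' := by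
  intro T' t x' h1 h2
  rw [← hσ (t ≫ x) x' (t ≫ w) (by rw [Category.assoc, h, Category.assoc]) h1 (by rw [← Category.assoc, Sec.ev_u,
    Category.assoc, h, h1, Category.assoc]), ← hσ (t ≫ x) x' (t ≫ w') (by rw [Category.assoc, h', Category.assoc]) h2
    (by rw [← Category.assoc, Sec.ev_u, Category.assoc, h', h2, Category.assoc])]
  exact D.congr (by rw [← Sec.comp_ev σ t x w h, ← Sec.comp_ev σ t x w' h', heq]) rfl _ _

/-- Base change of a quotient is the quotient (with the map). -/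
theorem exists_isPullback' {B B' X U R U' R' X₀ : Sp S} {β : B' ⟶ B} {x₀ : X₀ ⟶ B} {q : U ⟶ X₀} {u : U ⟶ B}
    (hq : q ≫ x₀ = u) {s t : R ⟶ U} (sqK : IsPullback t s q q) (hqF : K613.Cover.FSurj q) {f : X ⟶ B'}
    {p : U' ⟶ X} {s' t' : R' ⟶ U'} (sqK' : IsPullback t' s' p p) (hp : K613.Cover.FSurj p) {qU : U' ⟶ U}
    {u' : U' ⟶ B'} (hpf : p ≫ f = u') (sqU : IsPullback qU u' u β) {qR : R' ⟶ R} (sqR : IsPullback qR s' s qU)
    (ct : t' ≫ qU = qR ≫ t) : ∃ g : X ⟶ X₀, IsPullback g f x₀ β ∧ p ≫ g = qU ≫ q := by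
  have sqF := IsPullback.of_hasPullback x₀ β
  let q' : U' ⟶ pullback x₀ β := pullback.lift (qU ≫ q) u' (by rw [Category.assoc, hq, sqU.w])
  have hq1 : q' ≫ pullback.fst x₀ β = qU ≫ q := pullback.lift_fst _ _ _
  have hq2 : q' ≫ pullback.snd x₀ β = u' := pullback.lift_snd _ _ _
  have sqQ : IsPullback qU q' q (pullback.fst x₀ β) := by
    refine IsPullback.of_bot (v₂₁ := pullback.snd x₀ β) (v₂₂ := x₀) (h₃₁ := β) ?_ hq1.symm sqF
    rw [hq2, hq]
    exact sqU
  have hst : s' ≫ u' = t' ≫ u' := by rw [← hpf, ← Category.assoc, ← Category.assoc, sqK'.w]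
  have sqK2 : IsPullback t' s' q' q' := by
    have h1 : IsPullback (qR ≫ t) s' q (qU ≫ q) := sqR.paste_horiz sqK
    rw [← ct, ← hq1] at h1
    refine IsPullback.of_right h1 ?_ sqQ
    apply pullback.hom_ext
    · rw [Category.assoc, Category.assoc, hq1, ← Category.assoc, ct, Category.assoc, sqK.w, ← Category.assoc,
        sqR.w, Category.assoc]
    · rw [Category.assoc, Category.assoc, hq2, hst]
  obtain ⟨e, he⟩ := K610.Coeq.exists_iso hp (hqF.of_isPullback sqQ) sqK' sqK2
  have := hp.epi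
  have he' : p ≫ e.inv = q' := by rw [← he, Category.assoc, e.hom_inv_id, Category.comp_id]
  refine ⟨e.inv ≫ pullback.fst x₀ β, sqF.of_iso e (Iso.refl _) (Iso.refl _) (Iso.refl _) ?_ ?_ ?_ ?_, ?_⟩
  · rw [Iso.refl_hom, Category.comp_id, ← Category.assoc, e.hom_inv_id, Category.id_comp]
  · rw [Iso.refl_hom, Category.comp_id]
    rw [← cancel_epi e.inv, ← Category.assoc, e.inv_hom_id, Category.id_comp, ← cancel_epi p, hpf,
      ← Category.assoc, he', hq2]
  · simp
  · simp
  · rw [← Category.assoc, he', hq1]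

/-- **Effectivity** from a surjective compatible section. -/
theorem exists_quot (hX : IsAlgSpace X) (hY : IsAlgSpace Y) (hf : IsUnivClosedMor f) (hU : IsAlgSpace U)
    (hu : IsEtaleMor u) (hW : IsAlgSpace W) (he : IsEtaleMor e) (D : DD f u) (σ : Sec f u e) (hσ : D.Compat σ)
    (hs : Function.Surjective (Points.map σ.s)) :
    ∃ (V : Sp S) (v : V ⟶ Y) (g : U ⟶ V), IsAlgSpace V ∧ IsEtaleMor v ∧ IsPullback g u v f ∧
      ∀ {T : Sp S} (p : T ⟶ U) (x : T ⟶ X) (h : p ≫ u ≫ f = x ≫ f), D.tr p x h ≫ g = p ≫ g := by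
  obtain ⟨R, i, hi, hR⟩ := exists_rel hX hY hf hU hu hW σ
  have him : Mono i := K610.Factor.mono_of_isOpenImmersion hi
  have hW₂ : IsAlgSpace (pullback e e) := K613.Chart.isAlgSpace_pullback hW hW hY _ _
  have hRA : IsAlgSpace R := K610.Sub.isAlgSpace_of_mono (j := i) hi.1 hW₂
  obtain ⟨t, ht⟩ : ∃ t, t = i ≫ pullback.fst e e := ⟨_, rfl⟩
  obtain ⟨s, hs'⟩ : ∃ s, s = i ≫ pullback.snd e e := ⟨_, rfl⟩
  have hte : t ≫ e = s ≫ e := by rw [ht, hs', Category.assoc, Category.assoc, pullback.condition]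
  have hie : IsEtaleMor i := fun V φ hφ => K610.EtaleMor.comp_etale hφ (K610.OpenImm.repWith_etale_of_open hi)
  have htE : IsEtaleMor t := by
    rw [ht]
    exact isEtaleMor_comp' hie (K610.EtaleMor.isEtaleMor_baseChange hW hW₂ hW (IsPullback.of_hasPullback e e) he)
  have hsE : IsEtaleMor s := by
    rw [hs']
    exact isEtaleMor_comp' hie (K610.EtaleMor.isEtaleMor_baseChange hW hW₂ hW (IsPullback.of_hasPullback e e).flip he)
  have key : ∀ {T : Sp S} (w w' : T ⟶ W), (∃ r : T ⟶ R, r ≫ t = w ∧ r ≫ s = w') ↔ w ≫ e = w' ≫ e ∧ SameSec σ w w' := by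
    intro T w w'
    constructor
    · rintro ⟨r, rfl, rfl⟩
      have hw : (r ≫ t) ≫ e = (r ≫ s) ≫ e := by rw [Category.assoc, hte, Category.assoc]
      refine ⟨hw, (hR _ _ hw).1 ⟨r, ?_⟩⟩
      apply pullback.hom_ext
      · rw [Category.assoc, pullback.lift_fst, ht]
      · rw [Category.assoc, pullback.lift_snd, hs']
    · rintro ⟨hw, h⟩
      obtain ⟨r, hr⟩ := (hR _ _ hw).2 h
      exact ⟨r, by rw [ht, ← Category.assoc, hr, pullback.lift_fst], by rw [hs', ← Category.assoc, hr,
        pullback.lift_snd]⟩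
  have hinj : ∀ {T : Sp S} (r r' : T ⟶ R), r ≫ t = r' ≫ t → r ≫ s = r' ≫ s → r = r' := by
    intro T r r' h1 h2
    rw [← cancel_mono i]
    apply pullback.hom_ext
    · rw [Category.assoc, Category.assoc, ← ht, h1]
    · rw [Category.assoc, Category.assoc, ← hs', h2]
  have hEq : IsEqvRelSp s t := by
    refine ⟨fun T r r' h1 h2 => hinj r r' h1 h2, fun T => ⟨fun w => (key w w).2 ⟨rfl, fun _ _ _ _ => rfl⟩,
      fun {w w'} h => ?_, fun {w w' w''} h h' => ?_⟩⟩
    · obtain ⟨h1, h2⟩ := (key _ _).1 h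
      exact (key _ _).2 ⟨h1.symm, fun t x a b => (h2 t x b a).symm⟩
    · obtain ⟨h1, h2⟩ := (key _ _).1 h
      obtain ⟨h3, h4⟩ := (key _ _).1 h'
      exact (key _ _).2 ⟨h1.trans h3, fun t x a b => (h2 t x a (by rw [a, Category.assoc, h1, Category.assoc])).trans
        (h4 t x _ b)⟩
  have sqK := K607.SpQuot.isPullback_quotSpπ hEq
  have hsL : LocP @Etale s := K597.locP_etale_of_isEtaleMor hsE
  have htL : LocP @Etale t := K597.locP_etale_of_isEtaleMor htE
  have hV : IsAlgSpace (quotSp s t) := by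
    obtain ⟨V, a, ha, has⟩ := hW.atlas
    exact (K601.StageQuot.chart_of_kernelPair hW hRA sqK hsL htL ha has).1
  let v : quotSp s t ⟶ Y := quotSpDesc e hte.symm
  have hv : quotSpπ s t ≫ v = e := quotSpπ_desc _ _ _ _
  have hvE : IsEtaleMor v := by
    refine K597.isEtaleMor_of_locP_etale K597.etLoc_etale hY ?_
    refine K601.StageQuot.locP_of_kernelPair K597.etLoc_etale hW hRA hY sqK hsL htL ?_
    rw [hv]
    exact K597.locP_etale_of_isEtaleMor he
  -- the cover of `U`
  have hXW : IsAlgSpace (pullback f e) := K613.Chart.isAlgSpace_pullback hX hW hY f e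
  have hσE : IsEtaleMor σ.s := by
    refine K610.EtaleMor.isEtaleMor_of_comp hXW hU ?_ hu
    rw [σ.s_u]
    exact K610.EtaleMor.isEtaleMor_baseChange hW hXW hX (IsPullback.of_hasPullback f e) he
  have hσF : K613.Cover.FSurj σ.s := K601.RelDesc.fSurj_of_etale_surjective hXW hσE hs
  -- the kernel pair
  have hcond := pullback.condition (f := σ.s) (g := σ.s)
  have hcu : pullback.fst σ.s σ.s ≫ pullback.fst f e = pullback.snd σ.s σ.s ≫ pullback.fst f e := by
    have := congrArg (fun k => k ≫ u) hcond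
    simpa only [Category.assoc, σ.s_u] using this
  obtain ⟨qR, hq1, hq2⟩ := (key (pullback.fst σ.s σ.s ≫ pullback.snd f e) (pullback.snd σ.s σ.s ≫ pullback.snd f e)).2
    ⟨by rw [Category.assoc, ← pullback.condition, ← Category.assoc, hcu, Category.assoc, pullback.condition,
      Category.assoc], by
      refine sameSec_of_eq hσ (pullback.fst σ.s σ.s ≫ pullback.fst f e) (by
        rw [Category.assoc, pullback.condition, Category.assoc]) (by
        rw [hcu, Category.assoc, pullback.condition, Category.assoc]) ?_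
      rw [← Sec.comp_s, hcond, Sec.comp_s]
      exact Sec.ev_congr _ hcu.symm rfl _ _⟩
  have sqR : IsPullback qR (pullback.snd σ.s σ.s) s (pullback.snd f e) := by
    have hlift : ∀ {T : Sp S} (r : T ⟶ R) (z : T ⟶ pullback f e) (h : r ≫ s = z ≫ pullback.snd f e),
        ∃ m : T ⟶ pullback σ.s σ.s, m ≫ qR = r ∧ m ≫ pullback.snd σ.s σ.s = z := by
      intro T r z h
      have hz : (z ≫ pullback.fst f e) ≫ f = (r ≫ t) ≫ e := by
        rw [Category.assoc, pullback.condition, Category.assoc, hte, ← Category.assoc, ← h, Category.assoc]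
      obtain ⟨z', hz1, hz2⟩ : ∃ z' : T ⟶ pullback f e, z' ≫ pullback.fst f e = z ≫ pullback.fst f e ∧
          z' ≫ pullback.snd f e = r ≫ t := ⟨pullback.lift _ _ hz, pullback.lift_fst _ _ _, pullback.lift_snd _ _ _⟩
      have hzz : z' ≫ σ.s = z ≫ σ.s := by
        rw [Sec.comp_s, Sec.comp_s]
        have h1 := ((key (r ≫ t) (r ≫ s)).1 ⟨r, rfl, rfl⟩).2 (𝟙 _) (z ≫ pullback.fst f e) (by
          rw [hz, Category.id_comp]) (by rw [hz, Category.id_comp, Category.assoc, hte, Category.assoc])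
        exact (Sec.ev_congr _ hz1 (by rw [hz2, Category.id_comp]) _ _).trans (h1.trans
          (Sec.ev_congr _ rfl (by rw [Category.id_comp, h]) _ _))
      refine ⟨pullback.lift z' z hzz, hinj _ _ ?_ ?_, pullback.lift_snd _ _ _⟩
      · rw [Category.assoc, hq1, ← Category.assoc, pullback.lift_fst, hz2]
      · rw [Category.assoc, hq2, ← Category.assoc, pullback.lift_snd, h]
    refine ⟨⟨hq2⟩, ⟨PullbackCone.IsLimit.mk _ (fun c => (hlift c.fst c.snd c.condition).choose)
      (fun c => (hlift c.fst c.snd c.condition).choose_spec.1)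
      (fun c => (hlift c.fst c.snd c.condition).choose_spec.2) (fun c m h1 h2 => ?_)⟩⟩
    obtain ⟨h3, h4⟩ := (hlift c.fst c.snd c.condition).choose_spec
    revert h3 h4
    generalize (hlift c.fst c.snd c.condition).choose = m'
    intro h3 h4
    have h5 : m ≫ pullback.snd σ.s σ.s = m' ≫ pullback.snd σ.s σ.s := h2.trans h4.symm
    have h6 : m ≫ qR = m' ≫ qR := h1.trans h3.symm
    apply pullback.hom_ext
    · apply pullback.hom_ext
      · rw [Category.assoc, Category.assoc, hcu, ← Category.assoc, h5, Category.assoc]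
      · rw [Category.assoc, Category.assoc, ← hq1, ← Category.assoc, h6, Category.assoc]
    · exact h5
  have hπF : K613.Cover.FSurj (quotSpπ s t) := K601.StageQuot.fSurj_of_kernelPair hW hRA sqK hsL htL
  obtain ⟨g, hg, hsg⟩ := exists_isPullback' hv sqK hπF (IsPullback.of_hasPullback σ.s σ.s) hσF σ.s_u
    (IsPullback.of_hasPullback f e).flip sqR hq1.symm
  refine ⟨_, v, g, hV, hvE, hg, fun {T} p x h => ?_⟩
  have hev : ∀ {T : Sp S} (x : T ⟶ X) (w : T ⟶ W) (h : x ≫ f = w ≫ e), σ.ev x w h ≫ g = w ≫ quotSpπ s t := by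
    intro T x w h
    rw [Sec.ev, Category.assoc, hsg, ← Category.assoc, pullback.lift_snd]
  have := (hσF.of_isPullback (IsPullback.of_hasPullback p σ.s).flip).epi
  rw [← cancel_epi (pullback.fst p σ.s), ← Category.assoc, D.comp_tr _ _ _ _ (by
    rw [Category.assoc, h, Category.assoc]), ← Category.assoc (pullback.fst p σ.s) p g]
  have h1 : pullback.fst p σ.s ≫ p = σ.ev (pullback.snd p σ.s ≫ pullback.fst f e)
      (pullback.snd p σ.s ≫ pullback.snd f e) (by
        rw [Category.assoc, pullback.condition, Category.assoc]) := by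
    rw [pullback.condition, Sec.comp_s]
  have h2 : (pullback.fst p σ.s ≫ x) ≫ f = (pullback.snd p σ.s ≫ pullback.snd f e) ≫ e := by
    rw [Category.assoc, ← h, ← Category.assoc, h1, Sec.ev_u_assoc, Category.assoc, pullback.condition,
      Category.assoc]
  rw [D.congr h1 rfl _ (by rw [Sec.ev_u_assoc, Category.assoc, pullback.condition, h2, Category.assoc]),
    hσ _ _ _ _ h2 _, hev, h1, hev]

end K601.PD
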