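import Groth.Agent.AlgSp.K635.Glue
import Groth.Agent.AlgSp.K635.EtTop
import Groth.Agent.Sga4A.EtDescD
import Groth.Agent.S3051
import Groth.Agent.AlgSp.K601.PDPts

/-!
# The sheaf of sets on the small etale site of a scheme attached to an etale algebraic space
-/

set_option autoImplicit false
set_option backward.isDefEq.respectTransparency false
universe u

open CategoryTheory CategoryTheory.Limits AlgebraicGeometry Opposite
open AlgSp

namespace K601.PD

open Groth.Agent.Sga4A.EtStalk EtDesc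

variable {S : Scheme.{u}}

/-- An etale `X`-scheme as a scheme over `S`. -/
abbrev ov (X : Over S) (W : X.left.Etale) : Over S := Over.mk (W.hom ≫ X.hom)

/-- the structure map -/
abbrev ovπ (X : Over S) (W : X.left.Etale) : ov X W ⟶ X := Over.homMk W.hom rfl

theorem etale_w {X : Scheme.{u}} {V W : X.Etale} (g : V ⟶ W) : g.left ≫ W.hom = V.hom := Over.w g.hom

/-- a morphism of the small etale site as a morphism over `S` -/
abbrev ovm (X : Over S) {V W : X.left.Etale} (g : V ⟶ W) : ov X V ⟶ ov X W :=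
  Over.homMk g.left (by
    change g.left ≫ W.hom ≫ X.hom = V.hom ≫ X.hom
    rw [← Category.assoc, etale_w g])

theorem ovm_π (X : Over S) {V W : X.left.Etale} (g : V ⟶ W) : ovm X g ≫ ovπ X W = ovπ X V :=
  Over.OverMorphism.ext (etale_w g)

variable {X : Over S} {U : Sp S}

/-- The presheaf of sections of `U` over etale `X`-schemes. -/
noncomputable def secPre (u : U ⟶ (yon S).obj X) : X.left.Etaleᵒᵖ ⥤ Type (u + 1) where
  obj W := { s : (yon S).obj (ov X W.unop) ⟶ U // s ≫ u = (yon S).map (ovπ X W.unop) }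
  map g := TypeCat.ofHom fun s => ⟨(yon S).map (ovm X g.unop) ≫ s.1, by
    rw [Category.assoc, s.2, ← Functor.map_comp, ovm_π]⟩
  map_id W := by
    refine ConcreteCategory.hom_ext _ _ fun s => Subtype.ext ?_
    change (yon S).map (𝟙 _) ≫ s.1 = s.1
    rw [CategoryTheory.Functor.map_id, Category.id_comp]
  map_comp g h := by
    refine ConcreteCategory.hom_ext _ _ fun s => Subtype.ext ?_
    change (yon S).map (ovm X (h.unop ≫ g.unop)) ≫ s.1 = (yon S).map (ovm X h.unop) ≫ (yon S).map (ovm X g.unop) ≫ s.1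
    rw [← Category.assoc, ← Functor.map_comp]
    rfl

theorem isSheaf_secPre (u : U ⟶ (yon S).obj X) : Presheaf.IsSheaf X.left.smallEtaleTopology (secPre u) := by
  rw [isSheaf_iff_isSheaf_of_type]
  intro W R hR x hx
  rw [Groth.Agent.Etbase.EtSite.mem_iff] at hR
  choose V g v hg hv using hR
  have hgf : ∀ i, Flat (ovm X (g i)).left := fun i => by
    have : Etale (g i).left := inferInstance
    exact inferInstanceAs (Flat (g i).left)
  have hgp : ∀ i, LocallyOfFinitePresentation (ovm X (g i)).left := fun i => by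
    have : Etale (g i).left := inferInstance
    exact inferInstanceAs (LocallyOfFinitePresentation (g i).left)
  have hcomp : ∀ ⦃V₁ V₂ Z : X.left.Etale⦄ (g₁ : Z ⟶ V₁) (g₂ : Z ⟶ V₂) (f₁ : V₁ ⟶ W) (f₂ : V₂ ⟶ W) (h₁ : R f₁)
      (h₂ : R f₂), g₁ ≫ f₁ = g₂ ≫ f₂ →
      (yon S).map (ovm X g₁) ≫ (x f₁ h₁).1 = (yon S).map (ovm X g₂) ≫ (x f₂ h₂).1 := by
    intro V₁ V₂ Z g₁ g₂ f₁ f₂ h₁ h₂ e
    exact congrArg Subtype.val (hx g₁ g₂ h₁ h₂ e)
  obtain ⟨ψ, hψ, huniq⟩ := K635.Glue.existsUnique_glue_cover U (fun i => ov X (V i)) (fun i => ovm X (g i)) hgf hgp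
    (fun y => ⟨y, v y, hv y⟩) (fun i => (x (g i) (hg i)).1) (by
      intro i j Z a b hab
      have ha : a.left ≫ (g i).left = b.left ≫ (g j).left := congrArg CommaMorphism.left hab
      -- test on the fibre product in the small etale site
      let P : X.left.Etale := pullback (g i) (g j)
      have sq : IsPullback (pullback.fst (g i) (g j)).left (pullback.snd (g i) (g j)).left (g i).left (g j).left :=
        ((IsPullback.of_hasPullback (g i) (g j)).map (Scheme.Etale.forget X.left)).map (Over.forget X.left)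
      let c : Z ⟶ ov X P := Over.homMk (sq.lift a.left b.left ha) (by
        change _ ≫ P.hom ≫ X.hom = _
        have h1 : P.hom = (pullback.fst (g i) (g j)).left ≫ (V i).hom := (etale_w (pullback.fst (g i) (g j))).symm
        rw [h1, Category.assoc, sq.lift_fst_assoc]
        exact Over.w a)
      have hc1 : c ≫ ovm X (pullback.fst (g i) (g j)) = a := Over.OverMorphism.ext (sq.lift_fst _ _ _)
      have hc2 : c ≫ ovm X (pullback.snd (g i) (g j)) = b := Over.OverMorphism.ext (sq.lift_snd _ _ _)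
      rw [← hc1, ← hc2, Functor.map_comp, Functor.map_comp, Category.assoc, Category.assoc,
        hcomp (pullback.fst (g i) (g j)) (pullback.snd (g i) (g j)) (g i) (g j) (hg i) (hg j) pullback.condition])
  have hψu : ψ ≫ u = (yon S).map (ovπ X W) := by
    refine K635.Glue.hom_ext_cover (fun i => ov X (V i)) (fun i => ovm X (g i)) hgf hgp (fun y => ⟨y, v y, hv y⟩)
      fun i => ?_
    rw [← Category.assoc, hψ, (x (g i) (hg i)).2, ← Functor.map_comp, ovm_π]
  refine ⟨⟨ψ, hψu⟩, fun Z f hf => Subtype.ext ?_, fun t ht => Subtype.ext (huniq _ fun i => ?_)⟩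
  · -- restriction to `Z`
    change (yon S).map (ovm X f) ≫ ψ = (x f hf).1
    have key : ∀ i, ∃ (P : X.left.Etale) (a : P ⟶ Z) (b : P ⟶ V i), a ≫ f = b ≫ g i ∧
        IsPullback a.left b.left f.left (g i).left := fun i =>
      ⟨pullback f (g i), pullback.fst _ _, pullback.snd _ _, pullback.condition,
        ((IsPullback.of_hasPullback f (g i)).map (Scheme.Etale.forget X.left)).map (Over.forget X.left)⟩
    choose P a b hab sqP using key
    refine K635.Glue.hom_ext_cover (fun i => ov X (P i)) (fun i => ovm X (a i)) (fun i => ?_) (fun i => ?_)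
      (fun y => ?_) fun i => ?_
    · have : Etale (a i).left := inferInstance
      exact inferInstanceAs (Flat (a i).left)
    · have : Etale (a i).left := inferInstance
      exact inferInstanceAs (LocallyOfFinitePresentation (a i).left)
    · obtain ⟨p, hp, -⟩ := Scheme.exists_preimage_of_isPullback (sqP (f.left y)) y (v (f.left y)) (hv _).symm
      exact ⟨_, p, hp⟩
    · have e : ovm X (a i) ≫ ovm X f = ovm X (b i) ≫ ovm X (g i) :=
        Over.OverMorphism.ext (congrArg (fun k => k.left) (hab i))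
      rw [← Category.assoc, ← Functor.map_comp, e, Functor.map_comp, Category.assoc, hψ]
      exact (hcomp (a i) (b i) f (g i) hf (hg i) (hab i)).symm
  · exact congrArg Subtype.val (ht (g i) (hg i))

/-- The sheaf of sections of `U` on the small etale site of `X`. -/
noncomputable def secSh (u : U ⟶ (yon S).obj X) : Sh X.left := ⟨secPre u, isSheaf_secPre u⟩

/-- underlying map of a section -/
noncomputable def sm {u : U ⟶ (yon S).obj X} {W : X.left.Etale} (s : sect (secSh u) W) : (yon S).obj (ov X W) ⟶ U :=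
  s.1

theorem sm_u {u : U ⟶ (yon S).obj X} {W : X.left.Etale} (s : sect (secSh u) W) :
    sm s ≫ u = (yon S).map (ovπ X W) := s.2

theorem sm_inj {u : U ⟶ (yon S).obj X} {W : X.left.Etale} {s t : sect (secSh u) W} (h : sm s = sm t) : s = t :=
  Subtype.ext h

theorem sm_map {u : U ⟶ (yon S).obj X} {V W : X.left.Etale} (g : V ⟶ W) (s : sect (secSh u) W) :
    sm ((secSh u).obj.map g.op s) = (yon S).map (ovm X g) ≫ sm s := rfl

theorem exists_sm {u : U ⟶ (yon S).obj X} {W : X.left.Etale} (s : (yon S).obj (ov X W) ⟶ U)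
    (hs : s ≫ u = (yon S).map (ovπ X W)) : ∃ t : sect (secSh u) W, sm t = s := ⟨⟨s, hs⟩, rfl⟩

/-- a point of `X` over `S` -/
noncomputable abbrev ptOv (X : Over S) {Ω : Type u} [Field Ω] (ξ : Spec (.of Ω) ⟶ X.left) : Over S := Over.mk (ξ ≫ X.hom)

theorem ptMap_w {X Y : Over S} {f : Y ⟶ X} {Ω : Type u} [Field Ω] {ξ : Spec (.of Ω) ⟶ X.left}
    {l : Spec (.of Ω) ⟶ Y.left} (h : l ≫ f.left = ξ) : l ≫ Y.hom = ξ ≫ X.hom := by
  rw [← h, Category.assoc, Over.w]

/-- a lift of a point -/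
noncomputable abbrev ptMap {X Y : Over S} {f : Y ⟶ X} {Ω : Type u} [Field Ω] {ξ : Spec (.of Ω) ⟶ X.left}
    (l : Spec (.of Ω) ⟶ Y.left) (h : l ≫ f.left = ξ) : ptOv X ξ ⟶ Y := Over.homMk l (ptMap_w h)

/-- Two maps into an etale space which agree at a point agree on an open neighbourhood. -/
theorem exists_open (hU : IsAlgSpace U) {u : U ⟶ (yon S).obj X} (hu : IsEtaleMor u) {T : Over S}
    (a b : (yon S).obj T ⟶ U) (w : a ≫ u = b ≫ u) {P : Over S} (n : P ⟶ T)
    (h : (yon S).map n ≫ a = (yon S).map n ≫ b) :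
    ∃ (E : Over S) (e : E ⟶ T) (m : P ⟶ E), IsOpenImmersion e.left ∧ m ≫ e = n ∧
      (yon S).map e ≫ a = (yon S).map e ≫ b := by
  obtain ⟨E, e, he, hab, huniv, -⟩ := K635.EtTop.exists_equalizer hU (IsAlgSpace.yon_obj X) hu a b w
  obtain ⟨E', e', i, sq⟩ := he.1 (𝟙 _)
  obtain ⟨q, hq⟩ := huniv _ _ h
  have hi : i ≫ e = (yon S).map e' := by rw [sq.w, Category.comp_id]
  have : IsIso i := by
    have := sq.flip.isIso_snd_of_isIso
    exact this
  obtain ⟨m, hm⟩ := (yon S).map_surjective (q ≫ inv i)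
  refine ⟨E', e', m, he.2 _ _ _ sq, (yon S).map_injective ?_, ?_⟩
  · rw [Functor.map_comp, hm, ← hi, Category.assoc, IsIso.inv_hom_id_assoc, hq]
  · rw [← hi, Category.assoc, Category.assoc, hab]

theorem germ_iff (hU : IsAlgSpace U) {u : U ⟶ (yon S).obj X} (hu : IsEtaleMor u) {Ω : Type u} [Field Ω]
    [IsSepClosed Ω] {ξ : Spec (.of Ω) ⟶ X.left} {V W : X.left.Etale} (l : Spec (.of Ω) ⟶ V.left)
    (hl : l ≫ V.hom = ξ) (m : Spec (.of Ω) ⟶ W.left) (hm : m ≫ W.hom = ξ) (s : sect (secSh u) V)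
    (t : sect (secSh u) W) :
    germ (secSh u) l hl s = germ (secSh u) m hm t ↔
      (yon S).map (ptMap (f := ovπ X V) l hl) ≫ sm s = (yon S).map (ptMap (f := ovπ X W) m hm) ≫ sm t := by
  constructor
  · intro h
    obtain ⟨P, a, b, n, hn, ha, hb, e⟩ := (germ_eq_germ_iff _ _ _ _ _ _ _).1 h
    have e' : (yon S).map (ovm X a) ≫ sm s = (yon S).map (ovm X b) ≫ sm t := congrArg sm e
    have h1 : ptMap (f := ovπ X V) l hl = ptMap (f := ovπ X P) n hn ≫ ovm X a := Over.OverMorphism.ext ha.symm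
    have h2 : ptMap (f := ovπ X W) m hm = ptMap (f := ovπ X P) n hn ≫ ovm X b := Over.OverMorphism.ext hb.symm
    rw [h1, h2, Functor.map_comp, Functor.map_comp, Category.assoc, Category.assoc, e']
  · intro h
    obtain ⟨P, a, b, n, hn, ha, hb⟩ := exists_common_nhd l hl m hm
    rw [← germ_res' _ a n hn l hl ha, ← germ_res' _ b n hn m hm hb]
    have h1 : ptMap (f := ovπ X V) l hl = ptMap (f := ovπ X P) n hn ≫ ovm X a := Over.OverMorphism.ext ha.symm
    have h2 : ptMap (f := ovπ X W) m hm = ptMap (f := ovπ X P) n hn ≫ ovm X b := Over.OverMorphism.ext hb.symm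
    rw [h1, h2, Functor.map_comp, Functor.map_comp, Category.assoc, Category.assoc] at h
    obtain ⟨E, e, k, he, hk, hE⟩ := exists_open hU hu ((yon S).map (ovm X a) ≫ sm s) ((yon S).map (ovm X b) ≫ sm t)
      (by rw [Category.assoc, Category.assoc, sm_u, sm_u, ← Functor.map_comp, ← Functor.map_comp, ovm_π, ovm_π])
      (ptMap (f := ovπ X P) n hn) h
    have heE : e.left ≫ P.hom ≫ X.hom = E.hom := Over.w e
    let E' : X.left.Etale := Scheme.Etale.mk (e.left ≫ P.hom)
    let g : E' ⟶ P := MorphismProperty.Over.homMk e.left rfl trivial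
    let i : ov X E' ⟶ E := Over.homMk (𝟙 _) (by
      change 𝟙 _ ≫ E.hom = (e.left ≫ P.hom) ≫ X.hom
      rw [Category.id_comp, Category.assoc, heE])
    have hi : i ≫ e = ovm X g := Over.OverMorphism.ext (Category.id_comp e.left)
    rw [germ_eq_iff]
    refine ⟨E', g, k.left, congrArg CommaMorphism.left hk, sm_inj ?_⟩
    change (yon S).map (ovm X g) ≫ (yon S).map (ovm X a) ≫ sm s = (yon S).map (ovm X g) ≫ (yon S).map (ovm X b) ≫ sm t
    rw [← hi, Functor.map_comp, Category.assoc, Category.assoc, hE]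

/-- Around every point, a map to `U` comes from an etale chart of `U`. -/
theorem exists_chart_nhd (hU : IsAlgSpace U) {u : U ⟶ (yon S).obj X} (hu : IsEtaleMor u) {Y : Over S}
    (s : (yon S).obj Y ⟶ U) (g : Y ⟶ X) (hs : s ≫ u = (yon S).map g) (y : Y.left) :
    ∃ (V : Scheme.{u}) (j : V ⟶ Y.left) (_ : Etale j) (v : V) (_ : j v = y) (W : X.left.Etale) (k : V ⟶ W.left)
      (hk : k ≫ W.hom = j ≫ g.left) (t : sect (secSh u) W),
      (yon S).map (Over.homMk j rfl : Over.mk (j ≫ Y.hom) ⟶ Y) ≫ s =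
        (yon S).map (Over.homMk k (by
          change k ≫ W.hom ≫ X.hom = j ≫ Y.hom
          rw [← Category.assoc, hk, Category.assoc, Over.w]) : Over.mk (j ≫ Y.hom) ⟶ ov X W) ≫ sm t := by
  obtain ⟨C, a, ha, has⟩ := hU.atlas
  obtain ⟨c, hc⟩ := (yon S).map_surjective (a ≫ u)
  have hce : Etale c.left := (repWith_yon_map_iff _ _).1 (by rw [hc]; exact hu a ha)
  obtain ⟨R, snd, fst, sq⟩ := ha.1 s
  obtain ⟨fst, rfl⟩ := (yon S).map_surjective fst
  have h1 : Etale snd.left := ha.2 _ _ _ sq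
  have h2 : Surjective snd.left := has.2 _ _ _ sq
  obtain ⟨v, hv⟩ := snd.left.surjective y
  have hfc : fst ≫ c = snd ≫ g := (yon S).map_injective (by
    rw [Functor.map_comp, hc, ← Category.assoc, sq.w, Category.assoc, hs, Functor.map_comp])
  let W : X.left.Etale := Scheme.Etale.mk c.left
  let e : ov X W ⟶ C := Over.homMk (𝟙 _) (by
    change 𝟙 _ ≫ C.hom = c.left ≫ X.hom
    rw [Category.id_comp, Over.w])
  obtain ⟨t, ht⟩ := exists_sm (u := u) (W := W) ((yon S).map e ≫ a) (by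
    rw [Category.assoc, ← hc, ← Functor.map_comp]
    exact congrArg _ (Over.OverMorphism.ext (Category.id_comp _)))
  have hk : fst.left ≫ W.hom = snd.left ≫ g.left := congrArg CommaMorphism.left hfc
  refine ⟨R.left, snd.left, h1, v, hv, W, fst.left, hk, t, ?_⟩
  let r : Over.mk (snd.left ≫ Y.hom) ⟶ R := Over.homMk (𝟙 _) (by
    change 𝟙 _ ≫ R.hom = snd.left ≫ Y.hom
    rw [Category.id_comp, Over.w])
  have e1 : (Over.homMk snd.left rfl : Over.mk (snd.left ≫ Y.hom) ⟶ Y) = r ≫ snd :=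
    Over.OverMorphism.ext (Category.id_comp _).symm
  have e2 : (Over.homMk fst.left (by
      change fst.left ≫ W.hom ≫ X.hom = snd.left ≫ Y.hom
      rw [← Category.assoc, hk, Category.assoc, Over.w]) : Over.mk (snd.left ≫ Y.hom) ⟶ ov X W) ≫ e = r ≫ fst :=
    Over.OverMorphism.ext (by
      change fst.left ≫ 𝟙 _ = 𝟙 _ ≫ fst.left
      rw [Category.comp_id, Category.id_comp])
  rw [ht, e1, Functor.map_comp, Category.assoc, ← sq.w, ← Category.assoc, ← Functor.map_comp, ← e2,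
    Functor.map_comp, Category.assoc]

/-- Every point of `U` with values in a separably closed field is the value of a section. -/
theorem exists_sect_of_pt (hU : IsAlgSpace U) {u : U ⟶ (yon S).obj X} (hu : IsEtaleMor u) {Ω : Type u} [Field Ω]
    [IsSepClosed Ω] {ξ : Spec (.of Ω) ⟶ X.left} (p : (yon S).obj (ptOv X ξ) ⟶ U)
    (hp : p ≫ u = (yon S).map (Over.homMk ξ rfl : ptOv X ξ ⟶ X)) :
    ∃ (W : X.left.Etale) (l : Spec (.of Ω) ⟶ W.left) (hl : l ≫ W.hom = ξ) (t : sect (secSh u) W),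
      (yon S).map (ptMap (f := ovπ X W) l hl) ≫ sm t = p := by
  obtain ⟨V, j, hj, v, hv, W, k, hk, t, ht⟩ := exists_chart_nhd hU hu p _ hp (default : ↥(Spec (CommRingCat.of Ω)))
  obtain ⟨m, hm, -⟩ := Scheme.exists_fac_of_etale_of_isSepClosed j (𝟙 _) v hv
  have hl : (m ≫ k) ≫ W.hom = ξ := by
    rw [Category.assoc, hk, ← Category.assoc, hm, Category.id_comp]
    rfl
  refine ⟨W, m ≫ k, hl, t, ?_⟩
  let m' : ptOv X ξ ⟶ Over.mk (j ≫ (ptOv X ξ).hom) := Over.homMk m (by
    change m ≫ j ≫ _ = _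
    rw [← Category.assoc, hm, Category.id_comp])
  have e1 : m' ≫ (Over.homMk j rfl : Over.mk (j ≫ (ptOv X ξ).hom) ⟶ ptOv X ξ) = 𝟙 _ := Over.OverMorphism.ext hm
  have e2 : ptMap (f := ovπ X W) (m ≫ k) hl = m' ≫ (Over.homMk k (by
      change k ≫ W.hom ≫ X.hom = j ≫ (ptOv X ξ).hom
      rw [← Category.assoc, hk, Category.assoc, Over.w]) : Over.mk (j ≫ (ptOv X ξ).hom) ⟶ ov X W) :=
    Over.OverMorphism.ext rfl
  rw [e2, Functor.map_comp, Category.assoc, ← ht, ← Category.assoc, ← Functor.map_comp, e1,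
    CategoryTheory.Functor.map_id, Category.id_comp]

theorem pt_u {u : U ⟶ (yon S).obj X} {Y : Over S} {s : (yon S).obj Y ⟶ U} {g : Y ⟶ X}
    (hs : s ≫ u = (yon S).map g) {Ω : Type u} [Field Ω] {ξ : Spec (.of Ω) ⟶ X.left} (η : Spec (.of Ω) ⟶ Y.left)
    (h : η ≫ g.left = ξ) :
    ((yon S).map (ptMap (f := g) η h) ≫ s) ≫ u = (yon S).map (Over.homMk ξ rfl : ptOv X ξ ⟶ X) := by
  rw [Category.assoc, hs, ← Functor.map_comp]
  exact congrArg _ (Over.OverMorphism.ext h)

/-- The family of germs attached to a map `h_Y ⟶ U`. -/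
theorem exists_fam (hU : IsAlgSpace U) {u : U ⟶ (yon S).obj X} (hu : IsEtaleMor u) {Y : Over S}
    (s : (yon S).obj Y ⟶ U) (g : Y ⟶ X) (hs : s ≫ u = (yon S).map g) :
    ∃ γ : Fam (secSh u) g.left, ∀ (Ω : Type u) [Field Ω] [IsSepClosed Ω] (η : Spec (.of Ω) ⟶ Y.left)
      (ξ : Spec (.of Ω) ⟶ X.left) (h : η ≫ g.left = ξ) (W : X.left.Etale) (l : Spec (.of Ω) ⟶ W.left)
      (hl : l ≫ W.hom = ξ) (t : sect (secSh u) W),
      γ.val η ξ h = germ (secSh u) l hl t ↔ (yon S).map (ptMap (f := ovπ X W) l hl) ≫ sm t =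
        (yon S).map (ptMap (f := g) η h) ≫ s := by
  let val : ∀ {Ω : Type u} [Field Ω] [IsSepClosed Ω] (η : Spec (.of Ω) ⟶ Y.left) (ξ : Spec (.of Ω) ⟶ X.left)
      (_ : η ≫ g.left = ξ), Stk (secSh u) ξ := fun η ξ h =>
    let e := exists_sect_of_pt hU hu _ (pt_u hs η h)
    germ (secSh u) e.choose_spec.choose e.choose_spec.choose_spec.choose
      e.choose_spec.choose_spec.choose_spec.choose
  have hval : ∀ (Ω : Type u) [Field Ω] [IsSepClosed Ω] (η : Spec (.of Ω) ⟶ Y.left)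
      (ξ : Spec (.of Ω) ⟶ X.left) (h : η ≫ g.left = ξ) (W : X.left.Etale) (l : Spec (.of Ω) ⟶ W.left)
      (hl : l ≫ W.hom = ξ) (t : sect (secSh u) W),
      val η ξ h = germ (secSh u) l hl t ↔ (yon S).map (ptMap (f := ovπ X W) l hl) ≫ sm t =
        (yon S).map (ptMap (f := g) η h) ≫ s := by
    intro Ω _ _ η ξ h W l hl t
    have e := exists_sect_of_pt hU hu _ (pt_u hs η h)
    refine (germ_iff hU hu _ _ _ _ _ _).trans ?_
    rw [e.choose_spec.choose_spec.choose_spec.choose_spec]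
    exact eq_comm
  refine ⟨⟨val, fun y => ?_⟩, hval⟩
  obtain ⟨V, j, hj, v, hv, W, k, hk, t, ht⟩ := exists_chart_nhd hU hu s g hs y
  refine ⟨V, j, hj, v, hv, W, k, hk, t, ?_⟩
  intro Ω _ _ ζ ξ h h'
  refine (hval Ω (ζ ≫ j) ξ h W (ζ ≫ k) h' t).2 ?_
  have e0 : ζ ≫ j ≫ Y.hom = ξ ≫ X.hom := by rw [← h, Category.assoc, Category.assoc, Over.w]
  let z : ptOv X ξ ⟶ Over.mk (j ≫ Y.hom) := Over.homMk ζ e0
  have e1 : ptMap (f := ovπ X W) (ζ ≫ k) h' = z ≫ (Over.homMk k (by
      change k ≫ W.hom ≫ X.hom = j ≫ Y.hom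
      rw [← Category.assoc, hk, Category.assoc, Over.w]) : Over.mk (j ≫ Y.hom) ⟶ ov X W) :=
    Over.OverMorphism.ext rfl
  have e2 : ptMap (f := g) (ζ ≫ j) h = z ≫ (Over.homMk j rfl : Over.mk (j ≫ Y.hom) ⟶ Y) :=
    Over.OverMorphism.ext rfl
  rw [e1, e2, Functor.map_comp, Functor.map_comp]
  exact ((Category.assoc _ _ _).trans (congrArg ((yon S).map z ≫ ·) ht.symm)).trans (Category.assoc _ _ _).symm

/-- **Degree zero proper base change for etale algebraic spaces over schemes**: a section of `U` over the geometric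
fibre of a proper morphism of schemes extends to an etale neighbourhood. -/
theorem exists_ext (hU : IsAlgSpace U) {u : U ⟶ (yon S).obj X} (hu : IsEtaleMor u) {Y : Over S} (f : X ⟶ Y)
    (hf : IsProper f.left) {Ω : Type u} [Field Ω] [IsSepClosed Ω] (ξ : Spec (.of Ω) ⟶ Y.left)
    {Z : Over S} (p : Z ⟶ X) (q : Z ⟶ ptOv Y ξ)
    (sqZ : IsPullback p q f (Over.homMk ξ rfl : ptOv Y ξ ⟶ Y)) (s₀ : (yon S).obj Z ⟶ U)
    (hs₀ : s₀ ≫ u = (yon S).map p) :
    ∃ (W : Over S) (e : W ⟶ Y) (l : ptOv Y ξ ⟶ W) (hl : l ≫ e = Over.homMk ξ rfl) (XW : Over S) (a : XW ⟶ X)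
      (b : XW ⟶ W) (sq : IsPullback a b f e) (t : (yon S).obj XW ⟶ U), Etale e.left ∧
      t ≫ u = (yon S).map a ∧ (yon S).map (sq.lift p (q ≫ l) (by rw [sqZ.w, Category.assoc, hl])) ≫ t = s₀ := by
  -- the canonical model of the fibre
  have sqZ' : IsPullback p.left q.left f.left ξ := sqZ.map (Over.forget S)
  let i : pullback f.left ξ ≅ Z.left := (sqZ'.isoPullback).symm
  have hip : i.hom ≫ p.left = pullback.fst f.left ξ := sqZ'.isoPullback_inv_fst
  have hiq : i.hom ≫ q.left = pullback.snd f.left ξ := sqZ'.isoPullback_inv_snd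
  let Z₀ : Over S := Over.mk (pullback.fst f.left ξ ≫ X.hom)
  let i' : Z₀ ⟶ Z := Over.homMk i.hom (by
    change i.hom ≫ Z.hom = pullback.fst f.left ξ ≫ X.hom
    rw [← hip, Category.assoc, Over.w])
  let p₀ : Z₀ ⟶ X := Over.homMk (pullback.fst f.left ξ) rfl
  have hi' : i' ≫ p = p₀ := Over.OverMorphism.ext hip
  obtain ⟨γ, hγ⟩ := exists_fam hU hu ((yon S).map i' ≫ s₀) p₀ (by
    rw [Category.assoc, hs₀, ← Functor.map_comp, hi'])
  obtain ⟨W, l, hl, b, hb⟩ := Groth.Agent.S3051.bcsurj_of_isProper f.left (secSh u) Ω ξ γ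
  let W' : X.left.Etale := (EtCoh.bc f.left).obj W
  let b' : ov X W' ⟶ ov Y W := Over.homMk (bcFst f.left W) (by
    change bcFst f.left W ≫ W.hom ≫ Y.hom = W'.hom ≫ X.hom
    rw [← Category.assoc, bc_condition, Category.assoc, Over.w])
  have sq0 : IsPullback (ovπ X W').left b'.left f.left (ovπ Y W).left :=
    (IsPullback.of_hasPullback W.hom f.left).flip
  have sq : IsPullback (ovπ X W') b' f (ovπ Y W) := IsPullback.of_map (Over.forget S) (Over.OverMorphism.ext sq0.w) sq0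
  let l' : ptOv Y ξ ⟶ ov Y W := ptMap (f := ovπ Y W) l hl
  have hl' : l' ≫ ovπ Y W = Over.homMk ξ rfl := Over.OverMorphism.ext hl
  refine ⟨ov Y W, ovπ Y W, l', hl', ov X W', ovπ X W', b', sq, sm b, inferInstanceAs (Etale W.hom), sm_u b, ?_⟩
  have hc1 := sq.lift_fst p (q ≫ l') (by rw [sqZ.w, Category.assoc, hl'])
  have hc2 := sq.lift_snd p (q ≫ l') (by rw [sqZ.w, Category.assoc, hl'])
  revert hc1 hc2
  generalize sq.lift p (q ≫ l') _ = c
  intro hc1 hc2
  refine K635.EtTop.eq_of_points hU (IsAlgSpace.yon_obj X) hu _ _ ?_ fun x => ?_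
  · rw [Category.assoc, sm_u, ← Functor.map_comp, hc1, hs₀]
  · obtain ⟨Ω', _, _, w, g, hg⟩ := exists_geom x
    obtain ⟨η, rfl⟩ := (yon S).map_surjective g
    refine ⟨_, (yon S).map η, (nonempty_points w).some, hg _, ?_⟩
    obtain ⟨ζ, hζ⟩ : ∃ ζ : Spec (.of Ω') ⟶ pullback f.left ξ, ζ ≫ i.hom = η.left :=
      ⟨η.left ≫ i.inv, by rw [Category.assoc, i.inv_hom_id, Category.comp_id]⟩
    obtain ⟨ρ, hρ⟩ : ∃ ρ, ζ ≫ pullback.fst f.left ξ = ρ := ⟨_, rfl⟩
    have h' : (ζ ≫ pullback.snd f.left ξ ≫ l) ≫ W.hom = ρ ≫ f.left := by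
      rw [← hρ, Category.assoc, Category.assoc, Category.assoc, hl, pullback.condition]
    have h2 := (hγ Ω' ζ ρ hρ _ _ _ _).1 (hb (Ω' := Ω') ζ ρ hρ h')
    have hηp : η.left ≫ p.left = ρ := by rw [← hζ, Category.assoc, hip, hρ]
    have hηq : η.left ≫ q.left = ζ ≫ pullback.snd f.left ξ := by rw [← hζ, Category.assoc, hiq]
    let r : Over.mk w ⟶ ptOv X ρ := Over.homMk (𝟙 _) (by
      change 𝟙 _ ≫ ρ ≫ X.hom = w
      rw [Category.id_comp, ← hηp, Category.assoc, Over.w, Over.w]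
      rfl)
    have e1 : r ≫ ptMap (f := p₀) ζ hρ ≫ i' = η := Over.OverMorphism.ext (by
      change 𝟙 _ ≫ ζ ≫ i.hom = η.left
      rw [Category.id_comp, hζ])
    have e2 : η ≫ c = r ≫ ptMap (f := ovπ X W')
        (bcPt f.left ρ (ζ ≫ pullback.snd f.left ξ ≫ l) h') (bcPt_hom _ _ _ _) := by
      apply sq.hom_ext
      · rw [Category.assoc, Category.assoc, hc1]
        apply Over.OverMorphism.ext
        change η.left ≫ p.left = 𝟙 _ ≫ bcPt f.left _ _ _ ≫ W'.hom
        rw [bcPt_hom, Category.id_comp, hηp]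
      · rw [Category.assoc, Category.assoc, hc2]
        apply Over.OverMorphism.ext
        change η.left ≫ q.left ≫ l = 𝟙 _ ≫ bcPt f.left _ _ _ ≫ bcFst f.left W
        rw [bcPt_fst, Category.id_comp, ← Category.assoc, hηq, Category.assoc]
    have e3 : (yon S).map η ≫ s₀ = (yon S).map r ≫ (yon S).map (ptMap (f := p₀) ζ hρ) ≫ (yon S).map i' ≫ s₀ := by
      rw [← e1]
      simp only [Functor.map_comp, Category.assoc]
    rw [← Category.assoc, ← Functor.map_comp, e2, Functor.map_comp, Category.assoc, h2, e3]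

end K601.PD
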