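import Groth.Agent.AlgSp.K595.DiagRel
import Groth.Agent.AlgSp.K597.Affine
import Mathlib.CategoryTheory.IsConnected

/-!
# Pullback of a system of morphisms `DX ⟶ DY` along a cone over `DY`
-/

set_option autoImplicit false
set_option backward.isDefEq.respectTransparency false
universe v u

open CategoryTheory CategoryTheory.Limits AlgebraicGeometry Opposite

namespace K601.PbSys

section cat

variable {C : Type*} [Category C] [HasPullbacks C] {J : Type*} [Category J] {DX DY : J ⥤ C} (φ : DX ⟶ DY)
  (cy : Cone DY)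

/-- the pulled back system `DX_j ×_{DY_j} Y'` -/
noncomputable def sys : J ⥤ C where
  obj j := pullback (φ.app j) (cy.π.app j)
  map {i j} g := pullback.lift (pullback.fst _ _ ≫ DX.map g) (pullback.snd _ _) (by
    rw [Category.assoc, φ.naturality, ← Category.assoc, pullback.condition, Category.assoc, cy.w])
  map_id j := by
    apply pullback.hom_ext
    · rw [pullback.lift_fst, DX.map_id, Category.comp_id, Category.id_comp]
    · rw [pullback.lift_snd, Category.id_comp]
  map_comp f g := by
    apply pullback.hom_ext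
    · rw [pullback.lift_fst, Category.assoc, pullback.lift_fst, pullback.lift_fst_assoc, DX.map_comp,
        Category.assoc]
    · rw [pullback.lift_snd, Category.assoc, pullback.lift_snd, pullback.lift_snd]

/-- the projection to `DX_j` -/
noncomputable def fst (j : J) : (sys φ cy).obj j ⟶ DX.obj j := pullback.fst (φ.app j) (cy.π.app j)

/-- the projection to `Y'` -/
noncomputable def snd' (j : J) : (sys φ cy).obj j ⟶ cy.pt := pullback.snd (φ.app j) (cy.π.app j)

theorem isPullback (j : J) : IsPullback (fst φ cy j) (snd' φ cy j) (φ.app j) (cy.π.app j) :=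
  IsPullback.of_hasPullback _ _

@[reassoc]
theorem map_fst {i j : J} (g : i ⟶ j) : (sys φ cy).map g ≫ fst φ cy j = fst φ cy i ≫ DX.map g :=
  pullback.lift_fst _ _ _

@[reassoc]
theorem map_snd {i j : J} (g : i ⟶ j) : (sys φ cy).map g ≫ snd' φ cy j = snd' φ cy i :=
  pullback.lift_snd _ _ _

/-- the projection to `Y'` -/
noncomputable def snd : sys φ cy ⟶ (Functor.const J).obj cy.pt where
  app j := snd' φ cy j
  naturality i j g := by
    change _ = _ ≫ 𝟙 _
    rw [Category.comp_id]
    exact map_snd φ cy g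

theorem snd_app (j : J) : (snd φ cy).app j = snd' φ cy j := rfl

variable {φ cy} {cX : Cone DX} {cY : Cone DY} {F : cX.pt ⟶ cY.pt}
  (hF : ∀ j, cX.π.app j ≫ φ.app j = F ≫ cY.π.app j) {y : cy.pt ⟶ cY.pt}
  (hy : ∀ j, y ≫ cY.π.app j = cy.π.app j) {X' : C} {a : X' ⟶ cX.pt} {b : X' ⟶ cy.pt}
  (sq : IsPullback a b F y)

omit [HasPullbacks C] in
include hF hy sq in
theorem w (j : J) : (a ≫ cX.π.app j) ≫ φ.app j = b ≫ cy.π.app j := by
  rw [Category.assoc, hF, ← Category.assoc, sq.w, Category.assoc, hy]

/-- the projections of the cone -/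
noncomputable def π (j : J) : X' ⟶ (sys φ cy).obj j := (isPullback φ cy j).lift (a ≫ cX.π.app j) b (w hF hy sq j)

@[reassoc]
theorem π_fst (j : J) : π hF hy sq j ≫ fst φ cy j = a ≫ cX.π.app j := IsPullback.lift_fst _ _ _ _

@[reassoc]
theorem π_snd (j : J) : π hF hy sq j ≫ snd' φ cy j = b := IsPullback.lift_snd _ _ _ _

/-- the cone with vertex `X ×_Y Y'` -/
noncomputable def cone : Cone (sys φ cy) where
  pt := X'
  π :=
    { app := fun j => π hF hy sq j
      naturality := fun i j g => by
        change 𝟙 _ ≫ π hF hy sq j = π hF hy sq i ≫ _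
        rw [Category.id_comp]
        apply (isPullback φ cy j).hom_ext
        · rw [π_fst, Category.assoc, map_fst, π_fst_assoc, cX.w]
        · rw [π_snd, Category.assoc, map_snd, π_snd] }

theorem cone_pt : (cone hF hy sq).pt = X' := rfl

theorem cone_π (j : J) : (cone hF hy sq).π.app j = π hF hy sq j := rfl

include hF hy sq in
theorem exists_lift [IsConnected J] (hcX : IsLimit cX) (hcY : IsLimit cY) (s : Cone (sys φ cy)) :
    ∃ l : s.pt ⟶ X', (∀ j, l ≫ π hF hy sq j = s.π.app j) ∧
      ∀ m : s.pt ⟶ X', (∀ j, m ≫ π hF hy sq j = s.π.app j) → m = l := by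
  let sx : Cone DX :=
    { pt := s.pt
      π :=
        { app := fun j => s.π.app j ≫ fst φ cy j
          naturality := fun i j g => by
            change 𝟙 _ ≫ s.π.app j ≫ fst φ cy j = (s.π.app i ≫ fst φ cy i) ≫ DX.map g
            rw [Category.id_comp, Category.assoc, ← map_fst, ← Category.assoc, s.w] } }
  let x : s.pt ⟶ cX.pt := hcX.lift sx
  have hx : ∀ j, x ≫ cX.π.app j = s.π.app j ≫ fst φ cy j := fun j => hcX.fac sx j
  obtain ⟨j₀⟩ : Nonempty J := inferInstance
  let z : s.pt ⟶ cy.pt := s.π.app j₀ ≫ snd' φ cy j₀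
  have hz : ∀ j, s.π.app j ≫ snd' φ cy j = z := fun j =>
    nat_trans_from_is_connected (s.π ≫ snd φ cy) j j₀
  have hw : x ≫ F = z ≫ y := by
    apply hcY.hom_ext
    intro j
    calc (x ≫ F) ≫ cY.π.app j = x ≫ cX.π.app j ≫ φ.app j := by rw [Category.assoc, hF]
      _ = (s.π.app j ≫ fst φ cy j) ≫ φ.app j := by rw [← Category.assoc, hx]
      _ = (s.π.app j ≫ snd' φ cy j) ≫ cy.π.app j := by rw [Category.assoc, (isPullback φ cy j).w, Category.assoc]
      _ = z ≫ cy.π.app j := by rw [hz]
      _ = (z ≫ y) ≫ cY.π.app j := by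
        rw [← hy j]
        exact (Category.assoc z y _).symm
  refine ⟨sq.lift x z hw, fun j => ?_, fun m hm => ?_⟩
  · apply (isPullback φ cy j).hom_ext
    · rw [Category.assoc, π_fst, ← Category.assoc, sq.lift_fst, hx]
    · rw [Category.assoc, π_snd, sq.lift_snd, hz]
  · apply sq.hom_ext
    · rw [sq.lift_fst]
      apply hcX.hom_ext
      intro j
      rw [hx, ← hm, Category.assoc, Category.assoc, π_fst]
    · rw [sq.lift_snd]
      change m ≫ b = s.π.app j₀ ≫ snd' φ cy j₀
      rw [← hm, Category.assoc, π_snd]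

/-- The limit of the pulled back system. -/
noncomputable def isLimitCone [IsConnected J] (hcX : IsLimit cX) (hcY : IsLimit cY) : IsLimit (cone hF hy sq) where
  lift s := (exists_lift hF hy sq hcX hcY s).choose
  fac s j := (exists_lift hF hy sq hcX hcY s).choose_spec.1 j
  uniq s m hm := (exists_lift hF hy sq hcX hcY s).choose_spec.2 m hm

end cat

section sp

open AlgSp

variable {S : Scheme.{u}} {J : Type v} [Category J] {DX DY : J ⥤ Sp S} {φ : DX ⟶ DY} {cy : Cone DY}

/-- The transition maps of the pulled back system are affine. -/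
theorem isAffineMor_sys {i j : J} (g : i ⟶ j) (hX : IsAffineMor (DX.map g)) (hY : IsSeparatedMor (DY.map g)) :
    IsAffineMor ((sys φ cy).map g) := by
  rw [K597.Affine.isAffineMor_iff] at hX ⊢
  -- the intermediate fibre product
  have w1 : φ.app i ≫ DY.map g = DX.map g ≫ φ.app j := (φ.naturality g).symm
  have w2 : cy.π.app i ≫ DY.map g = cy.π.app j := cy.w g
  let m : (sys φ cy).obj i ⟶ pullback (φ.app i ≫ DY.map g) (cy.π.app i ≫ DY.map g) :=
    pullback.mapDesc _ _ _
  have hm1 : m ≫ pullback.fst _ _ = fst φ cy i := by simp [m, fst]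
  have hm2 : m ≫ pullback.snd _ _ = snd' φ cy i := by simp [m, snd']
  have hm : RepWith @IsAffineHom m := K597.repWith_mono (fun _ _ h (_ : IsClosedImmersion h) =>
    (inferInstance : IsAffineHom h)) (K595.DiagRel.repWith_mapDesc _ _ _ hY)
  let n : pullback (φ.app i ≫ DY.map g) (cy.π.app i ≫ DY.map g) ⟶ (sys φ cy).obj j :=
    (isPullback φ cy j).lift (pullback.fst _ _ ≫ DX.map g) (pullback.snd _ _) (by
      rw [Category.assoc, ← w1, pullback.condition]
      exact congrArg (pullback.snd _ _ ≫ ·) w2)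
  have hn1 : n ≫ fst φ cy j = pullback.fst _ _ ≫ DX.map g := IsPullback.lift_fst _ _ _ _
  have hn2 : n ≫ snd' φ cy j = pullback.snd _ _ := IsPullback.lift_snd _ _ _ _
  have hsq : IsPullback (pullback.fst (φ.app i ≫ DY.map g) (cy.π.app i ≫ DY.map g)) n (DX.map g)
      (fst φ cy j) := by
    refine IsPullback.of_bot (v₂₁ := snd' φ cy j) (v₂₂ := φ.app j) (h₃₁ := cy.π.app j) ?_ hn1.symm
      (isPullback φ cy j)
    rw [hn2]
    have h := IsPullback.of_hasPullback (φ.app i ≫ DY.map g) (cy.π.app i ≫ DY.map g)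
    rwa [← w1, ← show _ = _ from w2]
  have hn : RepWith @IsAffineHom n := K597.repWith_bc _ hsq hX
  have e : (sys φ cy).map g = m ≫ n := by
    apply (isPullback φ cy j).hom_ext
    · rw [map_fst, Category.assoc, hn1, ← Category.assoc, hm1]
    · rw [map_snd, Category.assoc, hn2, hm2]
  rw [e]
  exact (repWith_isMultiplicative (S := S) @IsAffineHom).comp_mem _ _ hm hn

end sp

end K601.PbSys
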