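import Groth.Agent.AlgSp.K601.ProperLim
import Groth.Agent.S10035

/-!
# Proper morphisms are limits of proper morphisms of finite presentation
-/

set_option autoImplicit false
set_option backward.isDefEq.respectTransparency false
universe u

open CategoryTheory CategoryTheory.Limits AlgebraicGeometry Opposite
open AlgSp

namespace K601.ProperApprox

open K601.ProperLim

/-- Restriction of a directed system to large indices. -/
theorem exists_restrict {C : Type*} [Category C] {I : Type u} [Preorder I] [IsDirected I (fun a b => a ≤ b)]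
    {D : Iᵒᵖ ⥤ C} {c : Cone D} (hc : IsLimit c) (i₀ : I) :
    ∃ (K : Type u) (_ : Preorder K) (_ : IsDirected K (fun a b => a ≤ b)) (_ : Nonempty K) (s : K ⥤ I)
      (_ : IsLimit (c.whisker s.op)), ∀ k, i₀ ≤ s.obj k := by
  let K := {i : I // i₀ ≤ i}
  have hne : Nonempty K := ⟨⟨i₀, le_rfl⟩⟩
  have hdir : IsDirected K (fun a b => a ≤ b) := ⟨fun p q => by
    obtain ⟨r, h1, h2⟩ := exists_ge_ge p.1 q.1
    exact ⟨⟨r, p.2.trans h1⟩, h1, h2⟩⟩
  let s : K ⥤ I := Monotone.functor (f := fun p : K => p.1) fun _ _ h => h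
  have hfin : s.Final := by
    have hfil : IsFiltered K := inferInstance
    refine Functor.final_of_exists_of_isFiltered _ (fun d => ?_) (fun s s' => ⟨_, 𝟙 _, Subsingleton.elim _ _⟩)
    obtain ⟨r, h1, h2⟩ := exists_ge_ge d i₀
    exact ⟨⟨r, h2⟩, ⟨homOfLE h1⟩⟩
  exact ⟨K, inferInstance, hdir, hne, s, (Functor.Initial.isLimitWhiskerEquiv s.op c).symm hc, fun k => k.2⟩

/-- The statement of S10038 over `S`. -/
def ClosedInSep (S : Scheme.{u}) : Prop :=
  ∀ {X Y : AlgSp.Space S} (f : X ⟶ Y), AlgSp.IsFiniteTypeMor f.hom → AlgSp.IsSeparatedMor f.hom →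
    AlgSp.IsQuasiCompactSp Y.obj → AlgSp.IsQuasiSeparatedSp Y.obj →
    ∃ (X' : AlgSp.Space S) (i : X ⟶ X') (f' : X' ⟶ Y), i ≫ f' = f ∧
      AlgSp.RepWith @IsClosedImmersion i.hom ∧ AlgSp.IsFinitePresentationMor f'.hom ∧ AlgSp.IsSeparatedMor f'.hom

theorem main {S : Scheme.{u}} [QuasiSeparatedSpace S] (H : ClosedInSep S)
    {X Y : AlgSp.Space S} (f : X ⟶ Y) (hf : AlgSp.IsProperMor f.hom) (hYqc : AlgSp.IsQuasiCompactSp Y.obj)
    (hYqs : AlgSp.IsQuasiSeparatedSp Y.obj) :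
    ∃ (I : Type u) (_ : Preorder I) (_ : IsDirected I (fun a b => a ≤ b)) (_ : Nonempty I) (D : Iᵒᵖ ⥤ AlgSp.Sp S)
      (t : D ⟶ (Functor.const Iᵒᵖ).obj Y.obj) (c : Cone D) (_ : IsLimit c) (e : c.pt ≅ X.obj),
      (∀ i, AlgSp.IsAlgSpace (D.obj i)) ∧ (∀ (i j : Iᵒᵖ) (φ : i ⟶ j), AlgSp.RepWith @IsClosedImmersion (D.map φ)) ∧
      (∀ i, AlgSp.RepWith @IsClosedImmersion (c.π.app i)) ∧
      (∀ i, AlgSp.IsProperMor (t.app i) ∧ AlgSp.IsFinitePresentationMor (t.app i)) ∧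
      (∀ i, e.inv ≫ c.π.app i ≫ t.app i = f.hom) := by
  obtain ⟨X', i, f', hif, hi, hfp, hsep⟩ := H f hf.2.1 hf.1 hYqc hYqs
  have hX'c : IsQuasiCompactSp X'.obj := hfp.2.1 Y.property hYqc (𝟙 _) (𝟙 _) f'.hom
    (IsPullback.of_horiz_isIso ⟨by simp⟩)
  have hX's : IsQuasiSeparatedSp X'.obj := K605.ImmMain.isQuasiSeparatedSp_of_mor hfp.2.2 hYqs
  obtain ⟨I, _, _, _, D, t, c, hc, e, hD, hDc, ht, hte⟩ := Groth.Agent.S10035.result S i hi hX'c hX's
  have hif' : i.hom ≫ f'.hom = f.hom := by rw [← hif]; rfl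
  have hπt (j) : c.π.app j ≫ t.app j = e.hom ≫ i.hom := by rw [← hte j, e.hom_inv_id_assoc]
  have hπ (j) : RepWith @IsClosedImmersion (c.π.app j) := by
    refine closed_of_comp (g := t.app j) ?_ (K597.ProperSub.isSeparatedMor_of_closed (ht j).1)
    rw [hπt]
    exact closed_comp (K598.RepKit.repWith_of_isIso _) hi
  have hnat {j k : Iᵒᵖ} (φ : j ⟶ k) : D.map φ ≫ t.app k = t.app j := by
    rw [t.naturality φ]
    exact Category.comp_id _
  have hcA : IsAlgSpace c.pt := X.property.of_iso e.symm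
  have hprop : IsProperMor (e.hom ≫ f.hom) := K597.ProperSub.isProperMor_comp hcA X.property Y.property
    (K597.ProperSub.isProperMor_of_closed X.property (K598.RepKit.repWith_of_isIso _)) hf
  obtain ⟨i₀, hi₀⟩ := exists_isProperMor Y.property hYqc hYqs hD hDc
    (fun j => isQuasiCompactSp_of_closed (ht j).1 hX'c) (fun j => isQuasiSeparatedSp_of_closed (ht j).1 hX's)
    hc hcA hπ (fun j => t.app j ≫ f'.hom) (fun φ => by rw [← Category.assoc, hnat])
    (fun j => K597.locP_comp K597.etLoc_lft (hD j).hasAtlas X'.property.hasAtlas Y.property.hasAtlas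
      (K597.ProperSub.locP_lft_of_closed (ht j).1) (StageRel.LRel.lft_of_lfp hfp.1))
    (fun j => (K595.DiagRel.isSeparatedMor_isMultiplicative).comp_mem _ _
      (K597.ProperSub.isSeparatedMor_of_closed (ht j).1) hsep)
    (e.hom ≫ f.hom) (fun j => by rw [← Category.assoc, hπt, Category.assoc, hif']) hprop
  obtain ⟨K, h₁, h₂, h₃, s, hs, hge⟩ := exists_restrict hc i₀.unop
  refine ⟨K, h₁, h₂, h₃, s.op ⋙ D, Functor.whiskerLeft s.op t ≫ (Functor.const Kᵒᵖ).map f'.hom, c.whisker s.op, hs, e,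
    fun j => hD _, fun j k φ => hDc _ _ _, fun j => hπ _, fun j => ⟨?_, ?_⟩, fun j => ?_⟩
  · exact hi₀ _ (homOfLE (hge j.unop)).op
  · refine ⟨K597.locP_comp K597.etLoc_lfp (hD _).hasAtlas X'.property.hasAtlas Y.property.hasAtlas (ht _).2.1 hfp.1,
      K596.QC.isQuasiCompactMor_comp X'.property Y.property (ht _).2.2.1 hfp.2.1,
      (IsQuasiSeparatedMor (S := S)).comp_mem _ _ (ht _).2.2.2 hfp.2.2⟩
  · change e.inv ≫ c.π.app (s.op.obj j) ≫ t.app (s.op.obj j) ≫ f'.hom = f.hom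
    rw [← hif', ← hte (s.op.obj j)]
    simp only [Category.assoc]

end K601.ProperApprox
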