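import Groth.Agent.AlgSp.K601.RelProper
import Groth.Agent.AlgSp.K601.FpDesc
import Groth.Agent.AlgSp.K604.LimFin2
import Groth.Agent.AlgSp.K597.ProperCancel
import Groth.Agent.Dix.ProjProper

/-!
# Limits of systems of closed immersions which are proper over the base are eventually proper
-/

set_option autoImplicit false
set_option backward.isDefEq.respectTransparency false
universe u

open CategoryTheory CategoryTheory.Limits AlgebraicGeometry Opposite
open AlgSp

namespace K601.ProperLim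

open K601.PbDiag K601.RelAff

variable {S : Scheme.{u}}

theorem isQuasiCompactSp_of_closed {X Y : Sp S} {f : X ⟶ Y} (hf : RepWith @IsClosedImmersion f)
    (hY : IsQuasiCompactSp Y) : IsQuasiCompactSp X :=
  isQuasiCompactSp_of_affine (K604.LimFin.isAffineMor_of_closed hf) hY

theorem isQuasiSeparatedSp_of_closed {X Y : Sp S} {f : X ⟶ Y} (hf : RepWith @IsClosedImmersion f)
    (hY : IsQuasiSeparatedSp Y) : IsQuasiSeparatedSp X :=
  isQuasiSeparatedSp_of_affine (K604.LimFin.isAffineMor_of_closed hf) hY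

theorem closed_of_comp {X Y Z : Sp S} {f : X ⟶ Y} {g : Y ⟶ Z} (h : RepWith @IsClosedImmersion (f ≫ g))
    (hg : IsSeparatedMor g) : RepWith @IsClosedImmersion f :=
  K613.Diag.repWith_of_comp h hg

theorem closed_comp {X Y Z : Sp S} {f : X ⟶ Y} {g : Y ⟶ Z} (h : RepWith @IsClosedImmersion f)
    (hg : RepWith @IsClosedImmersion g) : RepWith @IsClosedImmersion (f ≫ g) :=
  (repWith_isMultiplicative (S := S) @IsClosedImmersion).comp_mem _ _ h hg

/-- A representable immersion which is proper is a closed immersion. -/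
theorem closed_of_immersion_proper {X Y : Sp S} (hY : IsAlgSpace Y) {f : X ⟶ Y} (h : RepWith @IsImmersion f)
    (hp : IsProperMor f) : RepWith @IsClosedImmersion f := by
  have h2 := (K597.Proper.isProperMor_iff_repWith hY h.1).1 hp
  refine ⟨h.1, fun T V g fst snd sq => ?_⟩
  have i1 : IsImmersion snd.left := h.2 g fst snd sq
  have i2 : IsProper snd.left := h2.2 g fst snd sq
  have i3 : Mono snd.left := inferInstance
  exact (IsClosedImmersion.iff_isProper_and_mono snd.left).2 ⟨i2, i3⟩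

/-- Base change of a cover of `X₁ ×_Y V` to `Z ×_Y V` along `d : Z ⟶ X₁`. -/
theorem exists_bc {X₁ Y Z X₁V H HV E W : Sp S} {t₁ : X₁ ⟶ Y} {v : HV ⟶ Y} {p₁ : X₁V ⟶ X₁} {q₁ : X₁V ⟶ HV}
    (sq₁ : IsPullback p₁ q₁ t₁ v) (γ : H ⟶ X₁V) {d : Z ⟶ X₁} {tZ : Z ⟶ Y} (hd : d ≫ t₁ = tZ) {pW : W ⟶ Z}
    {qW : W ⟶ HV} (sqW : IsPullback pW qW tZ v) {aZ : E ⟶ H} {bZ : E ⟶ Z} (sqE : IsPullback aZ bZ (γ ≫ p₁) d) :
    ∃ (w : W ⟶ X₁V) (ρ : E ⟶ W), ρ ≫ qW = aZ ≫ γ ≫ q₁ ∧ ρ ≫ pW = bZ ∧ IsPullback aZ ρ γ w := by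
  have e1 : (pW ≫ d) ≫ t₁ = qW ≫ v := by rw [Category.assoc, hd, sqW.w]
  let w : W ⟶ X₁V := sq₁.lift _ _ e1
  have hw1 : w ≫ p₁ = pW ≫ d := sq₁.lift_fst _ _ _
  have hw2 : w ≫ q₁ = qW := sq₁.lift_snd _ _ _
  have sqw : IsPullback w pW p₁ d := by
    refine (IsPullback.of_right (h₁₂ := q₁) (h₂₂ := t₁) (v₁₃ := v) ?_ hw1 sq₁.flip)
    rw [hw2, hd]
    exact sqW.flip
  have e2 : (aZ ≫ γ) ≫ p₁ = bZ ≫ d := by rw [Category.assoc, sqE.w]
  let ρ : E ⟶ W := sqw.lift _ _ e2
  have hρ1 : ρ ≫ w = aZ ≫ γ := sqw.lift_fst _ _ _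
  have hρ2 : ρ ≫ pW = bZ := sqw.lift_snd _ _ _
  refine ⟨w, ρ, ?_, hρ2, ?_⟩
  · rw [← hw2, ← Category.assoc, hρ1, Category.assoc]
  · refine IsPullback.of_bot (v₂₁ := pW) (v₂₂ := p₁) (h₃₁ := d) ?_ hρ1.symm sqw
    rw [hρ2]
    exact sqE

variable [QuasiSeparatedSpace S] {I : Type u} [SmallCategory I] [IsCofiltered I] {D : I ⥤ Sp S}

theorem exists_isProperMor {Y : Sp S} (hY : IsAlgSpace Y) (hYqc : IsQuasiCompactSp Y)
    (hYqs : IsQuasiSeparatedSp Y)
    (hD : ∀ i, IsAlgSpace (D.obj i)) (hDc : ∀ (i j : I) (φ : i ⟶ j), RepWith @IsClosedImmersion (D.map φ))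
    (hqc : ∀ i, IsQuasiCompactSp (D.obj i)) (hqs : ∀ i, IsQuasiSeparatedSp (D.obj i))
    {c : Cone D} (hc : IsLimit c) (hcA : IsAlgSpace c.pt) (hπ : ∀ i, RepWith @IsClosedImmersion (c.π.app i))
    (t : ∀ i, D.obj i ⟶ Y) (ht : ∀ {i j : I} (φ : i ⟶ j), D.map φ ≫ t j = t i)
    (hft : ∀ i, LocP @LocallyOfFiniteType (t i)) (hsep : ∀ i, IsSeparatedMor (t i))
    (g : c.pt ⟶ Y) (hg : ∀ i, c.π.app i ≫ t i = g) (hX : IsProperMor g) :
    ∃ i₀, ∀ i, (i ⟶ i₀) → IsProperMor (t i) := by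
  obtain ⟨i₁⟩ := IsCofiltered.nonempty (C := I)
  obtain ⟨V, v, hV, hv, hvs⟩ := K609.QC.exists_affine_chart hYqc
  have hVA := IsAlgSpace.yon_obj V
  have sq₁ := IsPullback.of_hasPullback (t i₁) v
  have hX₁ : IsAlgSpace (pullback (t i₁) v) := K613.Chart.isAlgSpace_pullback (hD i₁) hVA hY _ _
  have hX₁c : IsQuasiCompactSp (pullback (t i₁) v) := K596.QC2.isQuasiCompactMor_of_qc_of_qs (hD i₁) hY (t i₁)
    (hqc i₁) hYqs hVA (K596.QC.isQuasiCompactSp_yon V) v _ _ sq₁
  have hX₁s : IsQuasiSeparatedSp (pullback (t i₁) v) :=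
    K596.QC2.repWith_diag_of_isPullback (hqs i₁) (K601.RelAff.isQuasiSeparatedSp_yon hV) sq₁
  have hq₁ft : LocP @LocallyOfFiniteType (pullback.snd (t i₁) v) :=
    K597.locP_bc K597.etLoc_lft sq₁ (hD i₁).hasAtlas hY.hasAtlas hVA.hasAtlas (hft i₁)
  obtain ⟨T, γ, τ, hτ, ⟨n, m, hm1, hm2, hm3⟩, hγ, hγs⟩ := RelChow.exists_relChow hV hX₁ (pullback.snd (t i₁) v)
    (K595.DiagRel.isSeparatedMor_isStableUnderBaseChange.of_isPullback sq₁ (hsep i₁))
    ⟨hq₁ft, K596.QC2.isQuasiCompactMor_of_qc_of_qs hX₁ hVA _ hX₁c (K601.RelAff.isQuasiSeparatedSp_yon hV)⟩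
  have hTA := IsAlgSpace.yon_obj T
  -- `T` is quasi-compact and quasi-separated
  have hTc : IsQuasiCompactSp ((yon S).obj T) := hγ.2.1.2 hX₁ hX₁c (𝟙 _) (𝟙 _) γ
    (IsPullback.of_horiz_isIso ⟨by simp⟩)
  have hTs : IsQuasiSeparatedSp ((yon S).obj T) := by
    refine K605.ImmMain.isQuasiSeparatedSp_of_mor (f := γ) ?_ hX₁s
    exact K597.repWith_mono (fun A B g (hg : IsClosedImmersion g) => (inferInstance : QuasiCompact g)) hγ.1
  -- projective space
  let P : Over S := Over.mk (CohB1.ProjSpaceOver.toBase n V.left ≫ V.hom)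
  let π : P ⟶ V := Over.homMk (CohB1.ProjSpaceOver.toBase n V.left) rfl
  have hπp : IsProper π.left := Groth.Agent.Dix.ProjProper.isProper_toBase n V.left
  let μ : T ⟶ P := Over.homMk m (by
    change m ≫ CohB1.ProjSpaceOver.toBase n V.left ≫ V.hom = T.hom
    rw [← Category.assoc, hm3]
    exact Over.w τ)
  have hμπ : μ ≫ π = τ := by
    apply Over.OverMorphism.ext
    exact hm3
  have hPA := IsAlgSpace.yon_obj P
  have hPc : CompactSpace P.left := QuasiCompact.compactSpace_of_compactSpace π.left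
  have hPs : QuasiSeparatedSpace P.left := quasiSeparatedSpace_of_quasiSeparated π.left
  have hμ : RepWith @IsImmersion ((yon S).map μ) := (repWith_yon_map_iff _ _).2 hm1
  have hπm : IsProperMor ((yon S).map π) := (RelProper.isProper_left_iff π).2 hπp
  let a : (yon S).obj T ⟶ D.obj i₁ := γ ≫ pullback.fst (t i₁) v
  -- the system of closed subschemes of `T`
  let E := pbDiag D i₁ a
  have hEfst : ∀ j : Over i₁, RepWith @IsClosedImmersion (pullback.fst a (D.map j.hom)) := fun j =>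
    K597.repWith_bc _ (IsPullback.of_hasPullback a (D.map j.hom)).flip (hDc _ _ _)
  have sqL := IsPullback.of_hasPullback a (c.π.app i₁)
  have hLfst : RepWith @IsClosedImmersion (pullback.fst a (c.π.app i₁)) :=
    K597.repWith_bc _ sqL.flip (hπ i₁)
  have hLA : IsAlgSpace (pullback a (c.π.app i₁)) := K613.Chart.isAlgSpace_pullback hTA hcA (hD i₁) _ _
  -- the limit is closed in projective space
  have hlim : RepWith @IsClosedImmersion (pullback.fst a (c.π.app i₁) ≫ (yon S).map μ) := by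
    refine closed_of_immersion_proper hPA ?_ ?_
    · refine (repWith_isMultiplicative (S := S) @IsImmersion).comp_mem _ _ ?_ hμ
      exact K597.repWith_mono (fun A B g (hg : IsClosedImmersion g) => (inferInstance : IsImmersion g)) hLfst
    · refine K597.ProperCancel.isProperMor_of_comp hLA hPA hVA (g := (yon S).map π) ?_ hπm.1
      have sqW := IsPullback.of_hasPullback g v
      have hWA : IsAlgSpace (pullback g v) := K613.Chart.isAlgSpace_pullback hcA hVA hY _ _
      obtain ⟨w, ρ, h1, h2, h3⟩ := exists_bc sq₁ γ (hg i₁) sqW sqL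
      have e : (pullback.fst a (c.π.app i₁) ≫ (yon S).map μ) ≫ (yon S).map π = ρ ≫ pullback.snd g v := by
        rw [h1, Category.assoc, ← Functor.map_comp, hμπ, hτ]
      rw [e]
      exact K597.ProperSub.isProperMor_comp hLA hWA hVA
        (K597.Proper.isProperMor_of_isPullback hTA hX₁ hWA h3 hγ)
        (K597.Proper.isProperMor_of_isPullback hcA hY hVA sqW hX)
  obtain ⟨j₀, hj₀⟩ := K604.LimFin2.exists_isClosedImmersion (D := E) hPA (K596.QC.isQuasiCompactSp_yon P)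
    K601.FpDesc.isQuasiSeparatedSp_yon
    (fun j => K613.Chart.isAlgSpace_pullback hTA (hD j.left) (hD i₁) _ _)
    (fun j k φ => K597.repWith_bc _ (isPullback_pbDiag_map D i₁ a φ).flip (hDc _ _ _))
    (fun j => isQuasiCompactSp_of_closed (hEfst j) hTc) (fun j => isQuasiSeparatedSp_of_closed (hEfst j) hTs)
    (isLimitPbCone i₁ a c hc _ _ sqL) (fun j => pullback.fst a (D.map j.hom) ≫ (yon S).map μ)
    (fun {j k} φ => by rw [← Category.assoc, pbDiag_map_fst])
    (fun j => K597.locP_of_repWith K597.etLoc_lft.precomp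
      ((repWith_isMultiplicative (S := S) @LocallyOfFiniteType).comp_mem _ _
        (K597.repWith_mono (fun A B g (hg : IsClosedImmersion g) => (inferInstance : LocallyOfFiniteType g)) (hEfst j))
        (K597.repWith_mono (fun A B g (hg : IsImmersion g) => (inferInstance : LocallyOfFiniteType g)) hμ)))
    (pullback.fst a (c.π.app i₁) ≫ (yon S).map μ) (fun j => by
      rw [← Category.assoc]
      congr 1
      exact pullback.lift_fst _ _ _) hlim
  refine ⟨j₀.left, fun i φ => ?_⟩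
  let j : Over i₁ := Over.mk (φ ≫ j₀.hom)
  have hj : RepWith @IsClosedImmersion (pullback.fst a (D.map j.hom) ≫ (yon S).map μ) :=
    hj₀ j (Over.homMk φ rfl)
  have sqE := IsPullback.of_hasPullback a (D.map j.hom)
  have hEA : IsAlgSpace (pullback a (D.map j.hom)) := K613.Chart.isAlgSpace_pullback hTA (hD i) (hD i₁) _ _
  have sqW := IsPullback.of_hasPullback (t i) v
  have hWA : IsAlgSpace (pullback (t i) v) := K613.Chart.isAlgSpace_pullback (hD i) hVA hY _ _
  obtain ⟨w, ρ, h1, h2, h3⟩ := exists_bc sq₁ γ (ht j.hom) sqW sqE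
  have hρ : IsProperMor ρ := K597.Proper.isProperMor_of_isPullback hTA hX₁ hWA h3 hγ
  have hρs : Function.Surjective (Points.map ρ) := fun x => by
    obtain ⟨z, hz⟩ := hγs (Points.map w x)
    obtain ⟨y, -, hy⟩ := K596.Pts.exists_of_isPullback h3 z x hz
    exact ⟨y, hy⟩
  have e : (pullback.fst a (D.map j.hom) ≫ (yon S).map μ) ≫ (yon S).map π = ρ ≫ pullback.snd (t i) v := by
    rw [h1, Category.assoc, ← Functor.map_comp, hμπ, hτ]
  have hW : IsProperMor (pullback.snd (t i) v) := by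
    refine K597.ProperSub.isProperMor_of_surjective (Z := ⟨_, hEA⟩) (W := ⟨_, hWA⟩)
      (B := ⟨_, hVA⟩) ⟨ρ⟩ ⟨pullback.snd (t i) v⟩ hρs hρ.2.2 ?_ ?_
    · exact K597.locP_bc K597.etLoc_lft sqW (hD i).hasAtlas hY.hasAtlas hVA.hasAtlas (hft i)
    · change IsProperMor (ρ ≫ pullback.snd (t i) v)
      rw [← e]
      exact K597.ProperSub.isProperMor_comp hEA hPA hVA (K597.ProperSub.isProperMor_of_closed hPA hj) hπm
  exact K597.Proper.isProperMor_of_cover (hD i) hY hv hvs sqW hW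

end K601.ProperLim
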