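import Groth.Agent.AlgSp.K601.PbSys
import Groth.Agent.AlgSp.K601.FpDesc
import Groth.Agent.AlgSp.K633.AbsMor
import Groth.Agent.CurvSt.K902.SliceMor
import Groth.Agent.AlgSp.K610.OpenImm

/-!
# Relative approximation from the absolute one (Stacks 07SU)
-/

set_option autoImplicit false
set_option backward.isDefEq.respectTransparency false
universe u

open CategoryTheory CategoryTheory.Limits AlgebraicGeometry Opposite
open AlgSp

namespace K601.RelApprox

open K595 K595.ChBase K902.Slice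

section fp

variable {S : Scheme.{u}} {X Y Z P : Sp S}

theorem isFinitePresentationMor_bc (hX : IsAlgSpace X) (hZ : IsAlgSpace Z) (hY : IsAlgSpace Y) {f : X ⟶ Z}
    {g : Y ⟶ Z} {fst : P ⟶ X} {snd : P ⟶ Y} (sq : IsPullback fst snd f g) (hf : IsFinitePresentationMor f) :
    IsFinitePresentationMor snd :=
  ⟨K597.locP_bc K597.etLoc_lfp sq hX.hasAtlas hZ.hasAtlas hY.hasAtlas hf.1,
    K596.QC.isQuasiCompactMor_of_isPullback sq hf.2.1,
    K595.DiagRel.isQuasiSeparatedMor_isStableUnderBaseChange.of_isPullback sq hf.2.2⟩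

theorem isFinitePresentationMor_comp (hX : IsAlgSpace X) (hY : IsAlgSpace Y) (hZ : IsAlgSpace Z) {f : X ⟶ Y}
    {g : Y ⟶ Z} (hf : IsFinitePresentationMor f) (hg : IsFinitePresentationMor g) :
    IsFinitePresentationMor (f ≫ g) :=
  ⟨K597.locP_comp K597.etLoc_lfp hX.hasAtlas hY.hasAtlas hZ.hasAtlas hf.1 hg.1,
    K596.QC.isQuasiCompactMor_comp hY hZ hf.2.1 hg.2.1,
    (IsQuasiSeparatedMor (S := S)).comp_mem _ _ hf.2.2 hg.2.2⟩

theorem isSeparatedMor_of_isAffineMor {f : X ⟶ Y} (hf : IsAffineMor f) : IsSeparatedMor f := by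
  have h := K597.Affine.repWith_of_isAffineMor hf
  exact (K595.DiagBasic.isSeparatedMor_iff_repWith h.1).2
    (K597.repWith_mono (fun _ _ g (_ : IsAffineHom g) => (inferInstance : IsSeparated g)) h)

end fp

section base

variable {S S' : Scheme.{u}} (g : S ⟶ S')

theorem isPullback_counit {F G : Sp S'} (f : F ⟶ G) :
    IsPullback ((adj g).counit.app F) ((L g).map ((R g).map f)) f ((adj g).counit.app G) := by
  refine IsPullback.of_bot ?_ ((adj g).counit.naturality f).symm (isPullback_LR (g := g) G).flip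
  rw [L_map_projHom]
  have e : f ≫ terminal.from ((𝟭 (Sp S')).obj G) = terminal.from F := Subsingleton.elim _ _
  rw [e]
  exact (isPullback_LR (g := g) F).flip

theorem isFinitePresentationMor_R {F G : Sp S'} (hF : IsAlgSpace F) (hG : IsAlgSpace G) {f : F ⟶ G}
    (hf : IsFinitePresentationMor f) : IsFinitePresentationMor ((R g).map f) :=
  (isFinitePresentationMor_L_iff (g := g) _).1
    (isFinitePresentationMor_bc hF hG (isAlgSpace_L (isAlgSpace_R hG)) (isPullback_counit g f) hf)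

theorem isAffineMor_R {F G : Sp S'} {f : F ⟶ G} (hf : IsAffineMor f) : IsAffineMor ((R g).map f) := by
  rw [K597.Affine.isAffineMor_iff] at hf ⊢
  exact repWith_R (g := g) hf

theorem isQuasiSeparatedSp_L [QuasiSeparatedSpace S] {F : Sp S} (h : IsQuasiSeparatedSp F) :
    IsQuasiSeparatedSp ((L g).obj F) := by
  let T : Over S := Over.mk (𝟙 S)
  let t : F ⟶ (yon S).obj T := (K596.QC2.isTerminalYon S).from F
  have h1 : IsQuasiSeparatedMor ((L g).map t) :=
    (isQuasiSeparatedMor_L_iff (g := g) t).2 (K613.Diag.repWith_diagonal_of_diag h _)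
  have : QuasiSeparatedSpace ((Over.map g).obj T).left := ‹QuasiSeparatedSpace S›
  have h2 : IsQuasiSeparatedSp ((yon S').obj ((Over.map g).obj T)) := K601.FpDesc.isQuasiSeparatedSp_yon
  have h3 : IsQuasiSeparatedMor (inv (yonHom (g := g) T)) := K598.RepKit.repWith_of_isIso _
  exact K605.ImmMain.isQuasiSeparatedSp_of_mor h1 (K605.ImmMain.isQuasiSeparatedSp_of_mor h3 h2)

end base

/-- The approximation of morphisms over `S` (the statement of S10040). -/
def MorLim (S : Scheme.{u}) : Prop :=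
  ∀ {X Y : AlgSp.Space S} (f : X ⟶ Y)
    (_ : AlgSp.IsQuasiCompactSp X.obj) (_ : AlgSp.IsQuasiSeparatedSp X.obj)
    (_ : AlgSp.IsQuasiCompactSp Y.obj) (_ : AlgSp.IsQuasiSeparatedSp Y.obj),
    ∃ (I : Type u) (_ : Preorder I) (_ : IsDirected I (fun a b => a ≤ b)) (_ : Nonempty I)
      (DX DY : Iᵒᵖ ⥤ AlgSp.Sp S) (φ : DX ⟶ DY) (cX : Cone DX) (cY : Cone DY) (_ : IsLimit cX) (_ : IsLimit cY)
      (eX : cX.pt ≅ X.obj) (eY : cY.pt ≅ Y.obj),
      (∀ i, AlgSp.IsAlgSpace (DX.obj i) ∧ AlgSp.IsAlgSpace (DY.obj i)) ∧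
      (∀ (i j : Iᵒᵖ) (g : i ⟶ j), AlgSp.IsAffineMor (DX.map g) ∧ AlgSp.IsAffineMor (DY.map g)) ∧
      (∀ i, AlgSp.IsQuasiSeparatedSp (DX.obj i) ∧ AlgSp.IsQuasiSeparatedSp (DY.obj i) ∧
        (∀ q : DX.obj i ⟶ (AlgSp.yon S).obj (Over.mk (𝟙 S)), AlgSp.IsFiniteTypeMor q) ∧
        (∀ q : DY.obj i ⟶ (AlgSp.yon S).obj (Over.mk (𝟙 S)), AlgSp.IsFiniteTypeMor q)) ∧
      (∀ i, cX.π.app i ≫ φ.app i = eX.hom ≫ f.hom ≫ eY.inv ≫ cY.π.app i)

/-- Morphisms between the members are of finite presentation. -/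
theorem isFinitePresentationMor_of_terminal {S : Scheme.{u}} (hS : IsTerminal S) {X Y : Sp S} (hX : IsAlgSpace X)
    (hY : IsAlgSpace Y) (hXs : IsQuasiSeparatedSp X) (hYs : IsQuasiSeparatedSp Y)
    (hXf : ∀ q : X ⟶ (yon S).obj (Over.mk (𝟙 S)), IsFiniteTypeMor q)
    (hYf : ∀ q : Y ⟶ (yon S).obj (Over.mk (𝟙 S)), IsFiniteTypeMor q) (f : X ⟶ Y) : IsFinitePresentationMor f := by
  have := K633.AbsMor.isAffine_of_isTerminal hS
  have hT := K596.QC2.isTerminalYon S
  refine ⟨?_, K596.QC2.isQuasiCompactMor_of_qc_of_qs hX hY f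
    (K633.AbsMor.isQuasiCompactSp_of_isFiniteTypeMor hS (hXf (hT.from _))) hYs,
    K613.Diag.repWith_diagonal_of_diag hXs _⟩
  exact StageRel.LRel.lfp_of_comp hX hY (IsAlgSpace.yon_obj _) (g := hT.from Y)
    (K633.AbsMor.locP_lfp_of_lft hS (hXf _).1) (hYf _).1

/-- The relative approximation for a quasi-compact target. -/
theorem main_qc {S : Scheme.{u}} [QuasiSeparatedSpace S] (H : MorLim (⊤_ Scheme.{u})) {X Y : AlgSp.Space S} (f : X ⟶ Y)
    (hXqc : AlgSp.IsQuasiCompactSp X.obj) (hXqs : AlgSp.IsQuasiSeparatedSp X.obj)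
    (hYqc : AlgSp.IsQuasiCompactSp Y.obj) (hYqs : AlgSp.IsQuasiSeparatedSp Y.obj) :
    ∃ (I : Type u) (_ : Preorder I) (_ : IsDirected I (fun a b => a ≤ b)) (_ : Nonempty I)
      (D : Iᵒᵖ ⥤ AlgSp.Sp S) (t : D ⟶ (Functor.const Iᵒᵖ).obj Y.obj) (c : Cone D) (_ : IsLimit c) (e : c.pt ≅ X.obj),
      (∀ i, AlgSp.IsAlgSpace (D.obj i)) ∧ (∀ (i j : Iᵒᵖ) (φ : i ⟶ j), AlgSp.IsAffineMor (D.map φ)) ∧
      (∀ i, AlgSp.IsFinitePresentationMor (t.app i)) ∧ (∀ i, e.inv ≫ c.π.app i ≫ t.app i = f.hom) := by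
  let S₁ : Scheme.{u} := ⊤_ Scheme.{u}
  have hS₁ : IsTerminal S₁ := terminalIsTerminal
  let g : S ⟶ S₁ := hS₁.from S
  let X₁ : Space S₁ := ⟨(L g).obj X.obj, isAlgSpace_L X.property⟩
  let Y₁ : Space S₁ := ⟨(L g).obj Y.obj, isAlgSpace_L Y.property⟩
  let f₁ : X₁ ⟶ Y₁ := ⟨(L g).map f.hom⟩
  obtain ⟨I, _, _, _, DX, DY, φ, cX, cY, hcX, hcY, eX, eY, hA, hAf, hfin, hcomm⟩ := H f₁
    ((isQuasiCompactSp_L_iff (g := g) _).2 hXqc) (isQuasiSeparatedSp_L g hXqs)
    ((isQuasiCompactSp_L_iff (g := g) _).2 hYqc) (isQuasiSeparatedSp_L g hYqs)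
  -- restrict to `S`
  let DX' : Iᵒᵖ ⥤ Sp S := DX ⋙ R g
  let DY' : Iᵒᵖ ⥤ Sp S := DY ⋙ R g
  let φ' : DX' ⟶ DY' := Functor.whiskerRight φ (R g)
  have : PreservesLimitsOfSize.{u, u} (R g) := (adj g).rightAdjoint_preservesLimits
  have hcX' : IsLimit ((R g).mapCone cX) := isLimitOfPreserves (R g) hcX
  have hcY' : IsLimit ((R g).mapCone cY) := isLimitOfPreserves (R g) hcY
  let F : cX.pt ⟶ cY.pt := eX.hom ≫ (L g).map f.hom ≫ eY.inv
  have hF : ∀ j, ((R g).mapCone cX).π.app j ≫ φ'.app j = (R g).map F ≫ ((R g).mapCone cY).π.app j := by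
    intro j
    change (R g).map (cX.π.app j) ≫ (R g).map (φ.app j) = (R g).map F ≫ (R g).map (cY.π.app j)
    rw [← Functor.map_comp, ← Functor.map_comp, hcomm j]
    refine congrArg (R g).map ?_
    change eX.hom ≫ (L g).map f.hom ≫ eY.inv ≫ cY.π.app j = (eX.hom ≫ (L g).map f.hom ≫ eY.inv) ≫ cY.π.app j
    rw [Category.assoc, Category.assoc]
  let y : Y.obj ⟶ (R g).obj cY.pt := unitHom (g := g) Y.obj ≫ (R g).map eY.inv
  let cy : Cone DY' := ((R g).mapCone cY).extend y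
  have hy : ∀ j, y ≫ ((R g).mapCone cY).π.app j = cy.π.app j := fun j => rfl
  let a : X.obj ⟶ (R g).obj cX.pt := unitHom (g := g) X.obj ≫ (R g).map eX.inv
  have sq : IsPullback a f.hom ((R g).map F) y := by
    refine (isPullback_unit (g := g) f.hom).of_iso (Iso.refl _) ((R g).mapIso eX.symm) (Iso.refl _)
      ((R g).mapIso eY.symm) ?_ ?_ ?_ ?_
    · simp [a]
    · simp
    · change (R g).map ((L g).map f.hom) ≫ (R g).map eY.inv = (R g).map eX.inv ≫ (R g).map F
      rw [← Functor.map_comp, ← Functor.map_comp]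
      simp [F]
    · simp [y]
  have hfil : IsFiltered I := inferInstance
  have hcon : IsConnected Iᵒᵖ := IsCofiltered.isConnected _
  have hlim := PbSys.isLimitCone (φ := φ') (cy := cy) hF hy sq hcX' hcY'
  refine ⟨I, inferInstance, inferInstance, inferInstance, PbSys.sys φ' cy, PbSys.snd φ' cy, _, hlim,
    Iso.refl _, ?_, ?_, ?_, ?_⟩
  · intro i
    exact K613.Chart.isAlgSpace_of_isPullback (isAlgSpace_R (g := g) (hA i).2).diag (isAlgSpace_R (g := g) (hA i).1)
      Y.property (PbSys.isPullback φ' cy i)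
  · intro i j ψ
    exact PbSys.isAffineMor_sys ψ (isAffineMor_R g (hAf i j ψ).1)
      (isSeparatedMor_of_isAffineMor (isAffineMor_R g (hAf i j ψ).2))
  · intro i
    refine isFinitePresentationMor_bc (isAlgSpace_R (g := g) (hA i).1) (isAlgSpace_R (g := g) (hA i).2) Y.property
      (PbSys.isPullback φ' cy i) ?_
    exact isFinitePresentationMor_R g (hA i).1 (hA i).2 (isFinitePresentationMor_of_terminal hS₁ (hA i).1 (hA i).2
      (hfin i).1 (hfin i).2.1 (hfin i).2.2.1 (hfin i).2.2.2 (φ.app i))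
  · intro i
    change 𝟙 _ ≫ PbSys.π hF hy sq i ≫ PbSys.snd' φ' cy i = f.hom
    rw [Category.id_comp, PbSys.π_snd]

/-- Quasi-compact open neighbourhoods of compact sets. -/
theorem exists_qc_open {S : Scheme.{u}} (Y : Space S) {K : Set (Points Y.obj)} (hK : IsCompact K) :
    ∃ (V : Space S) (j : V ⟶ Y), RepWith @IsOpenImmersion j.hom ∧ K ⊆ Set.range (Points.map j.hom) ∧
      IsQuasiCompactSp V.obj := by
  choose V hV hVc hx _ using fun x : Points Y.obj =>
    K609.QC.exists_isOpen_isCompact_nhd Y.property x Set.univ isOpen_univ trivial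
  obtain ⟨t, ht⟩ := hK.elim_finite_subcover V hV (fun x _ => Set.mem_iUnion.2 ⟨x, hx x⟩)
  have h1 : IsOpen (⋃ x ∈ t, V x) := isOpen_biUnion fun x _ => hV x
  have h2 : IsCompact (⋃ x ∈ t, V x) := t.isCompact_biUnion fun x _ => hVc x
  obtain ⟨V', j, hj, hr⟩ := K610.Sub.exists_open_subspace Y _ h1
  refine ⟨V', j, hj, by rwa [hr], ?_⟩
  have h3 := (K610.OpenImm.isOpenEmbedding_points Y.property hj)
  have : CompactSpace (Points V'.obj) := by
    rw [← isCompact_univ_iff, h3.isInducing.isCompact_iff, Set.image_univ, hr]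
    exact h2
  exact K609.QC.isQuasiCompactSp_of_compactSpace V'.property

/-- A map from a space factors through an open subspace containing its image. -/
theorem exists_factor_open {S : Scheme.{u}} {X Y V : Sp S} {j : V ⟶ Y} (hj : RepWith @IsOpenImmersion j) (f : X ⟶ Y)
    (h : Set.range (Points.map f) ⊆ Set.range (Points.map j)) : ∃ f' : X ⟶ V, f' ≫ j = f := by
  have := K610.Factor.mono_of_isOpenImmersion hj
  refine K610.Factor.exists_factor_of_yon j f fun T x => K610.Factor.exists_lift_open hj (x ≫ f) ?_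
  rintro _ ⟨t, rfl⟩
  apply h
  exact ⟨Points.ofPt x t, (K610.Base.ofPt_comp x f t).symm⟩

/-- The relative approximation. -/
theorem main {S : Scheme.{u}} [QuasiSeparatedSpace S] (H : MorLim (⊤_ Scheme.{u})) {X Y : AlgSp.Space S} (f : X ⟶ Y)
    (hXqc : AlgSp.IsQuasiCompactSp X.obj) (hXqs : AlgSp.IsQuasiSeparatedSp X.obj)
    (hYqs : AlgSp.IsQuasiSeparatedSp Y.obj) :
    ∃ (I : Type u) (_ : Preorder I) (_ : IsDirected I (fun a b => a ≤ b)) (_ : Nonempty I)
      (D : Iᵒᵖ ⥤ AlgSp.Sp S) (t : D ⟶ (Functor.const Iᵒᵖ).obj Y.obj) (c : Cone D) (_ : IsLimit c) (e : c.pt ≅ X.obj),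
      (∀ i, AlgSp.IsAlgSpace (D.obj i)) ∧ (∀ (i j : Iᵒᵖ) (φ : i ⟶ j), AlgSp.IsAffineMor (D.map φ)) ∧
      (∀ i, AlgSp.IsFinitePresentationMor (t.app i)) ∧ (∀ i, e.inv ≫ c.π.app i ≫ t.app i = f.hom) := by
  have hX := K609.QC.compactSpace_points hXqc
  obtain ⟨V, j, hj, hK, hVqc⟩ := exists_qc_open Y (isCompact_range (Points.continuous_map f.hom))
  obtain ⟨f', hf'⟩ := exists_factor_open hj f.hom hK
  have hjm := K610.Factor.mono_of_isOpenImmersion hj
  have hjqs : IsQuasiSeparatedMor j.hom := K598.RepKit.repWith_of_isIso _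
  have hVqs : IsQuasiSeparatedSp V.obj := K605.ImmMain.isQuasiSeparatedSp_of_mor hjqs hYqs
  have hjfp : IsFinitePresentationMor j.hom := by
    refine ⟨K597.locP_of_repWith K597.etLoc_lfp.precomp (K597.repWith_mono
      (fun _ _ g (_ : IsOpenImmersion g) => (inferInstance : LocallyOfFinitePresentation g)) hj),
      K596.QC2.isQuasiCompactMor_of_qc_of_qs V.property Y.property _ hVqc hYqs, hjqs⟩
  obtain ⟨I, h₁, h₂, h₃, D, t, c, hc, e, hD, hDa, hfp, he⟩ := main_qc H (X := X) (Y := V) ⟨f'⟩ hXqc hXqs hVqc hVqs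
  refine ⟨I, h₁, h₂, h₃, D, t ≫ (Functor.const Iᵒᵖ).map j.hom, c, hc, e, hD, hDa, fun i => ?_, fun i => ?_⟩
  · exact isFinitePresentationMor_comp (hD i) V.property Y.property (hfp i) hjfp
  · change e.inv ≫ c.π.app i ≫ t.app i ≫ j.hom = f.hom
    rw [← hf']
    have := he i
    change e.inv ≫ c.π.app i ≫ t.app i = f' at this
    rw [← this]
    simp only [Category.assoc]

end K601.RelApprox
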