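import Groth.Agent.AlgSp.K601.Stage
import Groth.Agent.S2581
import Groth.Agent.S9191
import Groth.Agent.S9192

/-!
# Descent of properties of morphisms of affine schemes to a stage, as a property `StageDesc Q P`
-/

set_option autoImplicit false
set_option backward.isDefEq.respectTransparency false
universe u

open CategoryTheory CategoryTheory.Limits AlgebraicGeometry

namespace K601.StDesc

/-- `P` of the base change to an affine limit, of a morphism with `Q` from a scheme with `N` to a stage, descends to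
a stage. -/
def StageDescN (N : Scheme.{u} → Prop) (Q P : MorphismProperty Scheme.{u}) : Prop :=
  ∀ ⦃I : Type u⦄ [SmallCategory I] [IsCofiltered I] (D : I ⥤ Scheme.{u}) (c : Cone D), IsLimit c →
    (∀ i, IsAffine (D.obj i)) → ∀ (i₀ : I) ⦃X₀ X : Scheme.{u}⦄ (f₀ : X₀ ⟶ D.obj i₀) (f : X ⟶ c.pt) (q : X ⟶ X₀),
    N X₀ → IsPullback q f f₀ (c.π.app i₀) → Q f₀ → P f →
    ∃ (i : I) (φ : i ⟶ i₀), P (pullback.snd f₀ (D.map φ))

/-- `P` of the base change to an affine limit, of a morphism with `Q` from an affine scheme to a stage, descends to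
a stage. -/
def StageDesc (Q P : MorphismProperty Scheme.{u}) : Prop := StageDescN (fun X => IsAffine X) Q P

/-- converting the conclusion of the scheme level statements -/
theorem of_squares {P : MorphismProperty Scheme.{u}} [P.RespectsIso] {B B' : Scheme.{u}} (β : B' ⟶ B)
    {X₀ : Scheme.{u}} (f₀ : X₀ ⟶ B) {Xi Yi : Scheme.{u}} (fi : Xi ⟶ Yi) (gi : Yi ⟶ B') (pY : Yi ⟶ B) (pX : Xi ⟶ X₀)
    (h1 : IsPullback pY gi (𝟙 B) β) (h2 : IsPullback pX fi f₀ pY) (h : P fi) : P (pullback.snd f₀ β) := by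
  have : IsIso gi := h1.isIso_snd_of_isIso
  have e : pY = gi ≫ β := by rw [← h1.w, Category.comp_id]
  have h3 : IsPullback pX (fi ≫ gi) f₀ β := by
    refine IsPullback.of_iso h2 (Iso.refl _) (Iso.refl _) (asIso gi) (Iso.refl _) (by simp) (by simp) (by simp)
      (by simp [e])
  have e2 : (h3.isoPullback).inv ≫ fi ≫ gi = pullback.snd f₀ β := h3.isoPullback_inv_snd
  rw [← e2]
  exact (P.cancel_left_of_respectsIso _ _).2 ((P.cancel_right_of_respectsIso _ _).2 h)

theorem stageDesc_of_descendsAffine {P Q : MorphismProperty Scheme.{u}} [P.IsStableUnderBaseChange]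
    [IsZariskiLocalAtTarget P] [Q.IsStableUnderBaseChange]
    (hA : Groth.Agent.Smoothlim.LimBase.DescendsAffine Q P) : StageDesc Q P := by
  intro I _ _ D c hc hD i₀ X₀ X f₀ f q _ sq hQ hP
  have hDa : ∀ (i j : I) (f : i ⟶ j), IsAffineHom (D.map f) := fun i j f => by
    have := hD i; have := hD j; infer_instance
  have := hD i₀
  exact Stage.exists_descend_stage hA D c hc i₀ f₀ f q sq hQ hP

theorem stageDesc_surjective : StageDesc @LocallyOfFinitePresentation.{u} @Surjective.{u} := by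
  intro I _ _ D c hc hD i₀ X₀ X f₀ f q hX₀ sq hQ hP
  have hDa : ∀ (i j : I) (f : i ⟶ j), IsAffineHom (D.map f) := fun i j f => by
    have := hD i; have := hD j; infer_instance
  have := hD i₀
  have hP' : Surjective f := hP
  have hQ' : LocallyOfFinitePresentation f₀ := hQ
  have : LocallyOfFinitePresentation (f₀ ≫ 𝟙 (D.obj i₀)) := by rwa [Category.comp_id]
  have : QuasiCompact (f₀ ≫ 𝟙 (D.obj i₀)) := by rw [Category.comp_id]; infer_instance
  have : QuasiSeparated (f₀ ≫ 𝟙 (D.obj i₀)) := by rw [Category.comp_id]; infer_instance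
  obtain ⟨i, φ, Xi, Yi, fi, gi, pY, pX, h1, h2, h3⟩ := Groth.Agent.S2581.result D c hc i₀ f₀ (𝟙 _) f (𝟙 _)
    (c.π.app i₀) q IsPullback.of_id_snd sq
  exact ⟨i, φ, of_squares (P := @Surjective) (D.map φ) f₀ fi gi pY pX h1 h2 h3⟩

theorem stageDesc_smooth : StageDesc @LocallyOfFinitePresentation.{u} @Smooth.{u} := by
  intro I _ _ D c hc hD i₀ X₀ X f₀ f q hX₀ sq hQ hP
  have hDa : ∀ (i j : I) (f : i ⟶ j), IsAffineHom (D.map f) := fun i j f => by
    have := hD i; have := hD j; infer_instance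
  have := hD i₀
  have hP' : Smooth f := hP
  have hQ' : LocallyOfFinitePresentation f₀ := hQ
  obtain ⟨i, φ, Xi, Yi, fi, gi, pY, pX, h1, h2, h3⟩ := Groth.Agent.S9191.result D c hc i₀ f₀ (𝟙 _) f (𝟙 _)
    (c.π.app i₀) q IsPullback.of_id_snd sq
  exact ⟨i, φ, of_squares (P := @Smooth) (D.map φ) f₀ fi gi pY pX h1 h2 h3⟩

theorem stageDesc_etale : StageDesc @LocallyOfFinitePresentation.{u} @Etale.{u} := by
  intro I _ _ D c hc hD i₀ X₀ X f₀ f q hX₀ sq hQ hP
  have hDa : ∀ (i j : I) (f : i ⟶ j), IsAffineHom (D.map f) := fun i j f => by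
    have := hD i; have := hD j; infer_instance
  have := hD i₀
  have hP' : Etale f := hP
  have hQ' : LocallyOfFinitePresentation f₀ := hQ
  obtain ⟨i, φ, Xi, Yi, fi, gi, pY, pX, h1, h2, h3⟩ := Groth.Agent.S9192.result D c hc i₀ f₀ (𝟙 _) f (𝟙 _)
    (c.π.app i₀) q IsPullback.of_id_snd sq
  exact ⟨i, φ, of_squares (P := @Etale) (D.map φ) f₀ fi gi pY pX h1 h2 h3⟩

theorem stageDesc_flat : StageDesc @LocallyOfFinitePresentation.{u} @Flat.{u} := by
  intro I _ _ D c hc hD i₀ X₀ X f₀ f q hX₀ sq hQ hP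
  have := hD i₀
  exact stageDesc_of_descendsAffine Stage.admissible_flat.desc D c hc hD i₀ f₀ f q hX₀ sq
    ⟨hQ, (inferInstance : QuasiCompact f₀)⟩ hP

end K601.StDesc
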