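import Groth.Agent.AlgSp.K600.LimAff
import Groth.Agent.AlgSp.K597.LocP
import Groth.Agent.AlgSp.K597.EtLoc
import Groth.Agent.AlgSp.K596.Pts
import Groth.Agent.AlgSp.K596.QC2
import Groth.Agent.AlgSp.K601.StageDesc
import Groth.Agent.AlgSp.K601.CoverDesc

/-!
# Charts of a morphism over a system of algebraic spaces, descent of chart properties to a stage
-/

set_option autoImplicit false
set_option backward.isDefEq.respectTransparency false
universe u

open CategoryTheory CategoryTheory.Limits AlgebraicGeometry Opposite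
open AlgSp

namespace K601.RelChart

variable {S : Scheme.{u}}

/-- A chart `U` of `X` over the chart `V` of `Y` for `f : X ⟶ Y`: an etale surjective `h_U ⟶ X ×_Y h_V`. -/
structure Chart {X Y : Sp S} (f : X ⟶ Y) {U V : Over S} (v : (yon S).obj V ⟶ Y) (g : U ⟶ V) : Prop where
  ex : ∃ (Z : Sp S) (z₁ : Z ⟶ X) (z₂ : Z ⟶ (yon S).obj V) (k : (yon S).obj U ⟶ Z),
    IsPullback z₁ z₂ f v ∧ RepWith @Etale k ∧ RepWith @Surjective k ∧ k ≫ z₂ = (yon S).map g

/-- A chart of the base of a base change. -/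
theorem exists_chart_target {Y₀ B B' Y' : Sp S} {b₀ : Y₀ ⟶ B} {β : B' ⟶ B} {p : Y' ⟶ Y₀} {q : Y' ⟶ B'}
    (h : IsPullback p q b₀ β) {V₀ W : Over S} {v : (yon S).obj V₀ ⟶ Y₀} {e : (yon S).obj W ⟶ B'} {r : W ⟶ V₀}
    (sq : IsPullback e ((yon S).map r) β (v ≫ b₀)) :
    ∃ w : (yon S).obj W ⟶ Y', IsPullback w ((yon S).map r) p v ∧ w ≫ q = e := by
  have hw : ((yon S).map r ≫ v) ≫ b₀ = e ≫ β := by rw [Category.assoc, sq.w]
  refine ⟨h.lift ((yon S).map r ≫ v) e hw, ?_, h.lift_snd _ _ _⟩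
  have s : IsPullback ((yon S).map r) (h.lift ((yon S).map r ≫ v) e hw ≫ q) (v ≫ b₀) β := by
    rw [h.lift_snd]
    exact sq.flip
  exact (IsPullback.of_bot s (h.lift_fst _ _ _).symm h).flip

theorem Chart.bc {X₀ Y₀ : Sp S} {f₀ : X₀ ⟶ Y₀} {U₀ V₀ : Over S} {v : (yon S).obj V₀ ⟶ Y₀} {g : U₀ ⟶ V₀}
    (H : Chart f₀ v g) {X'' Y' : Sp S} {p : Y' ⟶ Y₀} {f'' : X'' ⟶ Y'} {px : X'' ⟶ X₀}
    (hX : IsPullback px f'' f₀ p) {W : Over S} {w : (yon S).obj W ⟶ Y'} {r : W ⟶ V₀}
    (hw : IsPullback w ((yon S).map r) p v) {U' : Over S} {a : U' ⟶ U₀} {g' : U' ⟶ W}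
    (hU : IsPullback a g' g r) : Chart f'' w g' := by
  obtain ⟨Z, z₁, z₂, k, sq, hk, hks, hkg⟩ := H.ex
  have sq' : IsPullback (pullback.fst f'' w) (pullback.snd f'' w) f'' w := IsPullback.of_hasPullback _ _
  have big : IsPullback (pullback.fst f'' w ≫ px) (pullback.snd f'' w) f₀ ((yon S).map r ≫ v) := by
    rw [← hw.w]
    exact sq'.paste_horiz hX
  have hm : (pullback.fst f'' w ≫ px) ≫ f₀ = (pullback.snd f'' w ≫ (yon S).map r) ≫ v := by
    rw [big.w, Category.assoc]
  have sqm : IsPullback (sq.lift _ _ hm) (pullback.snd f'' w) z₂ ((yon S).map r) :=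
    IsPullback.of_right (by rw [sq.lift_fst]; exact big) (sq.lift_snd _ _ _) sq
  have hU' : IsPullback ((yon S).map a) ((yon S).map g') (k ≫ z₂) ((yon S).map r) := by
    rw [hkg]
    exact hU.map (yon S)
  have hk' : ((yon S).map a ≫ k) ≫ z₂ = (yon S).map g' ≫ (yon S).map r := by
    rw [Category.assoc]; exact hU'.w
  have sqk : IsPullback ((yon S).map a) (sqm.lift _ _ hk') k (sq.lift _ _ hm) :=
    IsPullback.of_bot (by rw [sqm.lift_snd]; exact hU') (sqm.lift_fst _ _ _).symm sqm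
  exact ⟨_, _, _, sqm.lift _ _ hk', sq', K597.repWith_bc _ sqk hk, K597.repWith_bc _ sqk hks, sqm.lift_snd _ _ _⟩

theorem Chart.exists_map {X Y : Sp S} {f : X ⟶ Y} {U V : Over S} {v : (yon S).obj V ⟶ Y} {g : U ⟶ V}
    (H : Chart f v g) (hv : RepWith @Etale v) :
    ∃ a : (yon S).obj U ⟶ X, RepWith @Etale a ∧ a ≫ f = (yon S).map g ≫ v ∧
      (RepWith @Surjective v → RepWith @Surjective a) := by
  obtain ⟨Z, z₁, z₂, k, sq, hk, hks, hkg⟩ := H.ex
  refine ⟨k ≫ z₁, K597.etale_comp hk (K597.repWith_bc' _ sq hv), ?_, fun h => ?_⟩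
  · rw [Category.assoc, sq.w, ← Category.assoc, hkg]
  · exact K597.surjective_comp hks (K597.repWith_bc' _ sq h)

/-- A property of morphisms of sheaves detected by a property of schemes on charts. -/
structure ChartDet (T : MorphismProperty (Sp S)) (P : MorphismProperty Scheme.{u}) : Prop where
  down : ∀ {X Y : Sp S} (f : X ⟶ Y) {U V : Over S} (v : (yon S).obj V ⟶ Y) (g : U ⟶ V), T f → RepWith @Etale v →
    Chart f v g → P g.left
  up : ∀ {X Y : Sp S} (f : X ⟶ Y) {U V : Over S} (v : (yon S).obj V ⟶ Y) (g : U ⟶ V), P g.left → RepWith @Etale v →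
    RepWith @Surjective v → Chart f v g → T f

theorem chartDet_locP {P : MorphismProperty Scheme.{u}} (hP : K597.EtLoc P) :
    ChartDet (S := S) (LocP P) P where
  down f U V v g hf hv H := by
    obtain ⟨a, ha, hag, -⟩ := H.exists_map hv
    exact hf a v g ha hv hag
  up f U V v g hg hv hvs H := by
    obtain ⟨a, ha, hag, has⟩ := H.exists_map hv
    exact K597.locP_of_chart hP f a v g ha (has hvs) hv hag hg

theorem surjective_left_of_points {T U : Over S} (φ : T ⟶ U)
    (h : Function.Surjective (Points.map ((yon S).map φ))) : Surjective φ.left := by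
  constructor
  intro b
  obtain ⟨x, hx⟩ := h (Points.schemeHomeo U b)
  obtain ⟨t, rfl⟩ := (Points.schemeHomeo T).surjective x
  rw [Points.map_yon_map_apply] at hx
  exact ⟨t, (Points.schemeHomeo U).injective hx⟩

theorem chartDet_surjective : ChartDet (S := S) IsSurjectiveMor @Surjective where
  down f U V v g hf _ H := by
    obtain ⟨Z, z₁, z₂, k, sq, hk, hks, hkg⟩ := H.ex
    refine surjective_left_of_points g ?_
    have h1 : Function.Surjective (Points.map z₂) := K596.Pts.surjective_of_isPullback sq hf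
    have h2 : Function.Surjective (Points.map k) := K596.Pts.surjective_of_repWith hks
    intro y
    obtain ⟨x, rfl⟩ := h1 y
    obtain ⟨w, rfl⟩ := h2 x
    exact ⟨w, by rw [← hkg, Points.map_comp]⟩
  up f U V v g hg hv hvs H := by
    obtain ⟨a, ha, hag, -⟩ := H.exists_map hv
    intro y
    obtain ⟨x, rfl⟩ := K596.Pts.surjective_of_repWith hvs y
    obtain ⟨z, rfl⟩ := K596.Pts.surjective_of_repWith (K597.surjective_map g hg) x
    exact ⟨Points.map a z, by rw [← Points.map_comp, ← Points.map_comp, hag]⟩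

theorem ChartDet.inf {T T' : MorphismProperty (Sp S)} {P P' : MorphismProperty Scheme.{u}} (h : ChartDet T P)
    (h' : ChartDet T' P') : ChartDet (T ⊓ T') (P ⊓ P') where
  down f _ _ v g hf hv H := ⟨h.down f v g hf.1 hv H, h'.down f v g hf.2 hv H⟩
  up f _ _ v g hg hv hvs H := ⟨h.up f v g hg.1 hv hvs H, h'.up f v g hg.2 hv hvs H⟩

/-- existence of affine charts -/
theorem exists_chart [QuasiSeparatedSpace S] {X Y : Sp S} (hX : IsAlgSpace X) (hY : IsAlgSpace Y) (f : X ⟶ Y)
    (hXc : IsQuasiCompactSp X) (hYc : IsQuasiCompactSp Y) (hYs : IsQuasiSeparatedSp Y) :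
    ∃ (U V : Over S) (v : (yon S).obj V ⟶ Y) (g : U ⟶ V), IsAffine U.left ∧ IsAffine V.left ∧ RepWith @Etale v ∧
      RepWith @Surjective v ∧ Chart f v g := by
  obtain ⟨V, v, hV, hv, hvs⟩ := K609.QC.exists_affine_chart hYc
  have h1 := K596.QC2.isQuasiCompactMor_of_qc_of_qs hX hY f hXc hYs
  have sq : IsPullback (pullback.fst f v) (pullback.snd f v) f v := IsPullback.of_hasPullback _ _
  have h2 : IsQuasiCompactSp (pullback f v) :=
    h1 (IsAlgSpace.yon_obj V) (K596.QC.isQuasiCompactSp_yon V) v _ _ sq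
  obtain ⟨U, k, hU, hk, hks⟩ := K609.QC.exists_affine_chart h2
  obtain ⟨g, hg⟩ := (yon S).map_surjective (k ≫ pullback.snd f v)
  exact ⟨U, V, v, g, hU, hV, hv, hvs, ⟨_, _, _, k, sq, hk, hks, hg.symm⟩⟩

section system

variable {I : Type u} [SmallCategory I] [IsCofiltered I] {D : I ⥤ Sp S}

open K600.LimSys

theorem exists_isPullback_left {X Y Z W : Over S} {fst : W ⟶ X} {snd : W ⟶ Y} {f : X ⟶ Z} {g : Y ⟶ Z}
    (h : IsPullback fst snd f g) : IsPullback fst.left snd.left f.left g.left := h.map (Over.forget S)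

/-- Descent of a property of the base change of a morphism of schemes, along a system of algebraic spaces. -/
theorem exists_stageN {N : Scheme.{u} → Prop} (hN : ∀ {A B : Scheme.{u}} (f : A ⟶ B) [IsIso f], N B → N A)
    {P Q : MorphismProperty Scheme.{u}} [P.IsStableUnderBaseChange] [Q.IsStableUnderBaseChange]
    (hPQ : StDesc.StageDescN N Q P) (hDa : ∀ (i j : I) (φ : i ⟶ j), IsAffineMor (D.map φ)) {c : Cone D}
    (hc : IsLimit c) (i₀ : I) {U₀ V₀ : Over S} (hU₀ : N U₀.left) (hV₀ : IsAffine V₀.left)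
    (p : (yon S).obj V₀ ⟶ D.obj i₀) (g : U₀ ⟶ V₀) (hQ : Q g.left)
    (hP : ∀ (V : Over S) (a : (yon S).obj V ⟶ c.pt) (b : V ⟶ V₀),
      IsPullback a ((yon S).map b) (c.π.app i₀) p → P (pullback.snd g b).left) :
    ∃ (i : I) (φ : i ⟶ i₀), ∀ (j : I) (ψ : j ⟶ i) (W : Over S) (e : (yon S).obj W ⟶ D.obj j) (r : W ⟶ V₀),
      IsPullback e ((yon S).map r) (D.map (ψ ≫ φ)) p → P (pullback.snd g r).left := by
  obtain ⟨s, V, a, b, hs, hV, sq⟩ := K600.LimAff.exists_sys_of_affine hDa hc hV₀ p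
  have hcE := s.isLimitConeLeft sq hc
  let j₀ : Over i₀ := Over.mk (𝟙 i₀)
  let r₁ : s.obj j₀ ⟶ V₀ := s.snd j₀
  have hr₁ : IsIso r₁ := by
    have h1 : IsIso (D.map (Over.mk (𝟙 i₀)).hom) := by
      change IsIso (D.map (𝟙 i₀))
      infer_instance
    have h2 : IsIso ((yon S).map r₁) := (s.sq j₀).isIso_snd_of_isIso
    exact isIso_of_fully_faithful (yon S) r₁
  have hb : s.proj sq j₀ ≫ r₁ = b := s.proj_snd sq j₀
  let f₁ : pullback g r₁ ⟶ s.obj j₀ := pullback.snd g r₁
  let q : pullback g b ⟶ pullback g r₁ := pullback.lift (pullback.fst g b) (pullback.snd g b ≫ s.proj sq j₀) (by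
    rw [Category.assoc, hb, pullback.condition])
  have hq : IsPullback q (pullback.snd g b) f₁ (s.proj sq j₀) := by
    refine IsPullback.of_right ?_ (pullback.lift_snd _ _ _) (IsPullback.of_hasPullback g r₁)
    rw [pullback.lift_fst, hb]
    exact IsPullback.of_hasPullback g b
  have hQ₁ : Q f₁.left := CoverDesc.left_of_isPullback Q (IsPullback.of_hasPullback g r₁) hQ
  have hj₀ : IsAffine (s.obj j₀).left := hs j₀
  have hU₁ : N (pullback g r₁).left := by
    have : IsIso (pullback.fst g r₁) := inferInstance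
    have h3 : IsIso (pullback.fst g r₁).left := inferInstanceAs (IsIso ((Over.forget S).map (pullback.fst g r₁)))
    exact hN (pullback.fst g r₁).left hU₀
  obtain ⟨j, φ, hj⟩ := hPQ (s.W ⋙ Over.forget S) ((Over.forget S).mapCone (s.cone sq)) hcE (fun j => hs j) j₀
    f₁.left (pullback.snd g b).left q.left hU₁ (exists_isPullback_left hq) hQ₁ (hP V a b sq)
  refine ⟨j.left, j.hom, fun k ψ W e r hW => ?_⟩
  -- the map from `W` to `s.obj j`
  obtain ⟨m, hm1, hm2⟩ := K600.Basic.exists_lift (s.sq j) (e ≫ D.map ψ) r (by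
    rw [Category.assoc, ← D.map_comp]; exact hW.w)
  have hφ : s.W.map φ ≫ r₁ = s.snd j := s.W_map_snd φ
  have hr : (m ≫ s.W.map φ) ≫ r₁ = r := by rw [Category.assoc, hφ, hm2]
  have h1 : IsPullback (pullback.lift (pullback.fst g r) (pullback.snd g r ≫ m ≫ s.W.map φ) (by
      rw [Category.assoc, hr, pullback.condition])) (pullback.snd g r) f₁ (m ≫ s.W.map φ) := by
    refine IsPullback.of_right ?_ (pullback.lift_snd _ _ _) (IsPullback.of_hasPullback g r₁)
    rw [pullback.lift_fst, hr]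
    exact IsPullback.of_hasPullback g r
  have h2 := exists_isPullback_left h1
  have h3 : P (pullback.snd f₁.left (m.left ≫ (s.W ⋙ Over.forget S).map φ)) :=
    Groth.Agent.Smoothlim.LimBase.snd_comp P f₁.left _ _ hj
  exact Groth.Agent.Smoothlim.LimBase.of_snd P h2 h3

/-- Descent of a property of the base change of a morphism of affine schemes, along a system of algebraic spaces. -/
theorem exists_stage {P Q : MorphismProperty Scheme.{u}} [P.IsStableUnderBaseChange] [Q.IsStableUnderBaseChange]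
    (hPQ : StDesc.StageDesc Q P) (hDa : ∀ (i j : I) (φ : i ⟶ j), IsAffineMor (D.map φ)) {c : Cone D}
    (hc : IsLimit c) (i₀ : I) {U₀ V₀ : Over S} (hU₀ : IsAffine U₀.left) (hV₀ : IsAffine V₀.left)
    (p : (yon S).obj V₀ ⟶ D.obj i₀) (g : U₀ ⟶ V₀) (hQ : Q g.left)
    (hP : ∀ (V : Over S) (a : (yon S).obj V ⟶ c.pt) (b : V ⟶ V₀),
      IsPullback a ((yon S).map b) (c.π.app i₀) p → P (pullback.snd g b).left) :
    ∃ (i : I) (φ : i ⟶ i₀), ∀ (j : I) (ψ : j ⟶ i) (W : Over S) (e : (yon S).obj W ⟶ D.obj j) (r : W ⟶ V₀),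
      IsPullback e ((yon S).map r) (D.map (ψ ≫ φ)) p → P (pullback.snd g r).left :=
  exists_stageN (N := fun X => IsAffine X) (fun {A B} f _ h => by
    have : IsAffine B := h
    exact IsAffine.of_isIso f) hPQ hDa hc i₀ hU₀ hV₀ p g hQ hP

end system

end K601.RelChart
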