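import Groth.Agent.AlgSp.K601.LimPres
import Groth.Agent.AlgSp.K594.Elem
import Groth.Agent.S9208
import Groth.Prelude.Def_AlgSp3

/-!
# Morphisms locally of finite presentation are relatively limit preserving: representable case; converse
-/

set_option autoImplicit false
set_option backward.isDefEq.respectTransparency false
universe u

open CategoryTheory CategoryTheory.Limits AlgebraicGeometry Opposite
open AlgSp

namespace K601.RelLimRep

open K601.LimPres K594.Elem

variable {S : Scheme.{u}}

section scheme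

variable {I : Type u} [SmallCategory I] [IsCofiltered I] {D : I ⥤ Over S} {c : Cone D}
  (hc : IsLimit ((Over.forget S).mapCone c)) (hD : ∀ i, IsAffine (D.obj i).left)

/-- the sliced diagram of schemes -/
abbrev sD (D : I ⥤ Over S) (i : I) : Over i ⥤ Scheme.{u} := Over.forget i ⋙ D ⋙ Over.forget S

/-- the sliced cone -/
abbrev sC (c : Cone D) (i : I) : Cone (sD D i) := ((Over.forget S).mapCone c).whisker (Over.forget i)

/-- structure maps to `B` -/
def sT {i : I} {B : Over S} (b : D.obj i ⟶ B) : sD D i ⟶ (Functor.const (Over i)).obj B.left where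
  app j := (D.map j.hom ≫ b).left
  naturality j k f := by
    change (D.map f.left).left ≫ (D.map k.hom ≫ b).left = (D.map j.hom ≫ b).left ≫ 𝟙 _
    rw [Category.comp_id, ← Over.comp_left, ← Category.assoc, ← D.map_comp, Over.w]

include hc hD in
theorem exists_factor {B W : Over S} (w : W ⟶ B) (hw : LocallyOfFinitePresentation w.left) {i : I}
    (b : D.obj i ⟶ B) (g : c.pt ⟶ W) (e : g ≫ w = c.π.app i ≫ b) :
    ∃ (j : I) (φ : j ⟶ i) (gj : D.obj j ⟶ W), c.π.app j ≫ gj = g ∧ gj ≫ w = D.map φ ≫ b := by
  have hc' : IsLimit (sC c i) := (Functor.Initial.isLimitWhiskerEquiv (Over.forget i) _).symm hc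
  have ha (j : Over i) : IsAffine ((sD D i).obj j) := hD j.left
  have haf {j k : Over i} (f : j ⟶ k) : IsAffineHom ((sD D i).map f) := inferInstance
  obtain ⟨j, gj, h1, h2⟩ := Scheme.exists_π_app_comp_eq_of_locallyOfFinitePresentation (sD D i) (sT b) w.left
    (sC c i) hc' g.left (by
      ext j : 2
      change (c.π.app j.left).left ≫ (D.map j.hom ≫ b).left = g.left ≫ w.left
      rw [← Over.comp_left, ← Over.comp_left, e, ← Category.assoc, c.w])
  change (c.π.app j.left).left ≫ gj = g.left at h1
  change gj ≫ w.left = (D.map j.hom ≫ b).left at h2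
  let gj' : D.obj j.left ⟶ W := Over.homMk gj (by
    rw [← Over.w w, ← Category.assoc, h2, Over.w])
  exact ⟨j.left, j.hom, gj', Over.OverMorphism.ext h1, Over.OverMorphism.ext h2⟩

include hc hD in
theorem exists_eq {B W : Over S} (w : W ⟶ B) (hw : LocallyOfFiniteType w.left) {i : I}
    (a a' : D.obj i ⟶ W) (e : a ≫ w = a' ≫ w) (h : c.π.app i ≫ a = c.π.app i ≫ a') :
    ∃ (j : I) (φ : j ⟶ i), D.map φ ≫ a = D.map φ ≫ a' := by
  have hc' : IsLimit (sC c i) := (Functor.Initial.isLimitWhiskerEquiv (Over.forget i) _).symm hc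
  have ha (j : Over i) : IsAffine ((sD D i).obj j) := hD j.left
  have haf {j k : Over i} (f : j ⟶ k) : IsAffineHom ((sD D i).map f) := inferInstance
  let i' : Over i := Over.mk (𝟙 i)
  have e1 : (sT (a ≫ w)).app i' = a.left ≫ w.left := by
    change (D.map (𝟙 i) ≫ a ≫ w).left = _
    rw [D.map_id, Category.id_comp, Over.comp_left]
  obtain ⟨k, f, hk⟩ := Scheme.exists_hom_comp_eq_comp_of_locallyOfFiniteType (sD D i) (sT (a ≫ w)) w.left
    (sC c i) hc' (i := i') a.left a'.left e1 (by rw [e1, ← Over.comp_left, e, Over.comp_left]) (by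
      change (c.π.app i).left ≫ a.left = (c.π.app i).left ≫ a'.left
      rw [← Over.comp_left, h, Over.comp_left])
  refine ⟨k.left, f.left, Over.OverMorphism.ext ?_⟩
  exact hk

end scheme

/-- A representable morphism locally of finite presentation is relatively limit preserving. -/
theorem isRelLimitPreserving_of_repWith {F G : Sp S} {f : F ⟶ G} (hf : RepWith @LocallyOfFinitePresentation f) :
    IsRelLimitPreserving f.hom := by
  rw [isRelLimitPreserving_iff]
  intro I _ _ D c hc hD hT
  constructor
  · intro x i y hxy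
    obtain ⟨W, w, ξ, hW, hw⟩ := RepWith.exists_isRep hf y
    obtain ⟨g, hg1, hg2⟩ := hW.lift (c.π.app i) x hxy
    obtain ⟨j, φ, gj, h1, h2⟩ := exists_factor hc hD w hw (𝟙 _) g (by rw [hg1, Category.comp_id])
    refine ⟨j, φ, F.obj.map gj.op ξ, ?_, ?_⟩
    · rw [map_op_comp, h1]
      exact hg2
    · rw [naturality_op, hW.w, map_op_comp, h2, Category.comp_id]
  · intro i x x' h h'
    obtain ⟨W, w, ξ, hW, hw⟩ := RepWith.exists_isRep hf (f.hom.app _ x)
    obtain ⟨g, hg1, hg2⟩ := hW.lift (𝟙 _) x (by rw [op_id, G.obj.map_id]; rfl)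
    obtain ⟨g', hg1', hg2'⟩ := hW.lift (𝟙 _) x' (by rw [op_id, G.obj.map_id, ← h]; rfl)
    have hw' : LocallyOfFiniteType w.left := by
      have : LocallyOfFinitePresentation w.left := hw
      infer_instance
    obtain ⟨j, φ, e⟩ := exists_eq hc hD w hw' g g' (by rw [hg1, hg1']) (hW.inj _ _ (by
      rw [Category.assoc, Category.assoc, hg1, hg1']) (by
      rw [← map_op_comp, ← map_op_comp, hg2, hg2']
      exact h'))
    refine ⟨j, φ, ?_⟩
    rw [← hg2, ← hg2', map_op_comp, map_op_comp, e]

/-- The converse for morphisms of schemes. -/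
theorem lfp_of_isRelLimitPreserving {U V : Over S} (h : U ⟶ V) (H : IsRelLimitPreserving ((yon S).map h).hom) :
    LocallyOfFinitePresentation h.left := by
  rw [isRelLimitPreserving_iff] at H
  refine Groth.Agent.S9208.result h.left ?_
  intro J _ _ _ D t c hc hD j₀ g hg
  let E : Jᵒᵖ ⥤ Over S :=
    { obj := fun j => Over.mk (t.app j ≫ V.hom)
      map := fun {j k} f => Over.homMk (D.map f) (by
        have := t.naturality f
        change D.map f ≫ t.app k ≫ V.hom = t.app j ≫ V.hom
        rw [← Category.assoc, this]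
        exact congrArg (· ≫ V.hom) (Category.comp_id _))
      map_id := fun j => Over.OverMorphism.ext (D.map_id j)
      map_comp := fun f g => Over.OverMorphism.ext (D.map_comp f g) }
  have hcomp : ∀ j : Jᵒᵖ, c.π.app j ≫ t.app j = c.π.app j₀ ≫ t.app j₀ := by
    have h1 : ∀ {i j : Jᵒᵖ} (_ : i ⟶ j), c.π.app i ≫ t.app i = c.π.app j ≫ t.app j := fun {i j} φ => by
      have h2 : D.map φ ≫ t.app j = t.app i := (t.naturality φ).trans (Category.comp_id _)
      rw [← h2, ← Category.assoc, c.w]
    intro j
    rw [← h1 (IsCofiltered.minToLeft j j₀), h1 (IsCofiltered.minToRight j j₀)]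
  let c' : Cone E :=
    { pt := Over.mk (c.π.app j₀ ≫ t.app j₀ ≫ V.hom)
      π :=
        { app := fun j => Over.homMk (c.π.app j) (by
            change c.π.app j ≫ t.app j ≫ V.hom = c.π.app j₀ ≫ t.app j₀ ≫ V.hom
            rw [← Category.assoc, hcomp, Category.assoc])
          naturality := fun j k f => Over.OverMorphism.ext (c.π.naturality f) } }
  have hc' : IsLimit ((Over.forget S).mapCone c') := hc
  have hpt : IsAffine c'.pt.left := by
    have := hD
    exact Scheme.isAffine_of_isLimit _ hc
  obtain ⟨h1, -⟩ := H E c' hc' (fun j => hD j) hpt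
  have hgU : g ≫ U.hom = c.π.app j₀ ≫ t.app j₀ ≫ V.hom := by
    rw [← Over.w h, ← Category.assoc, hg, Category.assoc]
  let g' : c'.pt ⟶ U := Over.homMk g hgU
  let y : E.obj j₀ ⟶ V := Over.homMk (t.app j₀)
  obtain ⟨j, φ, ⟨x⟩, hx1, hx2⟩ := h1 ⟨g'⟩ j₀ ⟨y⟩ (by
    change (⟨g' ≫ h⟩ : ULift _) = ⟨c'.π.app j₀ ≫ y⟩
    congr 1
    exact Over.OverMorphism.ext hg)
  refine ⟨j, x.left, ?_, ?_⟩
  · have h2 : x ≫ h = E.map φ ≫ y := congrArg ULift.down hx2
    have h3 : x.left ≫ h.left = D.map φ ≫ t.app j₀ := congrArg (fun m => m.left) h2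
    rw [h3]
    exact (t.naturality φ).trans (Category.comp_id _)
  · have h2 : c'.π.app j ≫ x = g' := congrArg ULift.down hx1
    exact congrArg (fun m => m.left) h2

/-- A relatively limit preserving morphism of sheaves is locally of finite presentation on charts. -/
theorem locP_of_isRelLimitPreserving {F G : Sp S} {f : F ⟶ G} (H : IsRelLimitPreserving f.hom) :
    LocP @LocallyOfFinitePresentation f := by
  intro U V a b h ha hb e
  have et : ∀ {F G : Sp S} {g : F ⟶ G}, RepWith @Etale g → IsRelLimitPreserving g.hom := fun {F G g} hg =>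
    isRelLimitPreserving_of_repWith ⟨hg.1, fun _ _ q p v sq => by
      have : Etale v.left := hg.2 q p v sq
      change LocallyOfFinitePresentation v.left
      infer_instance⟩
  refine lfp_of_isRelLimitPreserving h ?_
  refine isRelLimitPreserving_of_comp (b := b.hom) ?_ (et hb)
  have h1 : ((yon S).map h).hom ≫ b.hom = a.hom ≫ f.hom := congrArg (fun k => k.hom) e.symm
  rw [h1]
  exact isRelLimitPreserving_comp (et ha) H

end K601.RelLimRep
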