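import Groth.Agent.AlgSp.K601.StageDesc
import Groth.Agent.S9186
import Groth.Agent.S9187
import Groth.Agent.S9189
import Groth.Agent.S9190
import Groth.Agent.S2074

/-!
# Descent of properties of morphisms of qcqs schemes to an affine stage
-/

set_option autoImplicit false
set_option backward.isDefEq.respectTransparency false
universe u

open CategoryTheory CategoryTheory.Limits AlgebraicGeometry

namespace K601.StDesc

/-- quasi-compact and quasi-separated schemes -/
def QCQS (X : Scheme.{u}) : Prop := CompactSpace X ∧ QuasiSeparatedSpace X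

theorem QCQS.of_isIso {A B : Scheme.{u}} (f : A ⟶ B) [IsIso f] (h : QCQS B) : QCQS A := by
  obtain ⟨h1, h2⟩ := h
  exact ⟨QuasiCompact.compactSpace_of_compactSpace f, quasiSeparatedSpace_of_quasiSeparated f⟩

/-- `P` of the base change to an affine limit, of a morphism with `Q` from a qcqs scheme to a stage, descends to
a stage. -/
def StageDescQ (Q P : MorphismProperty Scheme.{u}) : Prop := StageDescN QCQS Q P

theorem stageDescQ_affine : StageDescQ (⊤ : MorphismProperty Scheme.{u}) @IsAffineHom := by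
  intro I _ _ D c hc hD i₀ X₀ X f₀ f q ⟨hX₀, hX₀'⟩ sq hQ hP
  have hDa : ∀ (i j : I) (f : i ⟶ j), IsAffineHom (D.map f) := fun i j f => by
    have := hD i; have := hD j; infer_instance
  have := hD i₀
  have hP' : IsAffineHom f := hP
  obtain ⟨i, φ, Xi, Yi, fi, gi, pY, pX, h1, h2, h3⟩ := Groth.Agent.S9186.result D c hc i₀ f₀ (𝟙 _) f (𝟙 _)
    (c.π.app i₀) q IsPullback.of_id_snd sq
  exact ⟨i, φ, of_squares (P := @IsAffineHom) (D.map φ) f₀ fi gi pY pX h1 h2 h3⟩

theorem stageDescQ_separated : StageDescQ (⊤ : MorphismProperty Scheme.{u}) @IsSeparated := by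
  intro I _ _ D c hc hD i₀ X₀ X f₀ f q ⟨hX₀, hX₀'⟩ sq hQ hP
  have hDa : ∀ (i j : I) (f : i ⟶ j), IsAffineHom (D.map f) := fun i j f => by
    have := hD i; have := hD j; infer_instance
  have := hD i₀
  have hP' : IsSeparated f := hP
  obtain ⟨i, φ, Xi, Yi, fi, gi, pY, pX, h1, h2, h3⟩ := Groth.Agent.S9190.result D c hc i₀ f₀ (𝟙 _) f (𝟙 _)
    (c.π.app i₀) q IsPullback.of_id_snd sq
  exact ⟨i, φ, of_squares (P := @IsSeparated) (D.map φ) f₀ fi gi pY pX h1 h2 h3⟩

theorem stageDescQ_finite : StageDescQ @LocallyOfFiniteType.{u} @IsFinite := by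
  intro I _ _ D c hc hD i₀ X₀ X f₀ f q ⟨hX₀, hX₀'⟩ sq hQ hP
  have hDa : ∀ (i j : I) (f : i ⟶ j), IsAffineHom (D.map f) := fun i j f => by
    have := hD i; have := hD j; infer_instance
  have := hD i₀
  have hP' : IsFinite f := hP
  have hQ' : LocallyOfFiniteType f₀ := hQ
  obtain ⟨i, φ, Xi, Yi, fi, gi, pY, pX, h1, h2, h3⟩ := Groth.Agent.S9187.result D c hc i₀ f₀ (𝟙 _) f (𝟙 _)
    (c.π.app i₀) q IsPullback.of_id_snd sq
  exact ⟨i, φ, of_squares (P := @IsFinite) (D.map φ) f₀ fi gi pY pX h1 h2 h3⟩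

theorem stageDescQ_closedImmersion : StageDescQ @LocallyOfFiniteType.{u} @IsClosedImmersion := by
  intro I _ _ D c hc hD i₀ X₀ X f₀ f q ⟨hX₀, hX₀'⟩ sq hQ hP
  have hDa : ∀ (i j : I) (f : i ⟶ j), IsAffineHom (D.map f) := fun i j f => by
    have := hD i; have := hD j; infer_instance
  have := hD i₀
  have hP' : IsClosedImmersion f := hP
  have hQ' : LocallyOfFiniteType f₀ := hQ
  obtain ⟨i, φ, Xi, Yi, fi, gi, pY, pX, h1, h2, h3⟩ := Groth.Agent.S9189.result D c hc i₀ f₀ (𝟙 _) f (𝟙 _)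
    (c.π.app i₀) q IsPullback.of_id_snd sq
  exact ⟨i, φ, of_squares (P := @IsClosedImmersion) (D.map φ) f₀ fi gi pY pX h1 h2 h3⟩

theorem stageDescQ_proper : StageDescQ @LocallyOfFiniteType.{u} @IsProper := by
  intro I _ _ D c hc hD i₀ X₀ X f₀ f q ⟨hX₀, hX₀'⟩ sq hQ hP
  have hDa : ∀ (i j : I) (f : i ⟶ j), IsAffineHom (D.map f) := fun i j f => by
    have := hD i; have := hD j; infer_instance
  have := hD i₀
  have hP' : IsProper f := hP
  have hQ' : LocallyOfFiniteType f₀ := hQ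
  obtain ⟨i, φ, Xi, Yi, fi, gi, pY, pX, h1, h2, h3⟩ := Groth.Agent.S2074.result D c hc i₀ f₀ (𝟙 _) f (𝟙 _)
    (c.π.app i₀) q IsPullback.of_id_snd sq
  exact ⟨i, φ, of_squares (P := @IsProper) (D.map φ) f₀ fi gi pY pX h1 h2 h3⟩

end K601.StDesc
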