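import Groth.Agent.AlgSp.K601.RelDesc
import Groth.Agent.AlgSp.K601.StageDescQ
import Groth.Agent.AlgSp.K595.DescInst
import Groth.Agent.AlgSp.K595.DiagRel

/-!
# Descent of properties of representable morphisms of algebraic spaces to a stage of a cofiltered limit
-/

set_option autoImplicit false
set_option backward.isDefEq.respectTransparency false
universe u

open CategoryTheory CategoryTheory.Limits AlgebraicGeometry Opposite
open AlgSp

namespace K601.RelRep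

open K601.RelChart K601.RelDesc

variable {S : Scheme.{u}}

/-- base change of a represented pullback -/
theorem isPullback_rep_bc {X₀ Y₀ : Sp S} {f₀ : X₀ ⟶ Y₀} {U₀ V₀ : Over S} {v : (yon S).obj V₀ ⟶ Y₀} {g : U₀ ⟶ V₀}
    {u : (yon S).obj U₀ ⟶ X₀} (H : IsPullback u ((yon S).map g) f₀ v) {X'' Y' : Sp S} {p : Y' ⟶ Y₀}
    {f'' : X'' ⟶ Y'} {px : X'' ⟶ X₀}
    (hX : IsPullback px f'' f₀ p) {W : Over S} {w : (yon S).obj W ⟶ Y'} {r : W ⟶ V₀}
    (hw : IsPullback w ((yon S).map r) p v) {U' : Over S} {a : U' ⟶ U₀} {g' : U' ⟶ W}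
    (hU : IsPullback a g' g r) : ∃ u' : (yon S).obj U' ⟶ X'', IsPullback u' ((yon S).map g') f'' w := by
  have h1 : IsPullback ((yon S).map a ≫ u) ((yon S).map g') f₀ (w ≫ p) := by
    rw [hw.w]
    exact (hU.map (yon S)).paste_horiz H
  have h2 : ((yon S).map a ≫ u) ≫ f₀ = ((yon S).map g' ≫ w) ≫ p := by rw [h1.w, Category.assoc]
  exact ⟨hX.lift _ _ h2, IsPullback.of_right (by rw [hX.lift_fst]; exact h1) (hX.lift_snd _ _ _) hX⟩

section main

variable {I : Type u} [SmallCategory I] [IsCofiltered I] {D : I ⥤ Sp S}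
  (hDa : ∀ (i j : I) (φ : i ⟶ j), IsAffineMor (D.map φ)) {c : Cone D} (hc : IsLimit c)
  {i₀ : I} {X₀ Y₀ : Sp S} (f₀ : X₀ ⟶ Y₀) (b₀ : Y₀ ⟶ D.obj i₀)
  (hYqc : IsQuasiCompactSp Y₀)
  {X Y : Sp S} {f : X ⟶ Y} {pY : Y ⟶ Y₀} {qY : Y ⟶ c.pt} (hY : IsPullback pY qY b₀ (c.π.app i₀)) {pX : X ⟶ X₀}
  (hX : IsPullback pX f f₀ pY)

include hDa hc hYqc hY hX in
/-- Descent to a stage for representable quasi-compact quasi-separated morphisms. -/
theorem exists_ev_rep {P Q : MorphismProperty Scheme.{u}}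
    [P.IsStableUnderBaseChange] [Q.IsStableUnderBaseChange] [P.DescendsAlong K613.Cover.fppf.{u}]
    (hPQ : StDesc.StageDescQ Q P) (hqc : RepWith @QuasiCompact f₀) (hqs : RepWith @QuasiSeparated f₀)
    (h₀ : RepWith Q f₀) (hf : RepWith P f) : ∃ (i : I) (φ : i ⟶ i₀), Ev (RepWith P) D φ f₀ b₀ := by
  obtain ⟨V₀, v, hV₀, hv, hvs⟩ := K609.QC.exists_affine_chart hYqc
  obtain ⟨U₀, g, u, sq₀⟩ := h₀.1 v
  have hg1 : QuasiCompact g.left := hqc.2 v u g sq₀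
  have hg2 : QuasiSeparated g.left := hqs.2 v u g sq₀
  have hU₀ : StDesc.QCQS U₀.left := ⟨QuasiCompact.compactSpace_of_compactSpace g.left,
    quasiSeparatedSpace_of_quasiSeparated g.left⟩
  obtain ⟨i, φ, hi⟩ := exists_stageN (N := StDesc.QCQS) (fun f _ h => h.of_isIso f) hPQ hDa hc i₀ hU₀ hV₀ (v ≫ b₀) g
    (h₀.2 v u g sq₀) (fun V a b sq => by
      obtain ⟨w, hw, -⟩ := exists_chart_target hY sq
      obtain ⟨u', hu'⟩ := isPullback_rep_bc sq₀ hX hw (IsPullback.of_hasPullback g b)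
      exact hf.2 w u' _ hu')
  refine ⟨i, φ, fun j ψ Xj Yj fj pYj qYj h1 pXj h2 => ?_⟩
  obtain ⟨W, r, e, sq, -⟩ := hDa _ _ (ψ ≫ φ) hV₀ (v ≫ b₀)
  obtain ⟨w, hw, -⟩ := exists_chart_target h1 sq
  obtain ⟨u', hu'⟩ := isPullback_rep_bc sq₀ h2 hw (IsPullback.of_hasPullback g r)
  have hw' : K613.Cover.FSurj w := (K613.Cover.ESurj.of_repWith (K597.repWith_bc' _ hw hv)
    (K597.repWith_bc' _ hw hvs)).fSurj
  exact hw'.repWith hu' ((Representable (S := S)).of_isPullback h2 h₀.1)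
    ((repWith_yon_map_iff P _).2 (hi j ψ W e r sq))

end main

/-- the diagonal of a morphism of qs spaces is representable by quasi-compact, separated morphisms -/
theorem repWith_diagonal_quasiSeparated {X Y : Sp S} (hX : IsAlgSpace X) (f : X ⟶ Y) :
    RepWith @QuasiSeparated (pullback.diagonal f) :=
  K597.repWith_mono (fun _ _ g hg => by
    have : IsSeparated g := hg
    change QuasiSeparated g
    infer_instance) (K595.DiagRel.repWith_diagonal_isSeparated hX f)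

section main

variable [QuasiSeparatedSpace S] {I : Type u} [SmallCategory I] [IsCofiltered I] {D : I ⥤ Sp S}
  (hDa : ∀ (i j : I) (φ : i ⟶ j), IsAffineMor (D.map φ)) {c : Cone D} (hc : IsLimit c)
  {i₀ : I} {X₀ Y₀ : Sp S} (hX₀ : IsAlgSpace X₀) (hY₀ : IsAlgSpace Y₀) (f₀ : X₀ ⟶ Y₀) (b₀ : Y₀ ⟶ D.obj i₀)
  (hXqc : IsQuasiCompactSp X₀) (hXqs : IsQuasiSeparatedSp X₀) (hYqc : IsQuasiCompactSp Y₀)
  (hYqs : IsQuasiSeparatedSp Y₀)
  {X Y : Sp S} {f : X ⟶ Y} {pY : Y ⟶ Y₀} {qY : Y ⟶ c.pt} (hY : IsPullback pY qY b₀ (c.π.app i₀)) {pX : X ⟶ X₀}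
  (hX : IsPullback pX f f₀ pY)

include hDa hc hX₀ hY₀ hXqc hXqs hYqs hY hX in
theorem exists_ev_separated (hf : IsSeparatedMor f) : ∃ (i : I) (φ : i ⟶ i₀), Ev IsSeparatedMor D φ f₀ b₀ := by
  have := K595.DescInst.isClosedImmersion.{u}
  obtain ⟨i, φ, h⟩ := exists_ev_rep hDa hc (pullback.diagonal f₀) ((pullback.fst f₀ f₀ ≫ f₀) ≫ b₀)
    (isQuasiCompactSp_pullback hX₀ hY₀ f₀ hXqc hYqs) (isPullback_dmap_base hY hX) (isPullback_diagonal hX)
    StDesc.stageDescQ_closedImmersion (K613.Diag.repWith_diagonal_of_diag hXqs f₀)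
    (repWith_diagonal_quasiSeparated hX₀ f₀) (K595.DiagRel.repWith_diagonal_lft hX₀ f₀) hf
  exact ⟨i, φ, ev_of_diagonal f₀ b₀ h⟩

end main

end K601.RelRep
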