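import Groth.Agent.AlgSp.K601.PbDiag
import Groth.Agent.Smoothlim.FlatDescend
import Groth.Agent.S0591
import Mathlib.AlgebraicGeometry.Morphisms.UniversallyOpen

/-!
# Descent of properties of morphisms to a stage: scheme level wrappers, and descent of a flat (etale, ...) l.f.p.
affine scheme over an affine limit.
-/

set_option autoImplicit false
set_option backward.isDefEq.respectTransparency false
universe u

open CategoryTheory CategoryTheory.Limits AlgebraicGeometry
open Groth.Agent.Smoothlim.LimBase (DescendsAffine)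

namespace K601.Stage

/-- Descent of a property of a morphism to a stage of a cofiltered limit of schemes. -/
theorem exists_descend_stage {P Q : MorphismProperty Scheme.{u}} [P.IsStableUnderBaseChange]
    [IsZariskiLocalAtTarget P] [Q.IsStableUnderBaseChange] (hA : DescendsAffine Q P)
    {I : Type u} [SmallCategory I] [IsCofiltered I]
    (D : I ⥤ Scheme.{u}) (c : Cone D) (hc : IsLimit c)
    [∀ (i j : I) (f : i ⟶ j), IsAffineHom (D.map f)] (i₀ : I) [CompactSpace (D.obj i₀)]
    {X₀ X : Scheme.{u}} (f₀ : X₀ ⟶ D.obj i₀) (f : X ⟶ c.pt) (q : X ⟶ X₀)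
    (h : IsPullback q f f₀ (c.π.app i₀)) (hQ : Q f₀) (hP : P f) :
    ∃ (i : I) (φ : i ⟶ i₀), P (pullback.snd f₀ (D.map φ)) := by
  have hY : IsPullback (c.π.app i₀) (𝟙 c.pt) (𝟙 (D.obj i₀)) (c.π.app i₀) := IsPullback.of_id_snd
  obtain ⟨i, φ, hφ⟩ := Groth.Agent.Smoothlim.LimBase.exists_descend hA D c hc i₀ f₀ (𝟙 _) f (𝟙 _) (c.π.app i₀)
    q hY h hQ hP
  refine ⟨i, φ, ?_⟩
  have e : pullback.fst (𝟙 (D.obj i₀)) (D.map φ) = pullback.snd (𝟙 (D.obj i₀)) (D.map φ) ≫ D.map φ := by
    rw [← pullback.condition, Category.comp_id]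
  -- the projection `pullback (𝟙) (D.map φ) ⟶ D.obj i` is an isomorphism
  have h2 := Groth.Agent.Smoothlim.LimBase.snd_comp P f₀ _ (inv (pullback.snd (𝟙 (D.obj i₀)) (D.map φ))) hφ
  rwa [e, IsIso.inv_hom_id_assoc] at h2

/-- Once a property stable under base change holds at a stage it holds at every later stage. -/
theorem stage_mono {P : MorphismProperty Scheme.{u}} [P.IsStableUnderBaseChange]
    {I : Type u} [SmallCategory I] (D : I ⥤ Scheme.{u}) {i₀ i j : I} {X₀ : Scheme.{u}} (f₀ : X₀ ⟶ D.obj i₀)
    (φ : i ⟶ i₀) (ψ : j ⟶ i) (h : P (pullback.snd f₀ (D.map φ))) : P (pullback.snd f₀ (D.map (ψ ≫ φ))) := by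
  rw [D.map_comp]
  exact Groth.Agent.Smoothlim.LimBase.snd_comp P f₀ _ _ h

/-- A property of morphisms of schemes that can be used for the members of covers in limit arguments. -/
structure Admissible (P : MorphismProperty Scheme.{u}) : Prop where
  bc : P.IsStableUnderBaseChange
  loc : IsZariskiLocalAtTarget P
  desc : DescendsAffine (@LocallyOfFinitePresentation ⊓ @QuasiCompact) P
  isOpenMap : ∀ {X Y : Scheme.{u}} (f : X ⟶ Y), P f → LocallyOfFinitePresentation f → IsOpenMap f

theorem admissible_flat : Admissible (@Flat : MorphismProperty Scheme.{u}) where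
  bc := inferInstance
  loc := inferInstance
  desc := Groth.Agent.Smoothlim.LimBase.descendsAffine_flat
  isOpenMap f _ _ := f.isOpenMap

section member

variable {I : Type u} [SmallCategory I] [IsCofiltered I] (E : I ⥤ Scheme.{u}) (c : Cone E) (hc : IsLimit c)

include hc in
theorem exists_descend_scheme {P : MorphismProperty Scheme.{u}} (hAd : Admissible P)
    (hE : ∀ i, IsAffine (E.obj i)) {W : Scheme.{u}} (p : W ⟶ c.pt)
    [IsAffine W] (hp : P p) [LocallyOfFinitePresentation p] :
    ∃ (i : I) (W₀ : Scheme.{u}) (p₀ : W₀ ⟶ E.obj i) (q : W ⟶ W₀), IsAffine W₀ ∧ P p₀ ∧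
      LocallyOfFinitePresentation p₀ ∧ IsPullback q p p₀ (c.π.app i) := by
  have := hAd.bc
  have := hAd.loc
  have hEa : ∀ (i j : I) (f : i ⟶ j), IsAffineHom (E.map f) := fun i j f => by
    have := hE i; have := hE j; infer_instance
  have hT : IsAffine c.pt := Scheme.isAffine_of_isLimit _ hc
  obtain ⟨i, Xi, fi, g, h1, h2, h3, h4⟩ := Groth.Agent.S0591.result E c hc W p
  -- make it affine
  let F := Groth.Agent.Smoothlim.LimBase.pbDiag E i fi
  let cF : Cone F := Groth.Agent.Smoothlim.LimBase.pbCone i fi c g p h4.toCommSq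
  have hcF : IsLimit cF := Groth.Agent.Smoothlim.LimBase.isLimitPbCone i fi c hc g p h4
  have hFa : ∀ {a b : Over i} (f : a ⟶ b), IsAffineHom (F.map f) := fun f =>
    Groth.Agent.Smoothlim.LimBase.isAffineHom_pbDiag_map E i fi f
  have hFq (a : Over i) : QuasiCompact (pullback.snd fi (E.map a.hom)) := MorphismProperty.pullback_snd _ _ h2
  have hFs (a : Over i) : QuasiSeparated (pullback.snd fi (E.map a.hom)) := MorphismProperty.pullback_snd _ _ h3
  have hFc (a : Over i) : CompactSpace (F.obj a) := by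
    have := hE a.left
    exact QuasiCompact.compactSpace_of_compactSpace (pullback.snd fi (E.map a.hom))
  have hFqs (a : Over i) : QuasiSeparatedSpace (F.obj a) := by
    have := hE a.left
    exact quasiSeparatedSpace_of_quasiSeparated (pullback.snd fi (E.map a.hom))
  have : IsAffine cF.pt := ‹IsAffine W›
  obtain ⟨a, ha⟩ := Scheme.exists_isAffine_of_isLimit F cF hcF
  let j := a.left
  let fj : pullback fi (E.map a.hom) ⟶ E.obj j := pullback.snd fi (E.map a.hom)
  have hfj : LocallyOfFinitePresentation fj := MorphismProperty.pullback_snd _ _ h1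
  have hj : IsPullback (cF.π.app a) p fj (c.π.app j) := by
    have h5 : IsPullback (pullback.fst fi (E.map a.hom)) (pullback.snd fi (E.map a.hom)) fi (E.map a.hom) :=
      IsPullback.of_hasPullback _ _
    have h6 : IsPullback (cF.π.app a ≫ pullback.fst fi (E.map a.hom)) p fi (c.π.app a.left ≫ E.map a.hom) := by
      have e1 : cF.π.app a ≫ pullback.fst fi (E.map a.hom) = g := pullback.lift_fst _ _ _
      rw [e1, c.w]
      exact h4
    exact IsPullback.of_right h6 (pullback.lift_snd _ _ _) h5
  have hA : IsAffine (pullback fi (E.map a.hom)) := ha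
  have := hE j
  obtain ⟨k, ψ, hk⟩ := exists_descend_stage hAd.desc E c hc j fj p
    (cF.π.app a) hj ⟨hfj, inferInstance⟩ hp
  have := hE k
  let W₀ := pullback fj (E.map ψ)
  have hW₀ : IsAffine W₀ := inferInstance
  have h7 : IsPullback (pullback.fst fj (E.map ψ)) (pullback.snd fj (E.map ψ)) fj (E.map ψ) :=
    IsPullback.of_hasPullback _ _
  have h8 : IsPullback (cF.π.app a) p fj (c.π.app k ≫ E.map ψ) := by rw [c.w]; exact hj
  refine ⟨k, W₀, pullback.snd fj (E.map ψ), pullback.lift (cF.π.app a) (p ≫ c.π.app k) (by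
    rw [Category.assoc, c.w, hj.w]), hW₀, hk, MorphismProperty.pullback_snd _ _ hfj, ?_⟩
  refine IsPullback.of_right ?_ (pullback.lift_snd _ _ _) h7
  rw [pullback.lift_fst]
  exact h8

end member

end K601.Stage
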