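import Groth.Agent.AlgSp.K605.LfpLim
import Groth.Agent.AlgSp.K601.RelLimSp
import Groth.Agent.AlgSp.K601.RelAff

/-!
# Descent of morphisms to a stage of a cofiltered limit of algebraic spaces

`Z₀ ⟶ D_{i₀}` quasi-compact and quasi-separated with base change `Z` to the limit; `r : R₀ ⟶ P₀` locally of finite
presentation.
-/

set_option autoImplicit false
set_option backward.isDefEq.respectTransparency false
universe u

open CategoryTheory CategoryTheory.Limits AlgebraicGeometry Opposite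
open AlgSp

namespace K601.StageMor

open K605.LfpLim K605.SqEl K601.RelAff K601.RelDesc K601.PbDiag

variable {S : Scheme.{u}}

theorem affEl_of_locP {F G : Sp S} (hF : IsAlgSpace F) (hG : IsAlgSpace G) {f : F ⟶ G}
    (hf : LocP @LocallyOfFinitePresentation f) : AffEl f :=
  (affEl_iff f).2 (RelLimSp.isRelLimitPreserving_of_locP hF hG hf)

variable {I : Type u} [SmallCategory I] [IsCofiltered I] {D : I ⥤ Sp S}
  (hD : ∀ i, IsAlgSpace (D.obj i))
  (hDa : ∀ (i j : I) (φ : i ⟶ j), IsAffineMor (D.map φ)) {c : Cone D} (hc : IsLimit c)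
  {i₀ : I} {Z₀ R₀ P₀ Z : Sp S}

/-- the canonical map from the base change to the limit to the base change to a stage -/
noncomputable def toStage {z' : Z₀ ⟶ D.obj i₀} {qZ : Z ⟶ Z₀} {dZ : Z ⟶ c.pt} (w : qZ ≫ z' = dZ ≫ c.π.app i₀) {k : I}
    (φ : k ⟶ i₀) : Z ⟶ pullback z' (D.map φ) :=
  pullback.lift qZ (dZ ≫ c.π.app k) (by rw [Category.assoc, c.w, w])

omit [IsCofiltered I] in
@[reassoc]
theorem toStage_fst {z' : Z₀ ⟶ D.obj i₀} {qZ : Z ⟶ Z₀} {dZ : Z ⟶ c.pt} (w : qZ ≫ z' = dZ ≫ c.π.app i₀) {k : I}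
    (φ : k ⟶ i₀) : toStage w φ ≫ pullback.fst z' (D.map φ) = qZ := pullback.lift_fst _ _ _

omit [IsCofiltered I] in
@[reassoc]
theorem toStage_snd {z' : Z₀ ⟶ D.obj i₀} {qZ : Z ⟶ Z₀} {dZ : Z ⟶ c.pt} (w : qZ ≫ z' = dZ ≫ c.π.app i₀) {k : I}
    (φ : k ⟶ i₀) : toStage w φ ≫ pullback.snd z' (D.map φ) = dZ ≫ c.π.app k := pullback.lift_snd _ _ _

omit [IsCofiltered I] in
theorem isPullback_toStage {z' : Z₀ ⟶ D.obj i₀} {qZ : Z ⟶ Z₀} {dZ : Z ⟶ c.pt} (sq : IsPullback qZ dZ z' (c.π.app i₀))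
    {k : I} (φ : k ⟶ i₀) : IsPullback (toStage sq.w φ) dZ (pullback.snd z' (D.map φ)) (c.π.app k) := by
  refine IsPullback.of_right ?_ (toStage_snd sq.w φ) (IsPullback.of_hasPullback z' (D.map φ))
  rw [toStage_fst, c.w]
  exact sq

include hD hDa hc in
/-- A map from the limit which lies over a map from a stage comes from a later stage. -/
theorem exists_factor [QuasiSeparatedSpace S] (hZ : IsAlgSpace Z₀) (hZc : IsQuasiCompactSp Z₀)
    (hZs : IsQuasiSeparatedSp Z₀) {r : R₀ ⟶ P₀} (hr : AffEl r) {z' : Z₀ ⟶ D.obj i₀} {qZ : Z ⟶ Z₀} {dZ : Z ⟶ c.pt}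
    (sq : IsPullback qZ dZ z' (c.π.app i₀)) (z : Z₀ ⟶ P₀) (ζ : Z ⟶ R₀) (h : ζ ≫ r = qZ ≫ z) :
    ∃ (k : I) (φ : k ⟶ i₀) (x : pullback z' (D.map φ) ⟶ R₀), toStage sq.w φ ≫ x = ζ ∧
      x ≫ r = pullback.fst z' (D.map φ) ≫ z := by
  have hfst (j : Over i₀) : IsAffineMor (pullback.fst z' (D.map j.hom)) :=
    isAffineMor_bc (IsPullback.of_hasPullback z' (D.map j.hom)).flip (hDa _ _ j.hom)
  obtain ⟨j, φ, x, h1, h2⟩ := surj_of_affEl hr (D := pbDiag D i₀ z')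
    (fun j => K613.Chart.isAlgSpace_pullback hZ (hD j.left) (hD i₀) z' (D.map j.hom))
    (fun j k φ => isAffineMor_bc (isPullback_pbDiag_map D i₀ z' φ).flip (hDa _ _ φ.left))
    (isLimitPbCone i₀ z' c hc qZ dZ sq) (Over.mk (𝟙 i₀)) (isQuasiCompactSp_of_affine (hfst _) hZc)
    (isQuasiSeparatedSp_of_affine (hfst _) hZs) (pullback.fst z' (D.map (𝟙 i₀)) ≫ z) ζ (by
      rw [h, ← Category.assoc]
      congr 1
      exact (pullback.lift_fst _ _ _).symm)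
  refine ⟨j.left, j.hom, x, h1, h2.trans ?_⟩
  rw [← Category.assoc]
  congr 1
  exact pbDiag_map_fst D i₀ z' φ

include hDa hc in
/-- Two maps from a stage which agree over a map of finite presentation and in the limit agree at a later stage. -/
theorem exists_eq (hZc : IsQuasiCompactSp Z₀) {r : R₀ ⟶ P₀} (hr : AffEl r) {z' : Z₀ ⟶ D.obj i₀} {qZ : Z ⟶ Z₀}
    {dZ : Z ⟶ c.pt} (sq : IsPullback qZ dZ z' (c.π.app i₀)) (x x' : Z₀ ⟶ R₀) (h : x ≫ r = x' ≫ r)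
    (h' : qZ ≫ x = qZ ≫ x') : ∃ (k : I) (φ : k ⟶ i₀), pullback.fst z' (D.map φ) ≫ x =
      pullback.fst z' (D.map φ) ≫ x' := by
  have hfst (j : Over i₀) : IsAffineMor (pullback.fst z' (D.map j.hom)) :=
    isAffineMor_bc (IsPullback.of_hasPullback z' (D.map j.hom)).flip (hDa _ _ j.hom)
  have e : (pbCone i₀ z' c qZ dZ sq.toCommSq).π.app (Over.mk (𝟙 i₀)) ≫ pullback.fst z' (D.map (𝟙 i₀)) = qZ :=
    pullback.lift_fst _ _ _
  obtain ⟨j, φ, h1⟩ := inj_of_affEl hr (D := pbDiag D i₀ z')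
    (fun j k φ => isAffineMor_bc (isPullback_pbDiag_map D i₀ z' φ).flip (hDa _ _ φ.left))
    (isLimitPbCone i₀ z' c hc qZ dZ sq) (Over.mk (𝟙 i₀)) (isQuasiCompactSp_of_affine (hfst _) hZc)
    (pullback.fst z' (D.map (𝟙 i₀)) ≫ x) (pullback.fst z' (D.map (𝟙 i₀)) ≫ x') (by
      rw [Category.assoc, Category.assoc, h]) (by
      rw [← Category.assoc, ← Category.assoc, e, h'])
  have e2 : (pbDiag D i₀ z').map φ ≫ pullback.fst z' (D.map (𝟙 i₀)) = pullback.fst z' (D.map j.hom) :=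
    pbDiag_map_fst D i₀ z' φ
  refine ⟨j.left, j.hom, ?_⟩
  rw [← e2, Category.assoc, Category.assoc]
  exact h1

end K601.StageMor
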