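import Groth.Agent.AlgSp.K601.StageMor
import Groth.Prelude.Def_AlgSpGpd

/-!
# Etale equivalence relations descend to a stage
-/

set_option autoImplicit false
set_option backward.isDefEq.respectTransparency false
universe u

open CategoryTheory CategoryTheory.Limits AlgebraicGeometry Opposite
open AlgSp

namespace K601.StageRel

open K605.LfpLim K601.RelAff K601.RelDesc K601.PbDiag K601.StageMor

variable {S : Scheme.{u}} {I : Type u} [SmallCategory I] {D : I ⥤ Sp S}

/-- A relation over `D_i` inducing the relation `s', t' : R' ⟶ U'` over the limit. -/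
structure LRel (c : Cone D) (i : I) {U' R' : Sp S} (u' : U' ⟶ c.pt) (s' t' : R' ⟶ U') where
  U : Sp S
  R : Sp S
  u : U ⟶ D.obj i
  s : R ⟶ U
  t : R ⟶ U
  w : s ≫ u = t ≫ u
  qU : U' ⟶ U
  qR : R' ⟶ R
  sqU : IsPullback qU u' u (c.π.app i)
  sqR : IsPullback qR s' s qU
  ct : t' ≫ qU = qR ≫ t

namespace LRel

variable {c : Cone D} {i : I} {U' R' : Sp S} {u' : U' ⟶ c.pt} {s' t' : R' ⟶ U'} (w' : s' ≫ u' = t' ≫ u')
  (L : LRel c i u' s' t')

theorem sqR' : IsPullback L.qR (s' ≫ u') (L.s ≫ L.u) (c.π.app i) := L.sqR.paste_vert L.sqU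

include w' in
theorem sqRt : IsPullback L.qR t' L.t L.qU := by
  refine IsPullback.of_bot ?_ L.ct.symm L.sqU
  rw [← w', ← L.w]
  exact L.sqR'

/-- restriction to a later stage -/
noncomputable def bc {k : I} (φ : k ⟶ i) : LRel c k u' s' t' where
  U := pullback L.u (D.map φ)
  R := pullback (L.s ≫ L.u) (D.map φ)
  u := pullback.snd _ _
  s := pullback.lift (pullback.fst _ _ ≫ L.s) (pullback.snd _ _) (by rw [Category.assoc, pullback.condition])
  t := pullback.lift (pullback.fst _ _ ≫ L.t) (pullback.snd _ _) (by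
    rw [Category.assoc, ← L.w, pullback.condition])
  w := by rw [pullback.lift_snd, pullback.lift_snd]
  qU := toStage L.sqU.w φ
  qR := toStage L.sqR'.w φ
  sqU := isPullback_toStage L.sqU φ
  sqR := by
    refine IsPullback.of_bot ?_ ?_ (isPullback_toStage L.sqU φ)
    · rw [pullback.lift_snd]
      exact isPullback_toStage L.sqR' φ
    · apply pullback.hom_ext
      · rw [Category.assoc, pullback.lift_fst, toStage_fst_assoc, Category.assoc, toStage_fst, L.sqR.w]
      · rw [Category.assoc, pullback.lift_snd, toStage_snd, Category.assoc, Category.assoc, toStage_snd]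
  ct := by
    apply pullback.hom_ext
    · rw [Category.assoc, toStage_fst, Category.assoc, pullback.lift_fst, toStage_fst_assoc, L.ct]
    · rw [Category.assoc, toStage_snd, Category.assoc, pullback.lift_snd, toStage_snd, ← Category.assoc, w',
        Category.assoc]

variable {k : I} (φ : k ⟶ i)

@[reassoc]
theorem bc_s_fst : (L.bc w' φ).s ≫ pullback.fst L.u (D.map φ) = pullback.fst (L.s ≫ L.u) (D.map φ) ≫ L.s :=
  pullback.lift_fst _ _ _

@[reassoc]
theorem bc_t_fst : (L.bc w' φ).t ≫ pullback.fst L.u (D.map φ) = pullback.fst (L.s ≫ L.u) (D.map φ) ≫ L.t :=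
  pullback.lift_fst _ _ _

@[reassoc]
theorem bc_s_snd : (L.bc w' φ).s ≫ pullback.snd L.u (D.map φ) = pullback.snd (L.s ≫ L.u) (D.map φ) :=
  pullback.lift_snd _ _ _

@[reassoc]
theorem bc_t_snd : (L.bc w' φ).t ≫ pullback.snd L.u (D.map φ) = pullback.snd (L.s ≫ L.u) (D.map φ) :=
  pullback.lift_snd _ _ _

theorem isPullback_s : IsPullback (pullback.fst (L.s ≫ L.u) (D.map φ)) (L.bc w' φ).s L.s
    (pullback.fst L.u (D.map φ)) := by
  refine IsPullback.of_bot ?_ (L.bc_s_fst w' φ).symm (IsPullback.of_hasPullback L.u (D.map φ))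
  rw [bc_s_snd]
  exact IsPullback.of_hasPullback _ _

theorem isPullback_t : IsPullback (pullback.fst (L.s ≫ L.u) (D.map φ)) (L.bc w' φ).t L.t
    (pullback.fst L.u (D.map φ)) := by
  refine IsPullback.of_bot ?_ (L.bc_t_fst w' φ).symm (IsPullback.of_hasPullback L.u (D.map φ))
  rw [bc_t_snd, ← L.w]
  exact IsPullback.of_hasPullback _ _

/-- the map `(t, s)` -/
noncomputable def r : L.R ⟶ pullback L.u L.u := pullback.lift L.t L.s L.w.symm

@[reassoc]
theorem r_fst : L.r ≫ pullback.fst L.u L.u = L.t := pullback.lift_fst _ _ _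

@[reassoc]
theorem r_snd : L.r ≫ pullback.snd L.u L.u = L.s := pullback.lift_snd _ _ _

/-- finiteness properties -/
structure Fin : Prop where
  algU : IsAlgSpace L.U
  algR : IsAlgSpace L.R
  qcU : IsQuasiCompactSp L.U
  qsU : IsQuasiSeparatedSp L.U
  qcR : IsQuasiCompactSp L.R
  qsR : IsQuasiSeparatedSp L.R
  lfpU : LocP @LocallyOfFinitePresentation L.u
  lfps : LocP @LocallyOfFinitePresentation L.s

theorem lft_of_lfp {X Y : Sp S} {f : X ⟶ Y} (h : LocP @LocallyOfFinitePresentation f) :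
    LocP @LocallyOfFiniteType f :=
  K597.locP_mono (fun _ _ g hg => by
    have : LocallyOfFinitePresentation g := hg
    change LocallyOfFiniteType g
    infer_instance) h

theorem lfp_of_comp {X Y Z : Sp S} (hX : IsAlgSpace X) (hY : IsAlgSpace Y) (hZ : IsAlgSpace Z) {f : X ⟶ Y} {g : Y ⟶ Z}
    (h : LocP @LocallyOfFinitePresentation (f ≫ g)) (hg : LocP @LocallyOfFiniteType g) :
    LocP @LocallyOfFinitePresentation f :=
  K597.locP_of_comp K597.etLoc_lfp (Q := @LocallyOfFiniteType)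
    (fun _ _ _ u v h h' => Groth.Agent.UnramA.LfpOfComp.lfp_of_comp u v h h') hX.hasAtlas hY.hasAtlas hZ.hasAtlas h hg

section fin

variable {L} (hL : L.Fin) (hD : ∀ i, IsAlgSpace (D.obj i))

include hL hD in
theorem Fin.lfpt : LocP @LocallyOfFinitePresentation L.t := by
  refine lfp_of_comp hL.algR hL.algU (hD i) (g := L.u) ?_ (lft_of_lfp hL.lfpU)
  rw [← L.w]
  exact K597.locP_comp K597.etLoc_lfp hL.algR.hasAtlas hL.algU.hasAtlas (hD i).hasAtlas hL.lfps hL.lfpU

include hL hD in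
theorem Fin.algP : IsAlgSpace (pullback L.u L.u) := K613.Chart.isAlgSpace_pullback hL.algU hL.algU (hD i) _ _

include hL hD in
theorem Fin.lfpr : LocP @LocallyOfFinitePresentation L.r := by
  refine lfp_of_comp hL.algR (hL.algP hD) hL.algU (g := pullback.fst L.u L.u) ?_ ?_
  · rw [r_fst]
    exact hL.lfpt hD
  · exact K597.locP_bc K597.etLoc_lft (IsPullback.of_hasPullback L.u L.u).flip hL.algU.hasAtlas (hD i).hasAtlas
      hL.algU.hasAtlas (lft_of_lfp hL.lfpU)

include hL hD in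
theorem Fin.bc (hDa : ∀ (i j : I) (φ : i ⟶ j), IsAffineMor (D.map φ)) {k : I} (φ : k ⟶ i) : (L.bc w' φ).Fin where
  algU := K613.Chart.isAlgSpace_pullback hL.algU (hD k) (hD i) _ _
  algR := K613.Chart.isAlgSpace_pullback hL.algR (hD k) (hD i) _ _
  qcU := isQuasiCompactSp_of_affine (isAffineMor_bc (IsPullback.of_hasPullback L.u (D.map φ)).flip (hDa _ _ φ)) hL.qcU
  qsU := isQuasiSeparatedSp_of_affine (isAffineMor_bc (IsPullback.of_hasPullback L.u (D.map φ)).flip (hDa _ _ φ))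
    hL.qsU
  qcR := isQuasiCompactSp_of_affine (isAffineMor_bc (IsPullback.of_hasPullback (L.s ≫ L.u) (D.map φ)).flip
    (hDa _ _ φ)) hL.qcR
  qsR := isQuasiSeparatedSp_of_affine (isAffineMor_bc (IsPullback.of_hasPullback (L.s ≫ L.u) (D.map φ)).flip
    (hDa _ _ φ)) hL.qsR
  lfpU := K597.locP_bc K597.etLoc_lfp (IsPullback.of_hasPullback L.u (D.map φ)) hL.algU.hasAtlas (hD i).hasAtlas
    (hD k).hasAtlas hL.lfpU
  lfps := K597.locP_bc K597.etLoc_lfp (L.isPullback_s w' φ) hL.algR.hasAtlas hL.algU.hasAtlas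
    (K613.Chart.isAlgSpace_pullback hL.algU (hD k) (hD i) _ _).hasAtlas hL.lfps

end fin

section eqv

omit w' in
/-- existence of a factorization at a stage persists -/
theorem fac_mono {Z₀ R₀ P₀ : Sp S} {r : R₀ ⟶ P₀} {z' : Z₀ ⟶ D.obj i} {z : Z₀ ⟶ P₀} {k k' : I} (φ : k ⟶ i)
    (ψ : k' ⟶ k) (h : ∃ x : pullback z' (D.map φ) ⟶ R₀, x ≫ r = pullback.fst z' (D.map φ) ≫ z) :
    ∃ x : pullback z' (D.map (ψ ≫ φ)) ⟶ R₀, x ≫ r = pullback.fst z' (D.map (ψ ≫ φ)) ≫ z := by
  obtain ⟨x, hx⟩ := h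
  let b : pullback z' (D.map (ψ ≫ φ)) ⟶ pullback z' (D.map φ) :=
    pullback.lift (pullback.fst _ _) (pullback.snd _ _ ≫ D.map ψ) (by
      rw [Category.assoc, ← D.map_comp, pullback.condition])
  refine ⟨b ≫ x, ?_⟩
  rw [Category.assoc, hx, ← Category.assoc]
  congr 1
  exact pullback.lift_fst _ _ _

/-- The conditions at a stage which make the base change an equivalence relation. -/
structure Good {k : I} (φ : k ⟶ i) : Prop where
  mono : ∀ {T : Sp S} (a b : T ⟶ (L.bc w' φ).R), a ≫ (L.bc w' φ).t = b ≫ (L.bc w' φ).t →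
    a ≫ (L.bc w' φ).s = b ≫ (L.bc w' φ).s → a = b
  e : ∃ x : pullback L.u (D.map φ) ⟶ L.R, x ≫ L.r = pullback.fst L.u (D.map φ) ≫ pullback.diagonal L.u
  σ : ∃ x : pullback (L.s ≫ L.u) (D.map φ) ⟶ L.R, x ≫ L.r = pullback.fst (L.s ≫ L.u) (D.map φ) ≫
    pullback.lift L.s L.t L.w
  m : ∃ x : pullback (pullback.fst L.s L.t ≫ L.s ≫ L.u) (D.map φ) ⟶ L.R, x ≫ L.r =
    pullback.fst (pullback.fst L.s L.t ≫ L.s ≫ L.u) (D.map φ) ≫ pullback.lift (pullback.fst L.s L.t ≫ L.t)
      (pullback.snd L.s L.t ≫ L.s) (by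
        rw [Category.assoc, Category.assoc, ← L.w, ← Category.assoc, pullback.condition, Category.assoc, L.w])

variable {φ} in
theorem Good.isEqvRelSp (h : L.Good w' φ) : IsEqvRelSp (L.bc w' φ).s (L.bc w' φ).t where
  injective T r r' h1 h2 := h.mono r r' h1 h2
  equivalence T := by
    obtain ⟨e, he⟩ := h.e
    obtain ⟨σ, hσ⟩ := h.σ
    obtain ⟨m, hm⟩ := h.m
    have he1 : e ≫ L.t = pullback.fst L.u (D.map φ) := by
      have := congrArg (· ≫ pullback.fst L.u L.u) he
      simpa only [Category.assoc, r_fst, pullback.diagonal_fst, Category.comp_id] using this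
    have he2 : e ≫ L.s = pullback.fst L.u (D.map φ) := by
      have := congrArg (· ≫ pullback.snd L.u L.u) he
      simpa only [Category.assoc, r_snd, pullback.diagonal_snd, Category.comp_id] using this
    have hσ1 : σ ≫ L.t = pullback.fst (L.s ≫ L.u) (D.map φ) ≫ L.s := by
      have := congrArg (· ≫ pullback.fst L.u L.u) hσ
      simpa only [Category.assoc, r_fst, pullback.lift_fst] using this
    have hσ2 : σ ≫ L.s = pullback.fst (L.s ≫ L.u) (D.map φ) ≫ L.t := by
      have := congrArg (· ≫ pullback.snd L.u L.u) hσ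
      simpa only [Category.assoc, r_snd, pullback.lift_snd] using this
    have hm1 : m ≫ L.t = pullback.fst _ (D.map φ) ≫ pullback.fst L.s L.t ≫ L.t := by
      have := congrArg (· ≫ pullback.fst L.u L.u) hm
      simpa only [Category.assoc, r_fst, pullback.lift_fst] using this
    have hm2 : m ≫ L.s = pullback.fst _ (D.map φ) ≫ pullback.snd L.s L.t ≫ L.s := by
      have := congrArg (· ≫ pullback.snd L.u L.u) hm
      simpa only [Category.assoc, r_snd, pullback.lift_snd] using this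
    refine ⟨fun a => ?_, ?_, ?_⟩
    · -- reflexivity
      have w1 : (a ≫ e) ≫ L.s ≫ L.u = (a ≫ pullback.snd L.u (D.map φ)) ≫ D.map φ := by
        rw [Category.assoc, ← Category.assoc e, he2, Category.assoc, pullback.condition]
      refine ⟨pullback.lift (a ≫ e) (a ≫ pullback.snd L.u (D.map φ)) w1, ?_, ?_⟩
      · apply pullback.hom_ext
        · rw [Category.assoc, bc_t_fst, pullback.lift_fst_assoc, Category.assoc, he1]
        · rw [Category.assoc, bc_t_snd, pullback.lift_snd]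
      · apply pullback.hom_ext
        · rw [Category.assoc, bc_s_fst, pullback.lift_fst_assoc, Category.assoc, he2]
        · rw [Category.assoc, bc_s_snd, pullback.lift_snd]
    · -- symmetry
      rintro a b ⟨r, rfl, rfl⟩
      have w1 : (r ≫ σ) ≫ L.s ≫ L.u = (r ≫ pullback.snd (L.s ≫ L.u) (D.map φ)) ≫ D.map φ := by
        rw [Category.assoc, ← Category.assoc σ, hσ2, Category.assoc, ← L.w, pullback.condition, Category.assoc]
      refine ⟨pullback.lift (r ≫ σ) (r ≫ pullback.snd (L.s ≫ L.u) (D.map φ)) w1, ?_, ?_⟩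
      · apply pullback.hom_ext
        · rw [Category.assoc, bc_t_fst, pullback.lift_fst_assoc, Category.assoc, hσ1, Category.assoc, bc_s_fst]
        · rw [Category.assoc, bc_t_snd, pullback.lift_snd, Category.assoc, bc_s_snd]
      · apply pullback.hom_ext
        · rw [Category.assoc, bc_s_fst, pullback.lift_fst_assoc, Category.assoc, hσ2, Category.assoc, bc_t_fst]
        · rw [Category.assoc, bc_s_snd, pullback.lift_snd, Category.assoc, bc_t_snd]
    · -- transitivity
      rintro a b d ⟨r, rfl, rfl⟩ ⟨r', h1, rfl⟩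
      have h3 : (r ≫ pullback.fst (L.s ≫ L.u) (D.map φ)) ≫ L.s = (r' ≫ pullback.fst (L.s ≫ L.u) (D.map φ)) ≫ L.t := by
        have := congrArg (· ≫ pullback.fst L.u (D.map φ)) h1
        simp only [Category.assoc, bc_t_fst, bc_s_fst] at this ⊢
        exact this.symm
      have h4 : r ≫ pullback.snd (L.s ≫ L.u) (D.map φ) = r' ≫ pullback.snd (L.s ≫ L.u) (D.map φ) := by
        have := congrArg (· ≫ pullback.snd L.u (D.map φ)) h1
        simp only [Category.assoc, bc_t_snd, bc_s_snd] at this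
        exact this.symm
      let q := pullback.lift _ _ h3
      have w0 : q ≫ pullback.fst L.s L.t ≫ L.s ≫ L.u = (r ≫ pullback.snd (L.s ≫ L.u) (D.map φ)) ≫ D.map φ := by
        rw [pullback.lift_fst_assoc, Category.assoc, pullback.condition, Category.assoc]
      let q' := pullback.lift q _ w0
      have hq1 : q' ≫ pullback.fst _ _ = q := pullback.lift_fst _ _ _
      have hq2 : q ≫ pullback.snd L.s L.t = r' ≫ pullback.fst (L.s ≫ L.u) (D.map φ) := pullback.lift_snd _ _ _
      have hq3 : q ≫ pullback.fst L.s L.t = r ≫ pullback.fst (L.s ≫ L.u) (D.map φ) := pullback.lift_fst _ _ _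
      have w1 : (q' ≫ m) ≫ L.s ≫ L.u = (r ≫ pullback.snd (L.s ≫ L.u) (D.map φ)) ≫ D.map φ := by
        rw [Category.assoc, ← Category.assoc m, hm2, Category.assoc, Category.assoc, ← Category.assoc q', hq1,
          ← Category.assoc q, hq2, Category.assoc, pullback.condition, ← Category.assoc, h4]
      refine ⟨pullback.lift (q' ≫ m) _ w1, ?_, ?_⟩
      · apply pullback.hom_ext
        · rw [Category.assoc, bc_t_fst, pullback.lift_fst_assoc, Category.assoc, hm1, ← Category.assoc q', hq1,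
            ← Category.assoc q, hq3, Category.assoc, Category.assoc, bc_t_fst]
        · rw [Category.assoc, bc_t_snd, pullback.lift_snd, Category.assoc, bc_t_snd]
      · apply pullback.hom_ext
        · rw [Category.assoc, bc_s_fst, pullback.lift_fst_assoc, Category.assoc, hm2, ← Category.assoc q', hq1,
            ← Category.assoc q, hq2, Category.assoc, Category.assoc, bc_s_fst]
        · rw [Category.assoc, bc_s_snd, pullback.lift_snd, Category.assoc, bc_s_snd, h4]

end eqv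

section limit

variable {L} [IsCofiltered I] [QuasiSeparatedSpace S] (hL : L.Fin) (hD : ∀ i, IsAlgSpace (D.obj i))
  (hDa : ∀ (i j : I) (φ : i ⟶ j), IsAffineMor (D.map φ)) (hc : IsLimit c)

include hL hD hDa hc in
theorem exists_e (h : ∃ e : U' ⟶ R', e ≫ s' = 𝟙 _ ∧ e ≫ t' = 𝟙 _) : ∃ (k : I) (φ : k ⟶ i),
    ∃ x : pullback L.u (D.map φ) ⟶ L.R, x ≫ L.r = pullback.fst L.u (D.map φ) ≫ pullback.diagonal L.u := by
  obtain ⟨e, he1, he2⟩ := h
  obtain ⟨k, φ, x, -, hx⟩ := exists_factor hD hDa hc hL.algU hL.qcU hL.qsU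
    (affEl_of_locP hL.algR (hL.algP hD) (hL.lfpr hD)) L.sqU (pullback.diagonal L.u) (e ≫ L.qR) (by
      apply pullback.hom_ext
      · rw [Category.assoc, Category.assoc, r_fst, ← L.ct, ← Category.assoc, he2, Category.id_comp, Category.assoc,
          pullback.diagonal_fst, Category.comp_id]
      · rw [Category.assoc, Category.assoc, r_snd, L.sqR.w, ← Category.assoc, he1, Category.id_comp, Category.assoc,
          pullback.diagonal_snd, Category.comp_id])
  exact ⟨k, φ, x, hx⟩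

include hL hD hDa hc in
theorem exists_σ (h : ∃ σ : R' ⟶ R', σ ≫ s' = t' ∧ σ ≫ t' = s') : ∃ (k : I) (φ : k ⟶ i),
    ∃ x : pullback (L.s ≫ L.u) (D.map φ) ⟶ L.R, x ≫ L.r = pullback.fst (L.s ≫ L.u) (D.map φ) ≫
      pullback.lift L.s L.t L.w := by
  obtain ⟨σ, h1, h2⟩ := h
  obtain ⟨k, φ, x, -, hx⟩ := exists_factor hD hDa hc hL.algR hL.qcR hL.qsR
    (affEl_of_locP hL.algR (hL.algP hD) (hL.lfpr hD)) L.sqR' (pullback.lift L.s L.t L.w) (σ ≫ L.qR) (by
      apply pullback.hom_ext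
      · rw [Category.assoc, Category.assoc, r_fst, ← L.ct, ← Category.assoc, h2, Category.assoc,
          pullback.lift_fst, L.sqR.w]
      · rw [Category.assoc, Category.assoc, r_snd, L.sqR.w, ← Category.assoc, h1, Category.assoc,
          pullback.lift_snd, L.ct])
  exact ⟨k, φ, x, hx⟩

include hL hD hDa hc w' in
theorem exists_m (h : ∃ m : pullback s' t' ⟶ R', m ≫ t' = pullback.fst s' t' ≫ t' ∧
      m ≫ s' = pullback.snd s' t' ≫ s') : ∃ (k : I) (φ : k ⟶ i),
    ∃ x : pullback (pullback.fst L.s L.t ≫ L.s ≫ L.u) (D.map φ) ⟶ L.R, x ≫ L.r =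
    pullback.fst (pullback.fst L.s L.t ≫ L.s ≫ L.u) (D.map φ) ≫ pullback.lift (pullback.fst L.s L.t ≫ L.t)
      (pullback.snd L.s L.t ≫ L.s) (by
        rw [Category.assoc, Category.assoc, ← L.w, ← Category.assoc, pullback.condition, Category.assoc, L.w]) := by
  obtain ⟨m, h1, h2⟩ := h
  have sq := IsPullback.of_hasPullback L.s L.t
  -- the limit of the composable pairs
  let q : pullback s' t' ⟶ pullback L.s L.t := pullback.map s' t' L.s L.t L.qR L.qR L.qU L.sqR.w.symm L.ct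
  have hq1 : q ≫ pullback.fst L.s L.t = pullback.fst s' t' ≫ L.qR := pullback.lift_fst _ _ _
  have hq2 : q ≫ pullback.snd L.s L.t = pullback.snd s' t' ≫ L.qR := pullback.lift_snd _ _ _
  have sq1 : IsPullback q (pullback.snd s' t') (pullback.snd L.s L.t) L.qR := by
    have h3 : IsPullback (q ≫ pullback.fst L.s L.t) (pullback.snd s' t') L.s (L.qR ≫ L.t) := by
      rw [hq1, ← L.ct]
      exact (IsPullback.of_hasPullback s' t').paste_horiz L.sqR
    exact IsPullback.of_right h3 hq2 sq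
  have sq2 : IsPullback q (pullback.snd s' t' ≫ t' ≫ u') (pullback.snd L.s L.t ≫ L.t ≫ L.u) (c.π.app i) :=
    sq1.paste_vert ((L.sqRt w').paste_vert L.sqU)
  have e1 : pullback.snd L.s L.t ≫ L.t ≫ L.u = pullback.fst L.s L.t ≫ L.s ≫ L.u := by
    rw [← Category.assoc, ← pullback.condition, Category.assoc]
  rw [e1] at sq2
  have hA : IsAlgSpace (pullback L.s L.t) := K613.Chart.isAlgSpace_pullback hL.algR hL.algR hL.algU _ _
  have hC : IsQuasiCompactSp (pullback L.s L.t) :=
    K596.QC2.isQuasiCompactMor_of_qc_of_qs hL.algR hL.algU L.s hL.qcR hL.qsU hL.algR hL.qcR L.t _ _ sq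
  have hS : IsQuasiSeparatedSp (pullback L.s L.t) := K596.QC2.repWith_diag_of_isPullback hL.qsR hL.qsR sq
  obtain ⟨k, φ, x, -, hx⟩ := exists_factor hD hDa hc hA hC hS
    (affEl_of_locP hL.algR (hL.algP hD) (hL.lfpr hD)) sq2 (pullback.lift (pullback.fst L.s L.t ≫ L.t)
      (pullback.snd L.s L.t ≫ L.s) (by
        rw [Category.assoc, Category.assoc, ← L.w, ← Category.assoc, pullback.condition, Category.assoc, L.w]))
    (m ≫ L.qR) (by
      apply pullback.hom_ext
      · rw [Category.assoc, Category.assoc, r_fst, ← L.ct, ← Category.assoc, h1, Category.assoc, Category.assoc q,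
          pullback.lift_fst, ← Category.assoc q, hq1, Category.assoc, L.ct]
      · rw [Category.assoc, Category.assoc, r_snd, L.sqR.w, ← Category.assoc, h2, Category.assoc, Category.assoc q,
          pullback.lift_snd, ← Category.assoc q, hq2, Category.assoc, L.sqR.w])
  exact ⟨k, φ, x, hx⟩

include hL hD hDa hc w' in
theorem exists_mono (h : ∀ {T : Sp S} (a b : T ⟶ R'), a ≫ t' = b ≫ t' → a ≫ s' = b ≫ s' → a = b) :
    ∃ (k : I) (φ : k ⟶ i), Ev (fun _ _ g => Mono g) D φ L.r (pullback.fst L.u L.u ≫ L.u) := by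
  have sq := isPullback_dmap L.sqU
  let r' : R' ⟶ pullback u' u' := pullback.lift t' s' w'.symm
  have hr1 : r' ≫ pullback.fst u' u' = t' := pullback.lift_fst _ _ _
  have hr2 : r' ≫ pullback.snd u' u' = s' := pullback.lift_snd _ _ _
  have sqr : IsPullback L.qR r' L.r (dmap L.sqU.w) := by
    have h1 : IsPullback L.qR (r' ≫ pullback.fst u' u' ≫ u') (L.r ≫ pullback.fst L.u L.u ≫ L.u) (c.π.app i) := by
      rw [← Category.assoc, hr1, ← Category.assoc, r_fst, ← w', ← L.w]
      exact L.sqR'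
    refine IsPullback.of_bot h1 ?_ sq
    apply pullback.hom_ext
    · have e : dmap L.sqU.w ≫ pullback.fst L.u L.u = pullback.fst u' u' ≫ L.qU := pullback.lift_fst _ _ _
      rw [Category.assoc, Category.assoc, r_fst, e, ← Category.assoc, hr1, L.ct]
    · have e : dmap L.sqU.w ≫ pullback.snd L.u L.u = pullback.snd u' u' ≫ L.qU := pullback.lift_snd _ _ _
      rw [Category.assoc, Category.assoc, r_snd, e, ← Category.assoc, hr2, L.sqR.w]
  have : Mono r' := ⟨fun a b hab => h a b (by rw [← hr1, ← Category.assoc, hab, Category.assoc]) (by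
    rw [← hr2, ← Category.assoc, hab, Category.assoc])⟩
  exact exists_ev_mono hDa hc hL.algR (hL.algP hD) L.r (pullback.fst L.u L.u ≫ L.u) hL.qcR hL.qsR
    (isQuasiSeparatedSp_pullback L.u hL.qsU) sq sqr hD (lft_of_lfp (hL.lfpr hD))

omit [IsCofiltered I] [QuasiSeparatedSpace S] in
theorem mono_bc {k : I} {φ : k ⟶ i} (h : Ev (fun _ _ g => Mono g) D φ L.r (pullback.fst L.u L.u ≫ L.u))
    {T : Sp S} (a b : T ⟶ (L.bc w' φ).R) (h1 : a ≫ (L.bc w' φ).t = b ≫ (L.bc w' φ).t)
    (h2 : a ≫ (L.bc w' φ).s = b ≫ (L.bc w' φ).s) : a = b := by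
  let p₁ := pullback.fst (pullback.fst L.u L.u ≫ L.u) (D.map φ)
  let p₂ := pullback.snd (pullback.fst L.u L.u ≫ L.u) (D.map φ)
  have sq : IsPullback p₁ p₂ (pullback.fst L.u L.u ≫ L.u) (D.map φ) := IsPullback.of_hasPullback _ _
  have w1 : (pullback.fst (L.s ≫ L.u) (D.map φ) ≫ L.r) ≫ pullback.fst L.u L.u ≫ L.u =
      pullback.snd (L.s ≫ L.u) (D.map φ) ≫ D.map φ := by
    rw [Category.assoc, ← Category.assoc L.r, r_fst, ← L.w, pullback.condition]
  let rk : pullback (L.s ≫ L.u) (D.map φ) ⟶ pullback (pullback.fst L.u L.u ≫ L.u) (D.map φ) := sq.lift _ _ w1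
  have hr1 : rk ≫ p₁ = pullback.fst (L.s ≫ L.u) (D.map φ) ≫ L.r := sq.lift_fst _ _ _
  have hr2 : rk ≫ p₂ = pullback.snd (L.s ≫ L.u) (D.map φ) := sq.lift_snd _ _ _
  have sq2 : IsPullback (pullback.fst (L.s ≫ L.u) (D.map φ)) rk L.r p₁ := by
    refine IsPullback.of_bot ?_ hr1.symm sq
    rw [hr2, ← Category.assoc, r_fst, ← L.w]
    exact IsPullback.of_hasPullback _ _
  have hm : Mono rk := h k (𝟙 k) _ _ rk p₁ p₂ (by rw [Category.id_comp]; exact sq) _ sq2
  rw [← cancel_mono rk]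
  have e1 := congrArg (· ≫ pullback.fst L.u (D.map φ)) h1
  have e2 := congrArg (· ≫ pullback.fst L.u (D.map φ)) h2
  have e3 := congrArg (· ≫ pullback.snd L.u (D.map φ)) h1
  simp only [Category.assoc, bc_t_fst, bc_s_fst, bc_t_snd] at e1 e2 e3
  apply pullback.hom_ext
  · change (a ≫ rk) ≫ p₁ = (b ≫ rk) ≫ p₁
    rw [Category.assoc, Category.assoc, hr1]
    apply pullback.hom_ext
    · simp only [Category.assoc, r_fst]
      exact e1
    · simp only [Category.assoc, r_snd]
      exact e2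
  · change (a ≫ rk) ≫ p₂ = (b ≫ rk) ≫ p₂
    rw [Category.assoc, Category.assoc, hr2]
    exact e3

include hL hDa hc in
theorem exists_etale_s (h : LocP @Etale s') : ∃ (k : I) (φ : k ⟶ i), Ev (LocP @Etale) D φ L.s L.u :=
  exists_ev_locP hDa hc hL.algR hL.algU L.s L.u hL.qcR hL.qcU hL.qsU L.sqU L.sqR K597.etLoc_etale
    StDesc.stageDesc_etale hL.lfps h

include hL hD hDa hc w' in
theorem exists_etale_t (h : LocP @Etale t') : ∃ (k : I) (φ : k ⟶ i), Ev (LocP @Etale) D φ L.t L.u :=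
  exists_ev_locP hDa hc hL.algR hL.algU L.t L.u hL.qcR hL.qcU hL.qsU L.sqU (L.sqRt w') K597.etLoc_etale
    StDesc.stageDesc_etale (hL.lfpt hD) h

/-- An etale equivalence relation of finite presentation over the limit comes from a stage. -/
theorem exists_good (hL : L.Fin) (hD : ∀ i, IsAlgSpace (D.obj i))
    (hDa : ∀ (i j : I) (φ : i ⟶ j), IsAffineMor (D.map φ)) (hc : IsLimit c) {X : Sp S} {p : U' ⟶ X}
    (sq : IsPullback t' s' p p) (hs : LocP @Etale s') (ht : LocP @Etale t') :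
    ∃ (k : I) (φ : k ⟶ i), IsEqvRelSp (L.bc w' φ).s (L.bc w' φ).t ∧ LocP @Etale (L.bc w' φ).s ∧
      LocP @Etale (L.bc w' φ).t := by
  have h1 := exists_mono w' hL hD hDa hc (fun a b h1 h2 => sq.hom_ext h1 h2)
  have h2 := exists_e hL hD hDa hc ⟨sq.lift (𝟙 _) (𝟙 _) rfl, sq.lift_snd _ _ _, sq.lift_fst _ _ _⟩
  have h3 := exists_σ hL hD hDa hc ⟨sq.lift s' t' sq.w.symm, sq.lift_snd _ _ _, sq.lift_fst _ _ _⟩
  have h4 := exists_m w' hL hD hDa hc ⟨sq.lift (pullback.fst s' t' ≫ t') (pullback.snd s' t' ≫ s') (by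
    rw [Category.assoc, sq.w, ← Category.assoc, pullback.condition, Category.assoc, Category.assoc, sq.w]),
    sq.lift_fst _ _ _, sq.lift_snd _ _ _⟩
  have h5 := exists_etale_s hL hDa hc hs
  have h6 := exists_etale_t w' hL hD hDa hc ht
  have h12 := exists_common (A := fun k φ => Ev (fun _ _ g => Mono g) D φ L.r (pullback.fst L.u L.u ≫ L.u))
    (B := fun k φ => ∃ x : pullback L.u (D.map φ) ⟶ L.R, x ≫ L.r = pullback.fst L.u (D.map φ) ≫
      pullback.diagonal L.u) (fun φ ψ h => h.mono ψ) (fun φ ψ h => fac_mono φ ψ h) h1 h2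
  have h34 := exists_common (A := fun k φ => ∃ x : pullback (L.s ≫ L.u) (D.map φ) ⟶ L.R, x ≫ L.r =
      pullback.fst (L.s ≫ L.u) (D.map φ) ≫ pullback.lift L.s L.t L.w)
    (B := fun k φ => ∃ x : pullback (pullback.fst L.s L.t ≫ L.s ≫ L.u) (D.map φ) ⟶ L.R, x ≫ L.r =
    pullback.fst (pullback.fst L.s L.t ≫ L.s ≫ L.u) (D.map φ) ≫ pullback.lift (pullback.fst L.s L.t ≫ L.t)
      (pullback.snd L.s L.t ≫ L.s) (by
        rw [Category.assoc, Category.assoc, ← L.w, ← Category.assoc, pullback.condition, Category.assoc, L.w]))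
    (fun φ ψ h => fac_mono φ ψ h) (fun φ ψ h => fac_mono φ ψ h) h3 h4
  have h56 := exists_common (A := fun k φ => Ev (LocP @Etale) D φ L.s L.u)
    (B := fun k φ => Ev (LocP @Etale) D φ L.t L.u) (fun φ ψ h => h.mono ψ) (fun φ ψ h => h.mono ψ) h5 h6
  have h1234 := exists_common (A := fun k φ => Ev (fun _ _ g => Mono g) D φ L.r (pullback.fst L.u L.u ≫ L.u) ∧
      ∃ x : pullback L.u (D.map φ) ⟶ L.R, x ≫ L.r = pullback.fst L.u (D.map φ) ≫ pullback.diagonal L.u)
    (B := fun k φ => (∃ x : pullback (L.s ≫ L.u) (D.map φ) ⟶ L.R, x ≫ L.r =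
      pullback.fst (L.s ≫ L.u) (D.map φ) ≫ pullback.lift L.s L.t L.w) ∧
      ∃ x : pullback (pullback.fst L.s L.t ≫ L.s ≫ L.u) (D.map φ) ⟶ L.R, x ≫ L.r =
    pullback.fst (pullback.fst L.s L.t ≫ L.s ≫ L.u) (D.map φ) ≫ pullback.lift (pullback.fst L.s L.t ≫ L.t)
      (pullback.snd L.s L.t ≫ L.s) (by
        rw [Category.assoc, Category.assoc, ← L.w, ← Category.assoc, pullback.condition, Category.assoc, L.w]))
    (fun φ ψ h => ⟨h.1.mono ψ, fac_mono φ ψ h.2⟩) (fun φ ψ h => ⟨fac_mono φ ψ h.1, fac_mono φ ψ h.2⟩) h12 h34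
  obtain ⟨k, φ, ⟨⟨a1, a2⟩, a3, a4⟩, a5, a6⟩ := exists_common
    (A := fun k φ => (Ev (fun _ _ g => Mono g) D φ L.r (pullback.fst L.u L.u ≫ L.u) ∧
      ∃ x : pullback L.u (D.map φ) ⟶ L.R, x ≫ L.r = pullback.fst L.u (D.map φ) ≫ pullback.diagonal L.u) ∧
      (∃ x : pullback (L.s ≫ L.u) (D.map φ) ⟶ L.R, x ≫ L.r =
      pullback.fst (L.s ≫ L.u) (D.map φ) ≫ pullback.lift L.s L.t L.w) ∧
      ∃ x : pullback (pullback.fst L.s L.t ≫ L.s ≫ L.u) (D.map φ) ⟶ L.R, x ≫ L.r =
    pullback.fst (pullback.fst L.s L.t ≫ L.s ≫ L.u) (D.map φ) ≫ pullback.lift (pullback.fst L.s L.t ≫ L.t)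
      (pullback.snd L.s L.t ≫ L.s) (by
        rw [Category.assoc, Category.assoc, ← L.w, ← Category.assoc, pullback.condition, Category.assoc, L.w]))
    (B := fun k φ => Ev (LocP @Etale) D φ L.s L.u ∧ Ev (LocP @Etale) D φ L.t L.u)
    (fun φ ψ h => ⟨⟨h.1.1.mono ψ, fac_mono φ ψ h.1.2⟩, fac_mono φ ψ h.2.1, fac_mono φ ψ h.2.2⟩)
    (fun φ ψ h => ⟨h.1.mono ψ, h.2.mono ψ⟩) h1234 h56
  have sqU : IsPullback (pullback.fst L.u (D.map φ)) (pullback.snd L.u (D.map φ)) L.u (D.map (𝟙 k ≫ φ)) := by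
    rw [Category.id_comp]
    exact IsPullback.of_hasPullback _ _
  exact ⟨k, φ, Good.isEqvRelSp w' L ⟨fun a b => mono_bc w' a1 a b, a2, a3, a4⟩,
    a5 k (𝟙 k) _ _ _ _ _ sqU _ (L.isPullback_s w' φ), a6 k (𝟙 k) _ _ _ _ _ sqU _ (L.isPullback_t w' φ)⟩

end limit

end LRel

end K601.StageRel
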